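import Mathlib

/-!
# Arithmetic excluding semidihedral Sylow 2-subgroups with cyclic odd Sylow subgroups

`g`, `c`, `w` stand for the orders of the group, of an involution centralizer and of the centralizer
of a four-group; `Q = ε p` and `A` are the character data of Brauer's order formula.  The valuations
at the primes of `p + σ` (the multiple of four) and at `p` leave only `p = 5`.
-/

set_option autoImplicit false

namespace Cfsg.Agent.Solv.AlmostCyclic

section Val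

variable {r : ℕ} [hr : Fact r.Prime]

theorem v_zero {x : ℤ} (h : ¬ (r : ℤ) ∣ x) : padicValInt r x = 0 :=
  padicValInt.eq_zero_of_not_dvd h

theorem v_ne {x : ℤ} (hx : x ≠ 0) (h : (r : ℤ) ∣ x) : 1 ≤ padicValInt r x :=
  ((padicValInt_dvd_iff (p := r) 1 x).1 (by rwa [pow_one])).resolve_left hx

theorem v_dvd {x : ℤ} {k : ℕ} (h : k ≤ padicValInt r x) : (r : ℤ) ^ k ∣ x :=
  (pow_dvd_pow _ h).trans (padicValInt_dvd x)

theorem v_le {x : ℤ} (hx : x ≠ 0) {k : ℕ} (h : (r : ℤ) ^ k ∣ x) : k ≤ padicValInt r x :=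
  ((padicValInt_dvd_iff (p := r) k x).1 h).resolve_left hx

theorem v_nat (n : ℕ) : padicValInt r (n : ℤ) = padicValNat r n := padicValInt.of_nat

/-- Adding a multiple of a higher power keeps the valuation. -/
theorem v_add {x y : ℤ} (hx : x ≠ 0) {k : ℕ} (hk : padicValInt r x < k) (hy : (r : ℤ) ^ k ∣ y) :
    padicValInt r (x + y) = padicValInt r x := by
  set j := padicValInt r x with hj
  have hy' : (r : ℤ) ^ (j + 1) ∣ y := (pow_dvd_pow _ hk).trans hy
  have hnx : ¬ (r : ℤ) ^ (j + 1) ∣ x := fun h => by have := v_le hx h; omega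
  have hne : x + y ≠ 0 := fun h => hnx (by rw [eq_neg_of_add_eq_zero_left h]; exact hy'.neg_right)
  refine le_antisymm ?_ (v_le hne ((v_dvd le_rfl).add ((pow_dvd_pow _ hk.le).trans hy)))
  by_contra h
  exact hnx ((dvd_add_left hy').1 (v_dvd (k := j + 1) (by omega)))

theorem v_mul₂ {x y : ℤ} (hx : x ≠ 0) (hy : y ≠ 0) :
    padicValInt r (x * y) = padicValInt r x + padicValInt r y := padicValInt.mul hx hy

end Val

/-- Divisibility by all prime power divisors. -/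
theorem dvd_of_primes {n : ℕ} (hn : n ≠ 0) {x : ℤ}
    (h : ∀ r : ℕ, r.Prime → r ∣ n → (r : ℤ) ^ padicValNat r n ∣ x) : (n : ℤ) ∣ x := by
  refine Int.natCast_dvd.2 ((Nat.dvd_iff_prime_pow_dvd_dvd _ n).2 fun q k hq hqk => ?_)
  rcases Nat.eq_zero_or_pos k with rfl | hk
  · simp
  haveI : Fact q.Prime := ⟨hq⟩
  have h1 : k ≤ padicValNat q n := (padicValNat_dvd_iff_le hn).1 hqk
  have h2 := h q hq ((dvd_pow_self q hk.ne').trans hqk)
  rw [← Nat.cast_pow, Int.natCast_dvd] at h2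
  exact (pow_dvd_pow q h1).trans h2

/-- The case `ε = σ`. -/
theorem same_sign {p m : ℕ} {σ d : ℤ} (hp : 3 ≤ p) (hm : (m : ℤ) = p + σ) (hσ : σ = 1 ∨ σ = -1)
    (hm4 : 4 ∣ m) (hd : d ∣ (p : ℤ) - σ) (hne : d + ((p : ℤ) - σ) ≠ 0)
    (h : 2 * (m : ℤ) ∣ d + ((p : ℤ) - σ)) : p = 5 ∧ d = 2 ∧ σ = -1 := by
  have hw : (0 : ℤ) < (p : ℤ) - σ := by omega
  have hb : |d| ≤ (p : ℤ) - σ := by
    have := Int.le_of_dvd hw ((abs_dvd _ _).2 hd)
    exact this
  obtain ⟨k, hk⟩ := h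
  have hb' := abs_le.1 hb
  have hm' : (4 : ℤ) ≤ m := by
    obtain ⟨j, rfl⟩ := hm4
    omega
  have hk0 : k ≠ 0 := by rintro rfl; simp at hk; exact hne hk
  have hk1 : k = 1 := by
    have h1 : k < 2 := by
      by_contra h
      have : 2 * (m : ℤ) * 2 ≤ 2 * m * k := mul_le_mul_of_nonneg_left (by omega) (by omega)
      omega
    have h2 : 0 ≤ k := by nlinarith
    omega
  subst hk1
  have hdv : d ∣ 4 := by
    have : d = (m : ℤ) + 2 * σ := by linarith
    have h1 : d ∣ d - ((p : ℤ) - σ) := dvd_sub dvd_rfl hd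
    rw [show d - ((p : ℤ) - σ) = 4 * σ by linarith] at h1
    rcases hσ with rfl | rfl
    · simpa using h1
    · simpa using h1
  have hd4 : |d| ≤ 4 := Int.le_of_dvd (by norm_num) ((abs_dvd _ _).2 hdv)
  have := abs_le.1 hd4
  rcases hσ with rfl | rfl
  · have : d = (p : ℤ) + 3 := by linarith
    omega
  · have : d = (p : ℤ) - 3 := by linarith
    obtain ⟨j, rfl⟩ := hm4
    push_cast at hm
    omega

/-- The case `ε = -σ`. -/
theorem opp_sign {p m : ℕ} {σ e : ℤ} (hp : 3 ≤ p) (hm : (m : ℤ) = p + σ) (hσ : σ = 1 ∨ σ = -1)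
    (hm4 : 4 ∣ m) (he : e ∣ (p : ℤ) - σ) (hne : e + 1 ≠ 0)
    (h : (m : ℤ) ∣ e + 1) : p = 5 ∧ e = 3 ∧ σ = -1 := by
  have hw : (0 : ℤ) < (p : ℤ) - σ := by omega
  obtain ⟨f, hf⟩ := he
  obtain ⟨k, hk⟩ := h
  obtain ⟨j, hj⟩ := hm4
  have hj' : (m : ℤ) = 4 * j := by exact_mod_cast hj
  have hj1 : (1 : ℤ) ≤ j := by omega
  have hk0 : k ≠ 0 := by rintro rfl; simp at hk; exact hne hk
  have hf0 : f ≠ 0 := by rintro rfl; simp at hf; omega
  rcases eq_or_ne |f| 1 with hf1 | hf1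
  · -- `e = ± w`
    exfalso
    have h1 : (m : ℤ) ∣ 1 - 2 * σ ∨ (m : ℤ) ∣ 1 + 2 * σ := by
      rcases (abs_eq (by norm_num : (0 : ℤ) ≤ 1)).1 hf1 with rfl | rfl
      · exact Or.inl ⟨k - 1, by linarith⟩
      · exact Or.inr ⟨k + 1, by linarith⟩
    have : (4 : ℤ) ∣ 1 - 2 * σ ∨ (4 : ℤ) ∣ 1 + 2 * σ :=
      h1.imp (fun h => (Dvd.intro _ hj'.symm).trans h) (fun h => (Dvd.intro _ hj'.symm).trans h)
    omega
  · have hf2 : 2 ≤ |f| := by have := Int.one_le_abs hf0; omega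
    have he2 : 2 * |e| ≤ (p : ℤ) - σ := by
      have h1 : |e| * |f| = (p : ℤ) - σ := by rw [← abs_mul, ← hf, abs_of_pos hw]
      nlinarith [abs_nonneg e]
    have hmk : (m : ℤ) ≤ |e + 1| := by
      rw [hk, abs_mul, abs_of_nonneg (by positivity : (0 : ℤ) ≤ m)]
      nlinarith [Int.one_le_abs hk0]
    have h3 : |e + 1| ≤ |e| + 1 := (abs_add_le _ _).trans (by norm_num)
    have hj2 : j = 1 := by omega
    subst hj2
    have hσ' : σ = -1 ∧ p = 5 ∨ σ = 1 ∧ p = 3 := by omega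
    rcases hσ' with ⟨rfl, rfl⟩ | ⟨rfl, rfl⟩
    · have := abs_le.1 (show |e| ≤ 3 by push_cast at he2; omega)
      have := le_abs.1 hmk
      refine ⟨rfl, ?_, rfl⟩
      omega
    · push_cast at he2
      omega

variable {p : ℕ} [Fact p.Prime]

/-- The arithmetic conclusion. -/
theorem arith (hp2 : p ≠ 2) {m : ℕ} {σ : ℤ} (hσ : σ = 1 ∨ σ = -1) (hm : (m : ℤ) = p + σ) (hm4 : 4 ∣ m)
    {Q A B : ℤ} (hQ : Q = p ∨ Q = -(p : ℤ)) (hA : A ≠ 0) (hA1 : A ≠ 1)
    (hB : B * (A - Q ^ 2) = Q ^ 2 * (A - 1)) {g c w : ℕ} (hg : g ≠ 0) (hc : c ≠ 0) (hw : w ≠ 0)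
    (hord : (g : ℤ) * (w : ℤ) ^ 2 * (Q * (A - Q) ^ 2) = (c : ℤ) ^ 3 * ((Q - 1) * A * (A - 1)))
    (hp : padicValNat p g = padicValNat p c ∧ padicValNat p w < padicValNat p c)
    (hr : ∀ r : ℕ, r.Prime → r ∣ m →
      padicValNat r g = padicValNat r c ∧ padicValNat r w + padicValNat r m ≤ padicValNat r c) :
    p = 5 ∧ g * w ^ 2 * 400 = c ^ 3 * 357 := by
  have hpp : p.Prime := Fact.out
  have hp3 : 3 ≤ p := by have := hpp.two_le; omega
  obtain ⟨ε, hε, rfl⟩ : ∃ ε : ℤ, (ε = 1 ∨ ε = -1) ∧ Q = ε * p := by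
    rcases hQ with rfl | rfl
    exacts [⟨1, Or.inl rfl, (one_mul _).symm⟩, ⟨-1, Or.inr rfl, by ring⟩]
  have hε0 : ε ≠ 0 := by omega
  have hgZ : (g : ℤ) ≠ 0 := by exact_mod_cast hg
  have hcZ : (c : ℤ) ≠ 0 := by exact_mod_cast hc
  have hwZ : (w : ℤ) ≠ 0 := by exact_mod_cast hw
  have hpZ : (p : ℤ) ≠ 0 := by omega
  have hQ1 : ε * (p : ℤ) - 1 ≠ 0 := by rcases hε with rfl | rfl <;> omega
  have hA1' : A - 1 ≠ 0 := sub_ne_zero.2 hA1
  have hAQ : A - ε * p ≠ 0 := fun h => by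
    rw [h] at hord
    rw [zero_pow two_ne_zero, mul_zero, mul_zero] at hord
    exact mul_ne_zero (pow_ne_zero 3 hcZ) (mul_ne_zero (mul_ne_zero hQ1 hA) hA1') hord.symm
  -- the valuation at `p`
  have e1 := congrArg (padicValInt p) hord
  rw [v_mul₂ (mul_ne_zero hgZ (pow_ne_zero 2 hwZ)) (mul_ne_zero (mul_ne_zero hε0 hpZ) (pow_ne_zero 2 hAQ)),
    v_mul₂ hgZ (pow_ne_zero 2 hwZ), v_mul₂ (pow_ne_zero 3 hcZ) (mul_ne_zero (mul_ne_zero hQ1 hA) hA1'),
    v_mul₂ (mul_ne_zero hQ1 hA) hA1', v_mul₂ hQ1 hA, v_mul₂ (mul_ne_zero hε0 hpZ) (pow_ne_zero 2 hAQ),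
    v_mul₂ hε0 hpZ, pow_two, v_mul₂ hwZ hwZ, pow_two, v_mul₂ hAQ hAQ, pow_succ, pow_two,
    v_mul₂ (mul_ne_zero hcZ hcZ) hcZ, v_mul₂ hcZ hcZ, v_nat, v_nat, v_nat, v_nat,
    padicValNat.self hpp.one_lt,
    show padicValInt p (ε * (p : ℤ) - 1) = 0 from v_zero fun h =>
      hpp.not_dvd_one (Int.natCast_dvd_natCast.1 (by
        simpa using (dvd_sub_right (dvd_mul_left (p : ℤ) ε)).1 h)),
    show padicValInt p ε = 0 from v_zero fun h => by
      have := Int.le_of_dvd one_pos (show (p : ℤ) ∣ 1 by rcases hε with rfl | rfl <;> simpa using h)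
      omega] at e1
  have hvA : padicValInt p A = 1 := by
    have hpdQ : (p : ℤ) ∣ ε * p := dvd_mul_left _ _
    rcases lt_trichotomy (padicValInt p A) 1 with h | h | h
    · exfalso
      have h0 : ¬ (p : ℤ) ∣ A := fun hd => by have := v_ne hA hd; omega
      have h' : padicValInt p (A - ε * p) = 0 := v_zero fun hd => h0 ((dvd_sub_left hpdQ).1 hd)
      omega
    · exact h
    · exfalso
      have h1 : padicValInt p (A - ε * p) = 1 := by
        rw [show A - ε * p = -(ε * p) + A by ring, v_add (neg_ne_zero.2 (mul_ne_zero hε0 hpZ)) (k := 2) ?_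
          (v_dvd (by omega))]
        all_goals
          rw [show -(ε * (p : ℤ)) = (-ε) * p by ring, v_mul₂ (neg_ne_zero.2 hε0) hpZ,
            show padicValInt p (p : ℤ) = 1 from padicValInt_self,
            show padicValInt p (-ε) = 0 from v_zero fun h => by
              have := Int.le_of_dvd one_pos (show (p : ℤ) ∣ 1 by rcases hε with rfl | rfl <;> simpa using h)
              omega]
        omega
      have h0 : ¬ (p : ℤ) ∣ A - 1 := fun hd => hpp.not_dvd_one (Int.natCast_dvd_natCast.1 (by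
        simpa using (dvd_sub_right (v_dvd (r := p) (k := 1) (show 1 ≤ padicValInt p A by omega) |> fun h' =>
          (show (p : ℤ) ∣ A by simpa using h'))).1 hd))
      rw [h1, v_zero h0] at e1
      omega
  obtain ⟨a, rfl⟩ : (p : ℤ) ∣ A := by simpa using v_dvd (r := p) (k := 1) hvA.ge
  have ha0 : a ≠ 0 := fun h => hA (by rw [h, mul_zero])
  have hpa : ¬ (p : ℤ) ∣ a := fun h => by
    rw [v_mul₂ hpZ ha0, show padicValInt p (p : ℤ) = 1 from padicValInt_self] at hvA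
    have := v_ne ha0 h
    omega
  clear e1 hvA
  have hεsq : ε * ε = 1 := by rcases hε with rfl | rfl <;> norm_num
  -- `d = a - p` divides `p² - 1`
  set d := a - (p : ℤ) with hd
  have hpd : ¬ (p : ℤ) ∣ d := fun h => hpa (by have := h.add (dvd_refl (p : ℤ)); rwa [hd, sub_add_cancel] at this)
  have hd0 : d ≠ 0 := fun h => hpd (h ▸ dvd_zero _)
  have hBd : B * d = p * (p * a - 1) := by
    apply mul_left_cancel₀ hpZ
    linear_combination hB + ((p : ℤ) ^ 2 * (p * a - 1) + B * p ^ 2) * hεsq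
  have hdp : d ∣ (p : ℤ) ^ 2 - 1 := by
    have hcop : IsCoprime (p : ℤ) d := ((Nat.prime_iff_prime_int.1 hpp).coprime_iff_not_dvd).2 hpd
    have h1 : d ∣ (p : ℤ) * a - 1 := hcop.symm.dvd_of_dvd_mul_left ⟨B, by linear_combination -hBd⟩
    have : (p : ℤ) ^ 2 - 1 = (p * a - 1) - p * d := by rw [hd]; ring
    rw [this]
    exact h1.sub (dvd_mul_left _ _)
  have hpa1 : (p : ℤ) * a - 1 = p * d + ((p : ℤ) ^ 2 - 1) := by rw [hd]; ring
  have hae : a - ε = d + ((p : ℤ) - ε) := by rw [hd]; ring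
  have hred : (g : ℤ) * (w : ℤ) ^ 2 * ((p : ℤ) ^ 2 * (a - ε) ^ 2) =
      (c : ℤ) ^ 3 * ((((p : ℤ) - ε) * a) * (p * a - 1)) := by
    apply mul_left_cancel₀ (mul_ne_zero hε0 hpZ)
    linear_combination hord + (c : ℤ) ^ 3 * (p * a) * (p * a - 1) * hεsq
  have haε : a - ε ≠ 0 := fun h => hAQ (by linear_combination (p : ℤ) * h)
  have hpa10 : (p : ℤ) * a - 1 ≠ 0 := hA1'
  have hpε : (p : ℤ) - ε ≠ 0 := by omega
  -- the valuations at the primes of `m`
  have hm0 : m ≠ 0 := by omega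
  have hmw : (p : ℤ) ^ 2 - 1 = m * ((p : ℤ) - σ) := by
    rw [hm]; rcases hσ with rfl | rfl <;> ring
  have hval : ∀ r : ℕ, r.Prime → r ∣ m →
      ∃ K, padicValNat r m ≤ K ∧ 2 * padicValInt r (a - ε) =
        2 * K + padicValInt r ((p : ℤ) - ε) + padicValInt r a + padicValInt r (p * a - 1) := by
    intro r hrp hrm
    haveI : Fact r.Prime := ⟨hrp⟩
    obtain ⟨h1, h2⟩ := hr r hrp hrm
    have hrp' : ¬ (r : ℤ) ∣ (p : ℤ) := fun h => by
      have : r = p := (Nat.prime_dvd_prime_iff_eq hrp hpp).1 (Int.natCast_dvd_natCast.1 h)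
      subst this
      have h' : (r : ℤ) ∣ σ := by
        have h3 : (r : ℤ) ∣ (m : ℤ) := Int.natCast_dvd_natCast.2 hrm
        rw [hm] at h3
        exact (dvd_add_right h).1 h3
      have := Int.le_of_dvd one_pos (show (r : ℤ) ∣ 1 by rcases hσ with rfl | rfl <;> simpa using h')
      omega
    have e := congrArg (padicValInt r) hred
    rw [v_mul₂ (mul_ne_zero hgZ (pow_ne_zero 2 hwZ)) (mul_ne_zero (pow_ne_zero 2 hpZ) (pow_ne_zero 2 haε)),
      v_mul₂ hgZ (pow_ne_zero 2 hwZ), v_mul₂ (pow_ne_zero 3 hcZ) (mul_ne_zero (mul_ne_zero hpε ha0) hpa10),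
      v_mul₂ (mul_ne_zero hpε ha0) hpa10, v_mul₂ hpε ha0, v_mul₂ (pow_ne_zero 2 hpZ) (pow_ne_zero 2 haε),
      pow_two, v_mul₂ hwZ hwZ, pow_two, v_mul₂ hpZ hpZ, pow_two, v_mul₂ haε haε, pow_succ, pow_two,
      v_mul₂ (mul_ne_zero hcZ hcZ) hcZ, v_mul₂ hcZ hcZ, v_nat, v_nat, v_nat, v_nat,
      padicValNat.eq_zero_of_not_dvd fun h => hrp' (Int.natCast_dvd_natCast.2 h)] at e
    exact ⟨padicValNat r c - padicValNat r w, by omega, by omega⟩
  have hmdvd : ∀ r : ℕ, r.Prime → r ∣ m → (r : ℤ) ^ padicValNat r m ∣ (p : ℤ) ^ 2 - 1 := fun r hrp hrm => by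
    haveI : Fact r.Prime := ⟨hrp⟩
    rw [hmw]
    exact dvd_mul_of_dvd_left (v_dvd (v_nat (r := r) m).ge) _
  have h2m : 2 ∣ m := (show 2 ∣ 4 by norm_num).trans hm4
  rcases (show ε = σ ∨ ε = -σ by omega) with rfl | hεσ
  · -- `ε = σ`
    have hw2 : ¬ (4 : ℤ) ∣ (p : ℤ) - ε := by
      obtain ⟨j, rfl⟩ := hm4
      push_cast at hm
      omega
    have hev : (2 : ℤ) ∣ (p : ℤ) - ε := by
      obtain ⟨j, rfl⟩ := hm4
      push_cast at hm
      omega
    have hcases : ∀ r : ℕ, r.Prime → r ∣ m → (r : ℤ) ∣ d → r = 2 ∧ ¬ (4 : ℤ) ∣ d := by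
      intro r hrp hrm hrd
      haveI : Fact r.Prime := ⟨hrp⟩
      obtain ⟨K, hK, e⟩ := hval r hrp hrm
      have ht : 1 ≤ padicValNat r m := one_le_padicValNat_of_dvd hm0 hrm
      have hone : (r : ℤ) ∣ a - ε := by simpa using v_dvd (r := r) (k := 1) (by omega : 1 ≤ padicValInt r (a - ε))
      rw [hae] at hone
      have hrw : (r : ℤ) ∣ (p : ℤ) - ε := (dvd_add_right hrd).1 hone
      have hr2 : r = 2 := by
        have h3 : (r : ℤ) ∣ (m : ℤ) := Int.natCast_dvd_natCast.2 hrm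
        have h4 := h3.sub hrw
        rw [show (m : ℤ) - ((p : ℤ) - ε) = 2 * ε by rw [hm]; ring] at h4
        have : (r : ℤ) ∣ 2 := by rcases hε with rfl | rfl <;> simpa using h4
        exact (Nat.prime_dvd_prime_iff_eq hrp Nat.prime_two).1 (Int.natCast_dvd_natCast.1 this)
      refine ⟨hr2, fun h4 => ?_⟩
      subst hr2
      have ht2 : 2 ≤ padicValNat 2 m := (padicValNat_dvd_iff_le hm0).1 (by simpa using hm4)
      have h5 : (4 : ℤ) ∣ d + ((p : ℤ) - ε) := by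
        rw [← hae]; simpa using v_dvd (r := 2) (k := 2) (by omega : 2 ≤ padicValInt 2 (a - ε))
      exact hw2 ((dvd_add_right h4).1 h5)
    have hdw : d ∣ (p : ℤ) - ε := by
      rw [hmw] at hdp
      have hg2 : (Int.gcd d m) ∣ 2 := by
        refine (Nat.dvd_iff_prime_pow_dvd_dvd _ _).2 fun r k hrp hrk => ?_
        rcases Nat.eq_zero_or_pos k with rfl | hk
        · simp
        have hd1 : (r : ℤ) ^ k ∣ d := by
          have := (Int.natCast_dvd_natCast.2 hrk).trans (Int.gcd_dvd_left d m)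
          simpa using this
        have hd2 : r ∣ m := by
          have h1 := (Int.natCast_dvd_natCast.2 ((dvd_pow_self r hk.ne').trans hrk)).trans (Int.gcd_dvd_right d m)
          exact Int.natCast_dvd_natCast.1 h1
        obtain ⟨rfl, h4⟩ := hcases r hrp hd2 ((dvd_pow_self _ hk.ne').trans hd1)
        rcases (show k = 1 ∨ 2 ≤ k by omega) with rfl | hk2
        · simp
        · exact absurd ((show ((4 : ℤ)) ∣ (2 : ℕ) ^ k by
            simpa using pow_dvd_pow (2 : ℤ) hk2).trans hd1) h4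
      obtain ⟨x, y, hxy⟩ : ∃ x y : ℤ, (Int.gcd d m : ℤ) = d * x + m * y :=
        ⟨_, _, Int.gcd_eq_gcd_ab d m⟩
      have h1 : d ∣ (Int.gcd d m : ℤ) * ((p : ℤ) - ε) := by
        rw [hxy, add_mul, mul_assoc]
        refine (dvd_mul_right _ _).add ?_
        rw [mul_comm (m : ℤ) y, mul_assoc]
        exact dvd_mul_of_dvd_right hdp _
      have h2 : d ∣ 2 * ((p : ℤ) - ε) :=
        h1.trans (mul_dvd_mul_right (by simpa using Int.natCast_dvd_natCast.2 hg2) _)
      -- `4 ∤ d`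
      obtain ⟨v, hv⟩ := hev
      have hd4 : ¬ (4 : ℤ) ∣ d := fun h4 => (hcases 2 Nat.prime_two h2m (dvd_trans (by norm_num) h4)).2 h4
      rcases Int.emod_two_eq_zero_or_one d with hde | hdo
      · obtain ⟨d', hd'⟩ : (2 : ℤ) ∣ d := Int.dvd_of_emod_eq_zero hde
        rw [hd'] at h2 ⊢
        have h3 := Int.dvd_of_mul_dvd_mul_left two_ne_zero h2
        have hco : IsCoprime d' 2 := (((Int.prime_two).coprime_iff_not_dvd).2 fun h => hd4 (by
          rw [hd']; obtain ⟨d'', rfl⟩ := h; exact ⟨d'', by ring⟩)).symm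
        rw [hv] at h3 ⊢
        exact mul_dvd_mul_left 2 (hco.dvd_of_dvd_mul_left h3)
      · have hco : IsCoprime d 2 := (((Int.prime_two).coprime_iff_not_dvd).2 (by omega)).symm
        exact hco.dvd_of_dvd_mul_left h2
    have h2m' : 2 * (m : ℤ) ∣ d + ((p : ℤ) - ε) := by
      rw [← hae, ← Nat.cast_ofNat, ← Nat.cast_mul]
      refine dvd_of_primes (by omega) fun r hrp hrm => ?_
      haveI : Fact r.Prime := ⟨hrp⟩
      have hrm' : r ∣ m := (hrp.dvd_mul.1 hrm).elim (fun h => h.trans h2m) id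
      obtain ⟨K, hK, e⟩ := hval r hrp hrm'
      rw [padicValNat.mul two_ne_zero hm0]
      refine v_dvd ?_
      rcases eq_or_ne r 2 with rfl | hr2
      · have := v_ne (r := 2) hpε hev
        rw [padicValNat.self one_lt_two]
        omega
      · rw [padicValNat.eq_zero_of_not_dvd fun h => hr2 ((Nat.prime_dvd_prime_iff_eq hrp Nat.prime_two).1 h)]
        omega
    obtain ⟨rfl, hd2, hε'⟩ := same_sign hp3 hm hσ hm4 hdw (by rw [← hae]; exact haε) h2m'
    obtain rfl : a = 7 := by push_cast at hd; omega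
    subst hε'
    refine ⟨rfl, ?_⟩
    have : (g : ℤ) * (w : ℤ) ^ 2 * 400 = (c : ℤ) ^ 3 * 357 := by push_cast at hred; linarith
    exact_mod_cast this
  · -- `ε = -σ`
    have hpm : (p : ℤ) - ε = m := by rw [hm]; omega
    have hmd : (m : ℤ) ∣ d ∧ (m : ℤ) * m ∣ a - ε := by
      have key : ∀ r : ℕ, r.Prime → r ∣ m → (r : ℤ) ^ padicValNat r m ∣ d ∧
          (r : ℤ) ^ (2 * padicValNat r m) ∣ a - ε := by
        intro r hrp hrm
        haveI : Fact r.Prime := ⟨hrp⟩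
        obtain ⟨K, hK, e⟩ := hval r hrp hrm
        rw [hpm, v_nat] at e
        set t := padicValNat r m with ht
        have hrmd : (r : ℤ) ^ t ∣ (m : ℤ) := v_dvd (v_nat (r := r) m).ge
        have hdd : (r : ℤ) ^ t ∣ d := by
          by_contra hcon
          have hlt : padicValInt r d < t := by by_contra h; exact hcon (v_dvd (by omega))
          have h1 : padicValInt r (a - ε) = padicValInt r d := by rw [hae, hpm, v_add hd0 hlt hrmd]
          omega
        refine ⟨hdd, v_dvd ?_⟩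
        have h2 : t ≤ padicValInt r ((p : ℤ) * a - 1) :=
          v_le hpa10 (by rw [hpa1]; exact (dvd_mul_of_dvd_right hdd _).add (hmdvd r hrp hrm))
        omega
      refine ⟨dvd_of_primes hm0 fun r hrp hrm => (key r hrp hrm).1, ?_⟩
      rw [← Nat.cast_mul]
      refine dvd_of_primes (mul_ne_zero hm0 hm0) fun r hrp hrm => ?_
      haveI : Fact r.Prime := ⟨hrp⟩
      rw [padicValNat.mul hm0 hm0, ← two_mul]
      exact (key r hrp ((hrp.dvd_mul.1 hrm).elim id id)).2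
    obtain ⟨⟨e, he⟩, hmm⟩ := hmd
    have hmZ : (m : ℤ) ≠ 0 := by exact_mod_cast hm0
    rw [hae, hpm, he] at hmm
    rw [hae, hpm, he] at haε
    have hme : (m : ℤ) ∣ e + 1 := by
      refine Int.dvd_of_mul_dvd_mul_left hmZ ?_
      rwa [mul_add, mul_one]
    have hew : e ∣ (p : ℤ) - σ := by
      rw [hmw, he] at hdp
      exact Int.dvd_of_mul_dvd_mul_left hmZ hdp
    obtain ⟨rfl, he3, hσ'⟩ := opp_sign hp3 hm hσ hm4 hew (fun h => haε (by
      rw [show (m : ℤ) * e + m = m * (e + 1) by ring, h, mul_zero])) hme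
    subst hσ' he3
    obtain rfl : ε = 1 := by omega
    obtain rfl : a = 17 := by push_cast at hd hm; omega
    refine ⟨rfl, ?_⟩
    have : (g : ℤ) * (w : ℤ) ^ 2 * 400 = (c : ℤ) ^ 3 * 357 := by push_cast at hred; linarith
    exact_mod_cast this

end Cfsg.Agent.Solv.AlmostCyclic
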