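import Mathlib
import Cfsg.Agent.Lib.Char.OrderQW.ProjLine
import Cfsg.Agent.Lib.Char.OrderQW.Line
import Cfsg.Agent.Lib.Classical.SL2Four

/-!
# Automorphisms of `SL₂(p)` of order two and the elements they fix

The facts used at the centralizer of an involution in a group with cyclic odd Sylow subgroups.
-/

set_option autoImplicit false
set_option linter.style.haveILetI false
set_option linter.unusedSectionVars false

open Cfsg Cfsg.Agent Cfsg.Agent.Small.PSL2

namespace Cfsg.Agent.Solv.AlmostCyclic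

open Matrix

variable {F : Type*} [Field F] [Fintype F] {p : ℕ} [Fact p.Prime]

/-- The matrices commuting with a nonscalar one. -/
theorem comm_eq {M Y : Matrix (Fin 2) (Fin 2) F} (h : M * Y = Y * M)
    (hY : ∀ c : F, Y ≠ c • (1 : Matrix (Fin 2) (Fin 2) F)) : ∃ a b : F, M = a • Y + b • 1 := by
  have e00 := congrFun (congrFun h 0) 0
  have e01 := congrFun (congrFun h 0) 1
  have e10 := congrFun (congrFun h 1) 0
  simp [Matrix.mul_apply, Fin.sum_univ_two] at e00 e01 e10
  by_cases hf : Y 0 1 = 0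
  · by_cases hg : Y 1 0 = 0
    · have hd : Y 0 0 - Y 1 1 ≠ 0 := fun hd => hY (Y 0 0) <| by
        ext i j; fin_cases i <;> fin_cases j <;> simp [hf, hg, sub_eq_zero.1 hd]
      have h01 : M 0 1 = 0 := by
        rw [hf] at e01
        exact (mul_eq_zero.1 (show (Y 0 0 - Y 1 1) * M 0 1 = 0 by linear_combination -e01)).resolve_left hd
      have h10 : M 1 0 = 0 := by
        rw [hg] at e10
        exact (mul_eq_zero.1 (show (Y 0 0 - Y 1 1) * M 1 0 = 0 by linear_combination e10)).resolve_left hd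
      refine ⟨(M 0 0 - M 1 1) / (Y 0 0 - Y 1 1), M 0 0 - (M 0 0 - M 1 1) / (Y 0 0 - Y 1 1) * Y 0 0, ?_⟩
      ext i j; fin_cases i <;> fin_cases j <;> simp [hf, hg, h01, h10] <;>
        (try field_simp) <;> ring1
    · have h01 : M 0 1 = 0 := by
        rw [hf] at e00
        exact (mul_eq_zero.1 (show Y 1 0 * M 0 1 = 0 by linear_combination e00)).resolve_left hg
      refine ⟨M 1 0 / Y 1 0, M 0 0 - M 1 0 / Y 1 0 * Y 0 0, ?_⟩
      ext i j; fin_cases i <;> fin_cases j <;> simp [hf, hg, h01] <;> (try field_simp) <;>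
        first | ring1 | linear_combination e10 | linear_combination -e10 | linear_combination e00 | linear_combination -e00
  · refine ⟨M 0 1 / Y 0 1, M 0 0 - M 0 1 / Y 0 1 * Y 0 0, ?_⟩
    ext i j; fin_cases i <;> fin_cases j <;> simp [hf] <;> field_simp <;>
      first | ring1 | linear_combination e00 | linear_combination -e00 | linear_combination e01 | linear_combination -e01

theorem charP_F (hF : Fintype.card F = p) : CharP F p :=
  charP_of_injective_ringHom (ZMod.ringEquivOfPrime F (Fact.out : p.Prime) hF).injective p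

theorem ringChar_ne_two (hF : Fintype.card F = p) (hp : p ≠ 2) : ringChar F ≠ 2 := by
  haveI := charP_F hF
  rwa [ringChar.eq F p]

theorem two_ne (hF : Fintype.card F = p) (hp : p ≠ 2) : (2 : F) ≠ 0 :=
  Cfsg.Agent.Classical.SL2Four.two_ne_zero_of_odd hF ((Fact.out : p.Prime).odd_of_ne_two hp)

/-- An automorphism of `SL₂(p)` is conjugation by an invertible matrix. -/
theorem exists_matrix (hF : Fintype.card F = p) (hp : p ≠ 2)
    (α : MulAut (Matrix.SpecialLinearGroup (Fin 2) F)) :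
    ∃ g : GL (Fin 2) F, ∀ A, (α A).1 * g.val = g.val * A.1 := by
  obtain ⟨g, σ, rfl⟩ := Char.OrderQW.PLine.aut_decomp (p := p) (f := 1) (by rw [pow_one, hF]) (two_ne hF hp) α
  have hσ : ∀ x : F, σ x = x := fun x => by
    obtain ⟨k, rfl⟩ := (ZMod.ringEquivOfPrime F (Fact.out : p.Prime) hF).surjective x
    obtain ⟨n, rfl⟩ := ZMod.natCast_zmod_surjective k
    simp
  refine ⟨g, fun A => ?_⟩
  have hA : fieldSL σ A = A := by
    apply Subtype.ext
    ext i j
    exact hσ _
  rw [MulAut.mul_apply, hA, conjSL_val, mul_assoc, Units.inv_mul, mul_one]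

/-- A matrix commuting with all of `SL₂` is scalar. -/
theorem scalar_of_comm {M : Matrix (Fin 2) (Fin 2) F}
    (h : ∀ A : Matrix.SpecialLinearGroup (Fin 2) F, M * A.1 = A.1 * M) : M = M 0 0 • 1 := by
  have h1 := h (uS 1)
  have h2 := h (vS 1)
  have a := congrFun (congrFun h1 0) 0
  have b := congrFun (congrFun h2 0) 0
  have c := congrFun (congrFun h1 0) 1
  simp [Matrix.mul_apply, Fin.sum_univ_two] at a b c
  ext i j; fin_cases i <;> fin_cases j <;> simp <;>
    first | assumption | exact a.symm | exact b.symm | linear_combination c | linear_combination -c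

/-- The matrix squares to a scalar for an automorphism of order two. -/
theorem sq_scalar {α : MulAut (Matrix.SpecialLinearGroup (Fin 2) F)} (hα : α * α = 1) {g : GL (Fin 2) F}
    (hg : ∀ A, (α A).1 * g.val = g.val * A.1) : g.val * g.val = (g.val * g.val) 0 0 • 1 := by
  refine scalar_of_comm fun A => ?_
  have h1 := hg (α A)
  rw [show α (α A) = A from (congrArg (fun f : MulAut _ => f A) hα)] at h1
  rw [mul_assoc, ← hg A, ← mul_assoc, ← h1, mul_assoc]

theorem eq_one_of_scalar {α : MulAut (Matrix.SpecialLinearGroup (Fin 2) F)} {g : GL (Fin 2) F}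
    (hg : ∀ A, (α A).1 * g.val = g.val * A.1) {c : F} (hc : g.val = c • 1) : α = 1 := by
  refine MulEquiv.ext fun A => Subtype.ext ?_
  have h := hg A
  rw [hc, Matrix.mul_smul, Matrix.smul_mul, mul_one, one_mul] at h
  have hc0 : c ≠ 0 := fun e => by
    have : g.val = 0 := by rw [hc, e, zero_smul]
    exact (g.isUnit).ne_zero this
  exact smul_right_injective _ hc0 h

/-- The Cayley–Hamilton relation in `SL₂`. -/
theorem cayley (Y : Matrix.SpecialLinearGroup (Fin 2) F) :
    Y.1 * Y.1 = Y.1.trace • Y.1 - 1 := by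
  have hd := Y.2
  rw [Matrix.det_fin_two] at hd
  ext i j
  fin_cases i <;> fin_cases j <;> simp [Matrix.mul_apply, Fin.sum_univ_two, Matrix.trace_fin_two] <;>
    first | ring1 | linear_combination hd | linear_combination -hd

theorem val_ne_one {Y : Matrix.SpecialLinearGroup (Fin 2) F} {r : ℕ} (hY : orderOf Y = r) (hr : 1 < r) : Y.1 ≠ 1 :=
  fun e => by rw [show Y = 1 from Subtype.ext e, orderOf_one] at hY; omega

theorem not_scalar (hF : Fintype.card F = p) (hp : p ≠ 2) {Y : Matrix.SpecialLinearGroup (Fin 2) F} {r : ℕ}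
    (hY : orderOf Y = r) (hr : r.Prime) (hr2 : r ≠ 2) : ∀ c : F, Y.1 ≠ c • (1 : Matrix (Fin 2) (Fin 2) F) := by
  intro c hc
  have hd := Y.2
  rw [hc, Matrix.det_smul, Matrix.det_one, mul_one, Fintype.card_fin] at hd
  have hY2 : Y * Y = 1 := by
    apply Subtype.ext
    rw [Matrix.SpecialLinearGroup.coe_mul, hc, Matrix.smul_mul, one_mul, smul_smul, ← pow_two, hd, one_smul,
      Matrix.SpecialLinearGroup.coe_one]
  have : r ∣ 2 := hY ▸ orderOf_dvd_of_pow_eq_one (by rw [pow_two]; exact hY2)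
  exact hr2 ((Nat.prime_dvd_prime_iff_eq hr Nat.prime_two).1 this)

/-- An involutory automorphism fixing an element of a torus of order `p + σ ≡ 0 (4)` fixes a square root of `-1`. -/
theorem torus_fix (hF : Fintype.card F = p) (hp : p ≠ 2) {m r : ℕ} {σ : ℤ} (hσ : σ = 1 ∨ σ = -1)
    (hm : (m : ℤ) = p + σ) (hm4 : 4 ∣ m) (hr : r.Prime) (hr2 : r ≠ 2) (hrm : r ∣ m)
    {α : MulAut (Matrix.SpecialLinearGroup (Fin 2) F)} {Y : Matrix.SpecialLinearGroup (Fin 2) F}
    (hY : orderOf Y = r) (hfix : α Y = Y) :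
    ∃ i : Matrix.SpecialLinearGroup (Fin 2) F, i.1 * i.1 = -1 ∧ α i = i := by
  classical
  haveI := charP_F hF
  haveI : CharP (Matrix (Fin 2) (Fin 2) F) p := Matrix.charP p
  have hpp : p.Prime := Fact.out
  have h2 := two_ne hF hp
  set t := Y.1.trace with ht
  set S : Matrix (Fin 2) (Fin 2) F := (2 : F) • Y.1 - t • 1 with hS
  set δ := t * t - 4 with hδ
  have hSS : S * S = δ • 1 := by
    have hd := Y.2
    rw [Matrix.det_fin_two] at hd
    rw [hS, hδ, ht]
    ext i j
    fin_cases i <;> fin_cases j <;>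
      simp [Matrix.mul_apply, Fin.sum_univ_two, Matrix.trace_fin_two] <;>
      first | ring1 | linear_combination (-4 : F) * hd
  have hpo := hpp.odd_of_ne_two hp
  have hSp : (2 : F) • Y.1 ^ p - t • 1 = δ ^ (p / 2) • S := by
    have h1 : S ^ p = δ ^ (p / 2) • S := by
      conv_lhs => rw [show p = 2 * (p / 2) + 1 by rcases hpo with ⟨k, hk⟩; omega]
      rw [pow_succ, pow_mul, pow_two, hSS, smul_pow, one_pow, Matrix.smul_mul, one_mul]
    rw [← h1, hS, sub_pow_expChar_of_commute (p := p)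
      ((Commute.one_right _).smul_right t), smul_pow, smul_pow, one_pow]
    congr 2
    · rw [← hF, FiniteField.pow_card]
    · rw [← hF, FiniteField.pow_card]
  have hrp : r ≠ p := by
    rintro rfl
    have h3 : (r : ℤ) ∣ (m : ℤ) := Int.natCast_dvd_natCast.2 hrm
    rw [hm] at h3
    have h4 := Int.le_of_dvd one_pos (show (r : ℤ) ∣ 1 by
      have h5 := (dvd_add_right (dvd_refl (r : ℤ))).1 h3
      rcases hσ with rfl | rfl <;> simpa using h5)
    have := hr.two_le
    omega
  have hδ0 : δ ≠ 0 := by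
    intro h0
    rw [h0, zero_pow (by rcases hpo with ⟨k, hk⟩; have := hpp.two_le; omega), zero_smul, sub_eq_zero] at hSp
    have hd := congrArg Matrix.det hSp
    rw [Matrix.det_smul, Matrix.det_smul, Matrix.det_pow, Y.2, one_pow, Matrix.det_one, mul_one, mul_one,
      Fintype.card_fin] at hd
    have hYp : Y.1 ^ p = (t / 2) • 1 := by
      apply smul_right_injective _ h2
      simp only [smul_smul]
      rw [mul_div_cancel₀ _ h2, hSp]
    have hY2p : Y ^ (p * 2) = 1 := by
      apply Subtype.ext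
      rw [Matrix.SpecialLinearGroup.coe_pow, pow_mul, hYp, smul_pow, one_pow, div_pow, ← hd,
        div_self (pow_ne_zero _ h2), one_smul, Matrix.SpecialLinearGroup.coe_one]
    rcases hr.dvd_mul.1 (hY ▸ orderOf_dvd_of_pow_eq_one hY2p) with h | h
    · exact hrp ((Nat.prime_dvd_prime_iff_eq hr hpp).1 h)
    · exact hr2 ((Nat.prime_dvd_prime_iff_eq hr Nat.prime_two).1 h)
  have hYi : Y⁻¹.1 = t • (1 : Matrix (Fin 2) (Fin 2) F) - Y.1 := by
    have h1 : Y.1 * (t • 1 - Y.1) = 1 := by
      rw [mul_sub, Matrix.mul_smul, mul_one, cayley, ← ht]; module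
    have h3 : Y⁻¹.1 * Y.1 = 1 := by
      rw [← Matrix.SpecialLinearGroup.coe_mul, inv_mul_cancel, Matrix.SpecialLinearGroup.coe_one]
    calc Y⁻¹.1 = Y⁻¹.1 * (Y.1 * (t • 1 - Y.1)) := by rw [h1, mul_one]
      _ = _ := by rw [← mul_assoc, h3, one_mul]
  have hnot : ∀ ε : ℤ, (ε = 1 ∨ ε = -1) → (r : ℤ) ∣ (p : ℤ) + ε → ε = σ := by
    intro ε hε h
    by_contra hne
    have h3 : (r : ℤ) ∣ (m : ℤ) := Int.natCast_dvd_natCast.2 hrm
    rw [hm] at h3
    have h4 := h3.sub h
    rw [show (p : ℤ) + σ - ((p : ℤ) + ε) = 2 * σ by omega] at h4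
    have h5 : (r : ℤ) ∣ 2 := by rcases hσ with rfl | rfl <;> simpa using h4
    exact hr2 ((Nat.prime_dvd_prime_iff_eq hr Nat.prime_two).1 (Int.natCast_dvd_natCast.1 h5))
  have hsq : IsSquare (-δ) := by
    rw [FiniteField.isSquare_iff (ringChar_ne_two hF hp) (neg_ne_zero.2 hδ0), neg_pow, hF]
    have h4 : (4 : ℤ) ∣ (p : ℤ) + σ := hm ▸ Int.natCast_dvd_natCast.2 hm4
    rcases FiniteField.pow_dichotomy (ringChar_ne_two hF hp) hδ0 with h | h <;> rw [hF] at h
    · have hYp : Y.1 ^ p = Y.1 := by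
        apply smul_right_injective _ h2
        rw [h, one_smul, hS] at hSp
        exact sub_left_injective hSp
      have hd : r ∣ p - 1 := by
        refine hY ▸ orderOf_dvd_of_pow_eq_one (mul_right_cancel (b := Y) ?_)
        rw [one_mul, ← pow_succ, Nat.sub_add_cancel hpp.one_le]
        exact Subtype.ext (by rw [Matrix.SpecialLinearGroup.coe_pow]; exact hYp)
      have hs := hnot (-1) (Or.inr rfl) (by
        have := Int.natCast_dvd_natCast.2 hd
        rwa [Nat.cast_sub hpp.one_le, Nat.cast_one, sub_eq_add_neg] at this)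
      subst hs
      rw [h, mul_one, Even.neg_one_pow]
      exact Nat.even_iff.2 (by omega)
    · have hYp : Y.1 ^ p = Y⁻¹.1 := by
        apply smul_right_injective _ h2
        rw [h, hS] at hSp
        simp only
        rw [hYi, sub_eq_iff_eq_add.1 hSp]
        module
      have hd : r ∣ p + 1 := by
        refine hY ▸ orderOf_dvd_of_pow_eq_one ?_
        rw [pow_succ, show Y ^ p = Y⁻¹ from Subtype.ext (by rw [Matrix.SpecialLinearGroup.coe_pow]; exact hYp),
          inv_mul_cancel]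
      have hs := hnot 1 (Or.inl rfl) (by exact_mod_cast hd)
      subst hs
      rw [h, Odd.neg_one_pow, neg_one_mul, neg_neg]
      exact Nat.odd_iff.2 (by omega)
  obtain ⟨κ, hκ⟩ := hsq
  have hκ0 : κ ≠ 0 := fun e => hδ0 (by rw [e, mul_zero, neg_eq_zero] at hκ; exact hκ)
  have hii : (κ⁻¹ • S) * (κ⁻¹ • S) = -1 := by
    rw [Matrix.smul_mul, Matrix.mul_smul, hSS, smul_smul, smul_smul, show δ = -(κ * κ) by rw [← hκ, neg_neg]]
    rw [show κ⁻¹ * κ⁻¹ * -(κ * κ) = -1 by field_simp, neg_one_smul]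
  have hdet : (κ⁻¹ • S).det = 1 := by
    rw [Matrix.det_smul, Fintype.card_fin, hS, Matrix.det_fin_two]
    have hd := Y.2
    rw [Matrix.det_fin_two] at hd
    simp [ht, Matrix.trace_fin_two]
    field_simp
    have hk : κ ^ 2 = -((Y.1 0 0 + Y.1 1 1) * (Y.1 0 0 + Y.1 1 1) - 4) := by
      rw [pow_two, ← hκ, hδ, ht, Matrix.trace_fin_two]
    linear_combination 4 * hd - hk
  refine ⟨⟨κ⁻¹ • S, hdet⟩, hii, ?_⟩
  obtain ⟨g, hg⟩ := exists_matrix hF hp α
  have hgY : g.val * Y.1 = Y.1 * g.val := by rw [← hg Y, hfix]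
  have h1 := hg ⟨κ⁻¹ • S, hdet⟩
  have h3 : g.val * (κ⁻¹ • S) = (κ⁻¹ • S) * g.val := by
    rw [Matrix.mul_smul, Matrix.smul_mul, hS, mul_sub, sub_mul, Matrix.mul_smul, Matrix.smul_mul, Matrix.mul_smul,
      Matrix.smul_mul, mul_one, one_mul, hgY]
  rw [h3] at h1
  apply Subtype.ext
  calc (α ⟨κ⁻¹ • S, hdet⟩).1 = (α ⟨κ⁻¹ • S, hdet⟩).1 * g.val * g.inv := by rw [mul_assoc, g.val_inv, mul_one]
    _ = _ := by rw [h1, mul_assoc, g.val_inv, mul_one]

/-- An element of order `p` minus one squares to zero. -/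
theorem unip_sq (hF : Fintype.card F = p) {Y : Matrix.SpecialLinearGroup (Fin 2) F} (hY : orderOf Y = p) :
    (Y.1 - 1) * (Y.1 - 1) = 0 ∧ Y.1 - 1 ≠ 0 := by
  classical
  haveI := charP_F hF
  haveI : CharP (Matrix (Fin 2) (Fin 2) F) p := Matrix.charP p
  have hpp : p.Prime := Fact.out
  refine ⟨?_, sub_ne_zero.2 (val_ne_one hY hpp.one_lt)⟩
  set N := Y.1 - 1 with hN
  have hnil : IsNilpotent N := ⟨p, by
    rw [hN, sub_pow_expChar_of_commute (p := p) (Commute.one_right _), one_pow, ← Matrix.SpecialLinearGroup.coe_pow,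
      ← hY, pow_orderOf_eq_one, Matrix.SpecialLinearGroup.coe_one, sub_self]⟩
  have htr : N.trace = 0 := (Matrix.isNilpotent_trace_of_isNilpotent hnil).eq_zero
  have hd := Y.2
  rw [Matrix.det_fin_two] at hd
  simp [hN, Matrix.trace_fin_two] at htr
  ext i j
  fin_cases i <;> fin_cases j <;> simp [hN, Matrix.mul_apply, Fin.sum_univ_two] <;>
    first
    | linear_combination (Y.1 0 0) * htr - hd
    | linear_combination (Y.1 1 1) * htr - hd
    | linear_combination (Y.1 0 1) * htr
    | linear_combination (Y.1 1 0) * htr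

/-- An involutory automorphism fixing a unipotent element is trivial. -/
theorem unip_fix (hF : Fintype.card F = p) (hp : p ≠ 2) {α : MulAut (Matrix.SpecialLinearGroup (Fin 2) F)}
    (hα : α * α = 1) {Y : Matrix.SpecialLinearGroup (Fin 2) F} (hY : orderOf Y = p) (hfix : α Y = Y) : α = 1 := by
  have h2 := two_ne hF hp
  obtain ⟨hNN, hN0⟩ := unip_sq hF hY
  set N := Y.1 - 1 with hN
  obtain ⟨g, hg⟩ := exists_matrix hF hp α
  obtain ⟨a, b, hab⟩ := comm_eq (show g.val * Y.1 = Y.1 * g.val by rw [← hg Y, hfix])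
    (not_scalar hF hp hY Fact.out hp)
  have hgN : g.val = a • N + (a + b) • 1 := by rw [hab, hN]; module
  have hsq := sq_scalar hα hg
  have h3 : (2 * a * (a + b)) • N = ((g.val * g.val) 0 0 - (a + b) * (a + b)) • (1 : Matrix (Fin 2) (Fin 2) F) := by
    rw [sub_smul, ← hsq, hgN]
    simp only [add_mul, mul_add, Matrix.smul_mul, Matrix.mul_smul, hNN, mul_one, one_mul, smul_zero, zero_add]
    module
  have h4 : 2 * a * (a + b) = 0 := by
    by_contra h
    refine hN0 ?_
    have hc : ∃ c : F, N = c • 1 := ⟨_, (eq_inv_smul_iff₀ h).2 h3 |>.trans (smul_smul _ _ _)⟩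
    obtain ⟨c, hc⟩ := hc
    rw [hc, Matrix.smul_mul, one_mul, smul_smul, smul_eq_zero] at hNN
    rcases hNN with h' | h'
    · rw [hc, mul_self_eq_zero.1 h', zero_smul]
    · exact absurd h' one_ne_zero
  rcases mul_eq_zero.1 h4 with h | h
  · exact eq_one_of_scalar hg (c := a + b) (by
      rw [hgN, (mul_eq_zero.1 h).resolve_left h2, zero_smul, zero_add])
  · exfalso
    have h5 : g.val * g.val = 0 := by
      rw [hgN, h, zero_smul, add_zero, Matrix.smul_mul, Matrix.mul_smul, hNN, smul_zero, smul_zero]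
    exact (g.isUnit.mul g.isUnit).ne_zero h5

theorem norm_one_count : ∀ e : ZMod 5, (∀ s : ZMod 5, e ≠ s * s) →
    (Finset.univ.filter fun q : ZMod 5 × ZMod 5 => q.2 * q.2 - q.1 * q.1 * e = 1).card ≤ 6 := by decide

section Five

variable [Fact (Nat.Prime 5)] {α : MulAut (Matrix.SpecialLinearGroup (Fin 2) F)}

/-- The matrix of an involution fixing no square root of `-1` in `SL₂(5)`. -/
theorem outer_matrix (hF : Fintype.card F = 5) (hα : α * α = 1)
    (hfix : ∀ i : Matrix.SpecialLinearGroup (Fin 2) F, i.1 * i.1 = -1 → α i ≠ i) :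
    ∃ g : GL (Fin 2) F, ∃ x y z : F, (∀ A, (α A).1 * g.val = g.val * A.1) ∧ g.val = !![x, y; z, -x] ∧
      ¬ IsSquare (x * x + y * z) := by
  have h2 := two_ne hF (by norm_num)
  haveI := charP_F (p := 5) hF
  obtain ⟨g, hg⟩ := exists_matrix (p := 5) hF (by norm_num) α
  have hns : ∀ d : F, g.val ≠ d • (1 : Matrix (Fin 2) (Fin 2) F) := fun d hd => by
    have h1 := eq_one_of_scalar hg hd
    refine hfix wS ?_ (by rw [h1]; rfl)
    rw [wS]
    ext i j; fin_cases i <;> fin_cases j <;> simp [Matrix.mul_apply, Fin.sum_univ_two]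
  have h11 := Char.OrderQW.PLine.trace_zero_of_sq g.val (sq_scalar hα hg) hns
  refine ⟨g, g.val 0 0, g.val 0 1, g.val 1 0, hg, ?_, ?_⟩
  · ext i j; fin_cases i <;> fin_cases j <;> simp [h11]
  rintro ⟨k, hk⟩
  have hk0 : k ≠ 0 := by
    intro e
    rw [e, mul_zero] at hk
    have hu : IsUnit g.val.det := (Matrix.isUnit_iff_isUnit_det _).1 g.isUnit
    refine hu.ne_zero ?_
    rw [Matrix.det_fin_two, h11]
    linear_combination -hk
  have h5 : (5 : F) = 0 := by exact_mod_cast CharP.cast_eq_zero F 5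
  let M : Matrix (Fin 2) (Fin 2) F := (2 / k) • g.val
  have hgg : g.val * g.val = (k * k) • 1 := by
    rw [← hk]
    ext i j; fin_cases i <;> fin_cases j <;> simp [Matrix.mul_apply, Fin.sum_univ_two, h11] <;> ring
  have hMM : M * M = -1 := by
    simp only [M]
    rw [Matrix.smul_mul, Matrix.mul_smul, hgg, smul_smul, smul_smul,
      show 2 / k * (2 / k) * (k * k) = -1 by field_simp; linear_combination h5, neg_one_smul]
  have hMd : M.det = 1 := by
    simp only [M]
    rw [Matrix.det_smul, Fintype.card_fin, Matrix.det_fin_two, h11]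
    field_simp
    linear_combination -4 * hk - k ^ 2 * h5
  refine hfix ⟨M, hMd⟩ hMM ?_
  apply Subtype.ext
  have h1 := hg ⟨M, hMd⟩
  have h3 : g.val * M = M * g.val := by simp only [M]; rw [Matrix.mul_smul, Matrix.smul_mul]
  rw [h3] at h1
  calc (α ⟨M, hMd⟩).1 = (α ⟨M, hMd⟩).1 * g.val * g.inv := by rw [mul_assoc, g.val_inv, mul_one]
    _ = _ := by rw [h1, mul_assoc, g.val_inv, mul_one]

/-- Such an involution normalises no subgroup of order five. -/
theorem unip_moved (hF : Fintype.card F = 5) (hα : α * α = 1)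
    (hfix : ∀ i : Matrix.SpecialLinearGroup (Fin 2) F, i.1 * i.1 = -1 → α i ≠ i)
    {Y : Matrix.SpecialLinearGroup (Fin 2) F} (hY : orderOf Y = 5) (k : ℕ) : α Y ≠ Y ^ k := by
  intro hk
  obtain ⟨g, x, y, z, hg, hgv, hd⟩ := outer_matrix hF hα hfix
  obtain ⟨hNN, hN0⟩ := unip_sq (p := 5) hF hY
  set N := Y.1 - 1 with hN
  have hYk : ∀ k : ℕ, (Y ^ k).1 = 1 + (k : F) • N := by
    intro k
    induction k with
    | zero => simp
    | succ k ih =>
      rw [pow_succ, Matrix.SpecialLinearGroup.coe_mul, ih, show Y.1 = 1 + N by rw [hN]; abel, add_mul, one_mul,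
        Matrix.smul_mul, mul_add, mul_one, hNN, add_zero]
      push_cast
      module
  have h1 : g.val * N = (k : F) • (N * g.val) := by
    rw [hN, mul_sub, mul_one, ← hg Y, hk, hYk, add_mul, one_mul, Matrix.smul_mul, hN]
    abel
  have h2 : N * g.val * N = 0 := by
    rw [mul_assoc, h1, Matrix.mul_smul, ← mul_assoc, hNN, zero_mul, smul_zero]
  have htr : N 0 0 + N 1 1 = 0 := by
    rw [← Matrix.trace_fin_two]; exact (Matrix.isNilpotent_trace_of_isNilpotent ⟨2, by rw [pow_two, hNN]⟩).eq_zero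
  have hdn := congrFun (congrFun hNN 0) 0
  simp only [Matrix.mul_apply, Fin.sum_univ_two, Matrix.zero_apply] at hdn
  have h11 : N 1 1 = -N 0 0 := eq_neg_of_add_eq_zero_right htr
  have e := fun i j => congrFun (congrFun h2 i) j
  have e01 := e 0 1
  have e10 := e 1 0
  simp [Matrix.mul_apply, Fin.sum_univ_two, hgv, h11] at e01 e10
  apply hd
  by_cases hb : N 0 1 = 0
  · have ha : N 0 0 = 0 := by rw [hb, zero_mul, add_zero] at hdn; exact mul_self_eq_zero.1 hdn
    have hc : N 1 0 ≠ 0 := fun hc => hN0 (by ext i j; fin_cases i <;> fin_cases j <;> simp [ha, hb, hc, h11])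
    rw [ha] at e10
    have hy : y = 0 := (mul_eq_zero.1 (show N 1 0 * N 1 0 * y = 0 by linear_combination e10)).resolve_left
      (mul_ne_zero hc hc)
    exact ⟨x, by rw [hy]; ring⟩
  · refine ⟨x - y * N 0 0 / N 0 1, ?_⟩
    have hE : 2 * N 0 0 * x + N 0 1 * z + N 1 0 * y = 0 := (mul_eq_zero.1 (show N 0 1 *
      (2 * N 0 0 * x + N 0 1 * z + N 1 0 * y) = 0 by linear_combination e01 + y * hdn)).resolve_left hb
    field_simp
    linear_combination (N 0 1 * y) * hE - y ^ 2 * hdn

/-- Such an involution fixes at most six elements. -/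
theorem card_fixed (hF : Fintype.card F = 5) (hα : α * α = 1)
    (hfix : ∀ i : Matrix.SpecialLinearGroup (Fin 2) F, i.1 * i.1 = -1 → α i ≠ i) :
    Nat.card {A : Matrix.SpecialLinearGroup (Fin 2) F // α A = A} ≤ 6 := by
  classical
  obtain ⟨g, x, y, z, hg, hgv, hd⟩ := outer_matrix hF hα hfix
  set d := x * x + y * z with hd'
  have hns : ∀ c : F, g.val ≠ c • (1 : Matrix (Fin 2) (Fin 2) F) := by
    intro c hc
    have h00 := congrFun (congrFun hc 0) 0
    have h11 := congrFun (congrFun hc 1) 1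
    have h01 := congrFun (congrFun hc 0) 1
    simp [hgv] at h00 h11 h01
    refine hd ⟨x, ?_⟩
    rw [hd', h01, zero_mul, add_zero]
  let φ := (ZMod.ringEquivOfPrime F (Fact.out : Nat.Prime 5) hF).symm
  have key := norm_one_count
  have hnsq : ∀ s : ZMod 5, φ d ≠ s * s := fun s hs => hd ⟨φ.symm s, by
    rw [← map_mul, ← hs, φ.symm_apply_apply]⟩
  choose a b hab using fun A : {A : Matrix.SpecialLinearGroup (Fin 2) F // α A = A} =>
    comm_eq (show A.1.1 * g.val = g.val * A.1.1 by rw [← hg A.1, A.2]) hns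
  have hdet : ∀ A, b A * b A - a A * a A * d = 1 := by
    intro A
    have h := A.1.2
    rw [hab A, hgv, Matrix.det_fin_two] at h
    simp at h
    rw [hd']
    linear_combination h
  refine le_trans ?_ (key (φ d) hnsq)
  rw [← Nat.card_eq_finsetCard]
  refine Nat.card_le_card_of_injective (fun A => ⟨(φ (a A), φ (b A)), by
    simp only [Finset.mem_filter, Finset.mem_univ, true_and]
    rw [← map_mul, ← map_mul, ← map_mul, ← map_sub, hdet, map_one]⟩) fun A B h => ?_
  simp only [Subtype.mk.injEq, Prod.mk.injEq, EmbeddingLike.apply_eq_iff_eq] at h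
  exact Subtype.ext (Subtype.ext (by rw [hab A, hab B, h.1, h.2]))

end Five

end Cfsg.Agent.Solv.AlmostCyclic
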