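import Mathlib
import Cfsg.Agent.Lib.Fusion.NPC
import Cfsg.Agent.Lib.Fusion.QuasiDihedralSub
import Cfsg.Agent.Lib.Char.OrderQW.LocalGroups
import Cfsg.Agent.Lib.Local.FS.OmegaChain

/-!
# Local facts for a semidihedral Sylow 2-subgroup and cyclic odd Sylow subgroups

If no conjugate of the four-group centralises a Sylow `r`-subgroup of the centralizer of the involution `z`,
then that centralizer contains a full Sylow `r`-subgroup of the group.
-/

set_option autoImplicit false
set_option linter.style.haveILetI false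
set_option linter.unusedSectionVars false

namespace Cfsg.Agent.Solv.AlmostCyclic

open Cfsg Cfsg.Agent

universe u

variable {G : Type u} [Group G] [Finite G]

/-- All Sylow subgroups for odd primes are cyclic. -/
def OddCyclic (G : Type u) [Group G] : Prop := ∀ r : ℕ, r.Prime → r ≠ 2 → ∀ P : Sylow r G, IsCyclic P

theorem OddCyclic.pgroup (h : OddCyclic G) {r : ℕ} [Fact r.Prime] (hr : r ≠ 2) {R : Subgroup G}
    (hR : IsPGroup r R) : IsCyclic R := by
  obtain ⟨P, hP⟩ := hR.exists_le_sylow
  haveI := h r Fact.out hr P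
  exact isCyclic_of_injective (Subgroup.inclusion hP) (Subgroup.inclusion_injective hP)

/-- Two elements of the same prime order in a cyclic group generate the same subgroup. -/
theorem mem_zpowers_of_cyclic {P : Subgroup G} [IsCyclic P] {r : ℕ} (hr : r.Prime) {a b : G} (haP : a ∈ P)
    (hbP : b ∈ P) (ha : orderOf a = r) (hb : orderOf b = r) : b ∈ Subgroup.zpowers a := by
  classical
  haveI := Fintype.ofFinite P
  have h1 := IsCyclic.card_pow_eq_one_le (α := P) hr.pos
  by_contra hcon
  have hs : ∀ x ∈ insert (⟨b, hbP⟩ : P) ((Finset.range r).image fun i => (⟨a, haP⟩ : P) ^ i), x ^ r = 1 := by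
    intro x hx
    rcases Finset.mem_insert.1 hx with rfl | hx
    · exact Subtype.ext (by rw [Subgroup.coe_pow]; exact hb ▸ pow_orderOf_eq_one b)
    · obtain ⟨i, -, rfl⟩ := Finset.mem_image.1 hx
      rw [← pow_mul, mul_comm, pow_mul, show (⟨a, haP⟩ : P) ^ r = 1 from
        Subtype.ext (by rw [Subgroup.coe_pow]; exact ha ▸ pow_orderOf_eq_one a), one_pow]
  have h2 := (Finset.card_le_card (t := Finset.univ.filter fun x : P => x ^ r = 1)
    fun x hx => Finset.mem_filter.2 ⟨Finset.mem_univ _, hs x hx⟩).trans h1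
  rw [Finset.card_insert_of_notMem, Finset.card_image_of_injOn, Finset.card_range] at h2
  · omega
  · intro i hi j hj hij
    refine pow_injOn_Iio_orderOf ?_ ?_ hij <;>
      simp only [Set.mem_Iio, Subgroup.orderOf_mk, ha] <;> simp_all
  · intro hb'
    obtain ⟨i, -, hi⟩ := Finset.mem_image.1 hb'
    exact hcon ⟨i, (zpow_natCast a i).trans (congrArg Subtype.val hi)⟩

/-- No element of order four commutes with an involution other than its square. -/
theorem no_four_comm {S : Type u} [Group S] [Finite S] (hS : Cfsg.IsQuasiDihedral S) {a b : S}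
    (ha : orderOf a = 4) (hb : orderOf b = 2) (hab : Commute a b) : b = a ^ 2 := by
  obtain ⟨n, ⟨D⟩⟩ := Fusion.exists_qdData' hS
  have ha2 : orderOf (a ^ 2) = 2 := by rw [orderOf_pow, ha]; rfl
  have key : ∀ v : S, orderOf v = 2 → v ≠ D.z → ¬ Commute a v := by
    intro v hv hvz hc
    obtain ⟨i, hi, rfl⟩ := (D.invol_cases hv).resolve_left hvz
    have hz := D.orderOf_z
    rcases (D.commute_refl_iff i a).1 hc with h | h | h | h
    · rw [h, orderOf_one] at ha; omega
    · rw [h] at ha; omega
    · rw [h] at ha; omega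
    · have hcm : Commute D.z (D.x ^ i * D.y) := D.z_central _
      have h4 : a ^ 2 = 1 := by
        rw [h, pow_two]
        have e1 := Fusion.invol_mul_self hv
        have e2 := D.z_mul_z
        calc (D.z * (D.x ^ i * D.y)) * (D.z * (D.x ^ i * D.y))
            = D.z * ((D.x ^ i * D.y) * D.z) * (D.x ^ i * D.y) := by simp only [mul_assoc]
          _ = D.z * D.z * ((D.x ^ i * D.y) * (D.x ^ i * D.y)) := by rw [← hcm.eq]; simp only [mul_assoc]
          _ = 1 := by rw [e1, e2, one_mul]
      rw [h4, orderOf_one] at ha2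
      omega
  have h1 : b = D.z := by_contra fun h => key b hb h hab
  have h2 : a ^ 2 = D.z := by_contra fun h => key _ ha2 h ((Commute.refl a).pow_right 2)
  rw [h1, h2]

/-- A commuting pair in a group with semidihedral Sylow subgroup. -/
theorem no_four_comm' (T : Sylow 2 G) (hT : Cfsg.IsQuasiDihedral (T : Subgroup G)) {a b : G}
    (ha : orderOf a = 4) (hb : orderOf b = 2) (hab : Commute a b) : b = a ^ 2 := by
  haveI : Fact (Nat.Prime 2) := ⟨Nat.prime_two⟩
  have hP : IsPGroup 2 (Subgroup.zpowers a ⊔ Subgroup.zpowers b : Subgroup G) := by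
    refine IsPGroup.to_sup_of_normal_left' (IsPGroup.of_card (n := 2) (by rw [Nat.card_zpowers, ha]; rfl))
      (IsPGroup.of_card (n := 1) (by rw [Nat.card_zpowers, hb]; rfl)) ?_
    rw [Subgroup.zpowers_le, Subgroup.mem_normalizer_iff]
    intro x
    constructor
    · rintro ⟨k, rfl⟩
      exact ⟨k, by show a ^ k = b * a ^ k * b⁻¹; rw [(hab.symm.zpow_right k).eq, mul_inv_cancel_right]⟩
    · rintro ⟨k, hk⟩
      refine ⟨k, ?_⟩
      show a ^ k = x
      have hk' : a ^ k = b * x * b⁻¹ := hk
      calc a ^ k = b⁻¹ * (b * a ^ k) := by group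
        _ = b⁻¹ * (a ^ k * b) := by rw [(hab.symm.zpow_right k).eq]
        _ = b⁻¹ * (b * x * b⁻¹ * b) := by rw [hk']
        _ = x := by group
  obtain ⟨g, hg⟩ := Char.OrderQW.exists_conj_into T hP
  have h := no_four_comm hT (a := ⟨_, hg a (Subgroup.mem_sup_left (Subgroup.mem_zpowers a))⟩)
    (b := ⟨_, hg b (Subgroup.mem_sup_right (Subgroup.mem_zpowers b))⟩)
    (by rw [Subgroup.orderOf_mk, show g * a * g⁻¹ = MulAut.conj g a from rfl, MulEquiv.orderOf_eq, ha])
    (by rw [Subgroup.orderOf_mk, show g * b * g⁻¹ = MulAut.conj g b from rfl, MulEquiv.orderOf_eq, hb])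
    (Subtype.ext ((Commute.map hab (MulAut.conj g).toMonoidHom).eq))
  have h' : MulAut.conj g b = (MulAut.conj g a) ^ 2 := congrArg Subtype.val h
  rw [← map_pow] at h'
  exact (MulAut.conj g).injective h'

/-- The data at the central involution. -/
structure Pair (z u : G) : Prop where
  hz : orderOf z = 2
  hu : orderOf u = 2
  hne : u ≠ z
  hclass : ∀ v : G, orderOf v = 2 → z * v = v * z → v ≠ z → ∃ c, c * z = z * c ∧ c * v * c⁻¹ = u

/-- A full Sylow subgroup centralises the involution, or part of it centralises the four-group. -/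
theorem val_eq {z u : G} (hzu : Pair z u) (hcyc : OddCyclic G) {r : ℕ} [Fact r.Prime] (hr : r ≠ 2)
    (hv : padicValNat r (Nat.card (Subgroup.centralizer ({z, u} : Set G))) <
      padicValNat r (Nat.card (Subgroup.centralizer ({z} : Set G)))) :
    padicValNat r (Nat.card G) = padicValNat r (Nat.card (Subgroup.centralizer ({z} : Set G))) := by
  classical
  haveI : Fact (Nat.Prime 2) := ⟨Nat.prime_two⟩
  have hrp : r.Prime := Fact.out
  set C := Subgroup.centralizer ({z} : Set G) with hC
  refine le_antisymm ?_ ((padicValNat_dvd_iff_le Nat.card_pos.ne').1 ((pow_padicValNat_dvd).trans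
    (Subgroup.card_subgroup_dvd_card C)))
  obtain ⟨R₀⟩ : Nonempty (Sylow r C) := inferInstance
  set R := (R₀ : Subgroup C).map C.subtype with hR
  have hRc : Nat.card R = r ^ padicValNat r (Nat.card C) := by
    rw [hR, Subgroup.card_map_of_injective C.subtype_injective, Sylow.card_eq_multiplicity,
      Nat.factorization_def _ hrp]
  have hRC : R ≤ C := Subgroup.map_subtype_le _
  have hone : ∀ v : G, orderOf v = 2 → z * v = v * z → (∀ x ∈ R, v * x = x * v) → v = z := by
    intro v hv' hvz hvR
    by_contra hne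
    obtain ⟨c, hcz, hcv⟩ := hzu.hclass v hv' hvz hne
    have hle : Fusion.cj R c ≤ Subgroup.centralizer ({z, u} : Set G) := by
      rintro _ ⟨x, hx, rfl⟩
      refine Subgroup.mem_centralizer_iff.2 ?_
      have hxz : z * x = x * z := (Subgroup.mem_centralizer_singleton_iff.1 (hRC hx)).symm
      have hcc : c * z * c⁻¹ = z := by rw [hcz, mul_inv_cancel_right]
      intro y hy
      rcases hy with h | h <;> rw [h]
      · show z * (c * x * c⁻¹) = c * x * c⁻¹ * z
        conv_lhs => rw [← hcc]
        conv_rhs => rw [← hcc]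
        rw [conj_mul, conj_mul, hxz]
      · show u * (c * x * c⁻¹) = c * x * c⁻¹ * u
        rw [← hcv, conj_mul, conj_mul, hvR x hx]
    have := Subgroup.card_dvd_of_le hle
    rw [Fusion.card_cj, hRc, padicValNat_dvd_iff_le Nat.card_pos.ne'] at this
    omega
  have hRp : IsPGroup r R := IsPGroup.of_card hRc
  obtain ⟨PG, hPG⟩ := hRp.exists_le_sylow
  haveI := hcyc r hrp hr PG
  set K := Subgroup.centralizer (R : Set G) with hK
  have hPK : (PG : Subgroup G) ≤ K := by
    intro g hg
    refine Subgroup.mem_centralizer_iff.2 fun x hx => ?_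
    letI : CommGroup (PG : Subgroup G) := IsCyclic.commGroup
    exact congrArg Subtype.val (mul_comm (⟨x, hPG hx⟩ : (PG : Subgroup G)) ⟨g, hg⟩)
  have hzK : z ∈ K := Subgroup.mem_centralizer_iff.2 fun x hx => Subgroup.mem_centralizer_singleton_iff.1 (hRC hx)
  set PK : Sylow r K := PG.subtype hPK with hPK'
  -- the normal complement
  have hnp : Cfsg.HasNormalPComplement r K := by
    refine Fusion.hnpc_of_normalizer_le_centralizer PK fun n hn => ?_
    haveI : IsCyclic (PK : Subgroup K) :=
      isCyclic_of_injective (Subgroup.subgroupOfEquivOfLe hPK).toMonoidHom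
        (Subgroup.subgroupOfEquivOfLe hPK).injective
    let φ := (PK : Subgroup K).normalizerMonoidHom
    set α := φ ⟨n, hn⟩ with hα
    have hco : (orderOf α).Coprime r := by
      refine Nat.Coprime.coprime_dvd_left (?_ : orderOf α ∣ φ.ker.index) ?_
      · rw [Subgroup.index_ker]; exact Subgroup.orderOf_dvd_natCard _ ⟨_, rfl⟩
      · refine (hrp.coprime_iff_not_dvd.2 fun h => ?_).symm
        letI : CommGroup (PK : Subgroup K) := IsCyclic.commGroup
        have hle : (PK : Subgroup K).subgroupOf (Subgroup.normalizer ((PK : Subgroup K) : Set K)) ≤ φ.ker := by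
          rw [show φ.ker = _ from Subgroup.normalizerMonoidHom_ker _]
          intro x hx
          exact Subgroup.mem_centralizer_iff.2 fun y hy =>
            congrArg Subtype.val (mul_comm (⟨y, hy⟩ : (PK : Subgroup K)) ⟨_, hx⟩)
        exact PK.not_dvd_index (h.trans ((Subgroup.index_dvd_of_le hle).trans
          (Subgroup.relIndex_dvd_index_of_le Subgroup.le_normalizer)))
    have hfix : α = 1 := by
      refine Local.FS.aut_eq_one_of_fix_order_p (p := r) hr PK.isPGroup' α hco fun x hx => ?_
      -- the elements of order `r` lie in `R`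
      have hxR : ((x : K) : G) ∈ R := by
        rcases eq_or_ne x 1 with rfl | hx1
        · exact one_mem _
        have hxo : orderOf ((x : K) : G) = r := by
          rw [Subgroup.orderOf_coe, Subgroup.orderOf_coe]; exact orderOf_eq_prime hx hx1
        have hR1 : 0 < padicValNat r (Nat.card C) := by omega
        obtain ⟨y, hy⟩ := exists_prime_orderOf_dvd_card' (G := R) r (by rw [hRc]; exact dvd_pow_self r hR1.ne')
        have hyo : orderOf (y : G) = r := by rw [Subgroup.orderOf_coe, hy]
        exact (Subgroup.zpowers_le.2 y.2) (mem_zpowers_of_cyclic hrp (hPG y.2) x.2 hyo hxo)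
      apply Subtype.ext
      apply Subtype.ext
      show (n : G) * ((x : K) : G) * (n : G)⁻¹ = ((x : K) : G)
      rw [← Subgroup.mem_centralizer_iff.1 n.2 _ hxR, mul_inv_cancel_right]
    refine Subgroup.mem_centralizer_iff.2 fun x hx => ?_
    have h1 := congrArg (fun f : MulAut (PK : Subgroup K) => ((f ⟨x, hx⟩ : (PK : Subgroup K)) : K)) hfix
    have h2 : n * x * n⁻¹ = x := h1
    calc x * n = n * x * n⁻¹ * n := by rw [h2]
      _ = n * x := by group
  haveI hWn : (Cfsg.pResidual r K).Normal := inferInstance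
  set W := Cfsg.pResidual r K with hW
  have hzW : (⟨z, hzK⟩ : K) ∈ W := (Fusion.hnpc_mem_iff hnp).2 (by
    rw [Subgroup.orderOf_mk, hzu.hz]; exact (Nat.coprime_primes Nat.prime_two hrp).2 hr.symm)
  obtain ⟨T, hT⟩ := (IsPGroup.of_card (p := 2) (n := 1)
    (G := Subgroup.zpowers (⟨⟨z, hzK⟩, hzW⟩ : W)) (by
      rw [Nat.card_zpowers, Subgroup.orderOf_mk, Subgroup.orderOf_mk, hzu.hz]; rfl)).exists_le_sylow
  have hzT := hT (Subgroup.mem_zpowers _)
  -- `z` is the only involution of `T`
  have hinv : ∀ v : W, v ∈ (T : Subgroup W) → orderOf v = 2 → ((v : K) : G) = z := by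
    haveI : Nontrivial (T : Subgroup W) := ⟨⟨⟨_, hzT⟩, 1, fun h => by
      have h1 : z = 1 := congrArg (fun x : (T : Subgroup W) => (((x : W) : K) : G)) h
      have := hzu.hz
      rw [h1, orderOf_one] at this
      omega⟩⟩
    haveI := T.isPGroup'.center_nontrivial
    obtain ⟨k, hk⟩ := IsPGroup.iff_card.1 (T.isPGroup'.to_subgroup (Subgroup.center (T : Subgroup W)))
    have hk0 : k ≠ 0 := fun e => by
      have h1 := Finite.one_lt_card (α := Subgroup.center (T : Subgroup W))
      rw [hk, e, pow_zero] at h1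
      exact lt_irrefl _ h1
    obtain ⟨w, hw⟩ := exists_prime_orderOf_dvd_card' (G := Subgroup.center (T : Subgroup W)) 2
      (hk ▸ dvd_pow_self 2 hk0)
    set w' : G := ((((w : (T : Subgroup W)) : W) : K) : G) with hw'
    have hwo : orderOf w' = 2 := by
      rw [hw', Subgroup.orderOf_coe, Subgroup.orderOf_coe, Subgroup.orderOf_coe, Subgroup.orderOf_coe, hw]
    have hwz : w' = z := by
      refine hone w' hwo ?_ fun x hx => (Subgroup.mem_centralizer_iff.1 ((w : (T : Subgroup W)) : W).1.2 x hx).symm
      exact congrArg (fun x : (T : Subgroup W) => (((x : W) : K) : G))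
        (Subgroup.mem_center_iff.1 w.2 ⟨_, hzT⟩)
    intro v hv hvo
    refine hone _ (by rw [Subgroup.orderOf_coe, Subgroup.orderOf_coe, hvo]) ?_
      fun x hx => (Subgroup.mem_centralizer_iff.1 (v : K).2 x hx).symm
    rw [← hwz]
    exact (congrArg (fun x : (T : Subgroup W) => (((x : W) : K) : G))
      (Subgroup.mem_center_iff.1 w.2 ⟨v, hv⟩)).symm
  -- Frattini
  set N := Subgroup.normalizer (((T : Subgroup W).map W.subtype : Subgroup K) : Set K) with hN
  have hfr : N ⊔ W = ⊤ := Sylow.normalizer_sup_eq_top T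
  have hNC : N.map K.subtype ≤ C := by
    rintro _ ⟨n, hn, rfl⟩
    rw [hC, Subgroup.mem_centralizer_singleton_iff]
    have hmem : n * ⟨z, hzK⟩ * n⁻¹ ∈ (T : Subgroup W).map W.subtype :=
      (Subgroup.mem_normalizer_iff.1 hn _).1 ⟨_, hzT, rfl⟩
    obtain ⟨v, hv, hv'⟩ := hmem
    have h2 : orderOf v = 2 := by
      rw [← Subgroup.orderOf_coe, show (v : K) = MulAut.conj n ⟨z, hzK⟩ from hv', MulEquiv.orderOf_eq,
        Subgroup.orderOf_mk, hzu.hz]
    have h3 : (n : G) * z * (n : G)⁻¹ = z := by
      have h4 : ((v : K) : G) = (n : G) * z * (n : G)⁻¹ := congrArg Subtype.val hv'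
      rw [← h4]; exact hinv v hv h2
    exact mul_inv_eq_iff_eq_mul.1 h3
  have hdvd : Nat.card K ∣ Nat.card N * Nat.card W := by
    have h1 := Subgroup.relIndex_sup_right (K := W) (H := N)
    rw [← Subgroup.card_mul_index W, mul_comm]
    refine mul_dvd_mul_right ?_ _
    rw [← Subgroup.relIndex_top_right, ← hfr]
    first
    | rw [h1]; exact Subgroup.index_dvd_card _
    | rw [sup_comm, h1]; exact Subgroup.index_dvd_card _
  have hW0 : padicValNat r (Nat.card W) = 0 :=
    padicValNat.eq_zero_of_not_dvd fun h => hrp.not_dvd_one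
      ((Fusion.hnpc_iff.1 hnp).gcd_eq_one ▸ Nat.dvd_gcd h dvd_rfl)
  have hG : padicValNat r (Nat.card G) ≤ padicValNat r (Nat.card K) := by
    refine (padicValNat_dvd_iff_le Nat.card_pos.ne').1 ?_
    have h := Subgroup.card_dvd_of_le hPK
    rwa [Sylow.card_eq_multiplicity, Nat.factorization_def _ hrp] at h
  have hKN : padicValNat r (Nat.card K) ≤ padicValNat r (Nat.card N) := by
    have h := (padicValNat_dvd_iff_le (p := r) (mul_ne_zero Nat.card_pos.ne' Nat.card_pos.ne')).1
      (pow_padicValNat_dvd.trans hdvd)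
    rw [padicValNat.mul Nat.card_pos.ne' Nat.card_pos.ne', hW0, add_zero] at h
    exact h
  have hNle : padicValNat r (Nat.card N) ≤ padicValNat r (Nat.card C) := by
    refine (padicValNat_dvd_iff_le Nat.card_pos.ne').1 (pow_padicValNat_dvd.trans ?_)
    rw [← Subgroup.card_map_of_injective (K := N) K.subtype_injective]
    exact Subgroup.card_dvd_of_le hNC
  omega

end Cfsg.Agent.Solv.AlmostCyclic
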