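import Mathlib
import Cfsg.Agent.Lib.Solv.AlmostCyclic.Field
import Cfsg.Agent.Lib.Solv.AlmostCyclic.Local
import Cfsg.Agent.Lib.Small.SL2.Classes
import Cfsg.Agent.Lib.Char.OrderQW.CenterModCore

/-!
# The centralizer of an involution: the torus elements avoid the four-group
-/

set_option autoImplicit false
set_option linter.style.haveILetI false
set_option linter.unusedSectionVars false

open Cfsg Cfsg.Agent

namespace Cfsg.Agent.Solv.AlmostCyclic

universe u

/-- The configuration: `X` is the centralizer of `z` modulo an odd normal subgroup. -/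
structure Cfg {G : Type u} [Group G] (z w : G) (p : ℕ) (F : Type) [Field F] (X : Type u) [Group X] where
  S : Sylow 2 G
  hS : Cfsg.IsQuasiDihedral (S : Subgroup G)
  pair : Pair z w
  hcomm : z * w = w * z
  cyc : OddCyclic G
  hzS : (S : Subgroup G) ≤ Subgroup.centralizer ({z} : Set G)
  π : Subgroup.centralizer ({z} : Set G) →* X
  surj : Function.Surjective π
  odd : Odd (Nat.card π.ker)
  T : Sylow 2 X
  hT : Cfsg.IsQuasiDihedral (T : Subgroup X)
  L : Subgroup X
  normal : L.Normal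
  e : L ≃* Matrix.SpecialLinearGroup (Fin 2) F
  invol : ∀ t ∈ L, t * t = 1 → t = 1 ∨ t = π ⟨z, Subgroup.mem_centralizer_singleton_iff.2 rfl⟩
  zL : π ⟨z, Subgroup.mem_centralizer_singleton_iff.2 rfl⟩ ∈ L
  isl : ∀ A : Matrix.SpecialLinearGroup (Fin 2) F, A.1 * A.1 = -1 → orderOf A = 4
  one : ∀ v : G, orderOf v = 2 → IsConj z v
  core : Cfsg.oddCore X = ⊥

namespace Cfg

variable {G : Type u} [Group G] [Finite G] {z w : G} {p : ℕ} [Fact p.Prime] {F : Type} [Field F] [Fintype F]
  {X : Type u} [Group X] [Finite X] (D : Cfg z w p F X)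

include D

/-- The central involution in `X`. -/
noncomputable def zb : X := D.π ⟨z, Subgroup.mem_centralizer_singleton_iff.2 rfl⟩

/-- The image of the second involution. -/
noncomputable def wb : X := D.π ⟨w, Subgroup.mem_centralizer_singleton_iff.2 D.hcomm.symm⟩

theorem eq_one_of_ker {c : Subgroup.centralizer ({z} : Set G)} (hc : D.π c = 1) (h2 : c * c = 1) : c = 1 := by
  have hd : orderOf c ∣ Nat.card D.π.ker :=
    (Subgroup.orderOf_mk c (D.π.mem_ker.2 hc)) ▸ orderOf_dvd_natCard _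
  have h : orderOf c ∣ Nat.gcd (Nat.card D.π.ker) 2 :=
    Nat.dvd_gcd hd (orderOf_dvd_of_pow_eq_one (by rw [pow_two]; exact h2))
  rw [(Nat.coprime_two_right.2 D.odd).gcd_eq_one] at h
  exact orderOf_eq_one_iff.1 (Nat.dvd_one.1 h)

theorem wb_facts : D.wb * D.wb = 1 ∧ D.wb ≠ 1 ∧ D.wb ≠ D.zb := by
  have hzz : z * z = 1 := Fusion.invol_mul_self D.pair.hz
  have hww : w * w = 1 := Fusion.invol_mul_self D.pair.hu
  refine ⟨?_, fun h => ?_, fun h => ?_⟩
  · rw [wb, ← map_mul, ← map_one D.π]
    exact congrArg D.π (Subtype.ext hww)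
  · have h1 : w = 1 := congrArg Subtype.val (D.eq_one_of_ker h (Subtype.ext hww))
    have h2 := D.pair.hu
    rw [h1, orderOf_one] at h2
    omega
  · refine D.pair.hne ?_
    have h1 := D.eq_one_of_ker (c := ⟨z, Subgroup.mem_centralizer_singleton_iff.2 rfl⟩ *
      ⟨w, Subgroup.mem_centralizer_singleton_iff.2 D.hcomm.symm⟩) ?_ (Subtype.ext ?_)
    · have h2 : z * w = 1 := congrArg Subtype.val h1
      rw [← mul_left_cancel_iff (a := z), h2, hzz]
    · rw [map_mul, show D.π ⟨w, _⟩ = D.zb from h, zb, ← map_mul, ← map_one D.π]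
      exact congrArg D.π (Subtype.ext hzz)
    · show z * w * (z * w) = 1
      calc z * w * (z * w) = z * (w * z) * w := by simp only [mul_assoc]
        _ = z * z * (w * w) := by rw [← D.hcomm]; simp only [mul_assoc]
        _ = 1 := by rw [hzz, hww, one_mul]

theorem wb_not_mem : D.wb ∉ D.L := fun h => by
  obtain ⟨h1, h2, h3⟩ := D.wb_facts
  rcases D.invol _ h h1 with h' | h'
  exacts [h2 h', h3 h']

/-- Conjugation by the second involution on `L`, seen in `SL₂`. -/
noncomputable def aut : MulAut (Matrix.SpecialLinearGroup (Fin 2) F) :=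
  haveI := D.normal
  MulAut.congr D.e (MulAut.conjNormal D.wb)

theorem aut_apply (A : Matrix.SpecialLinearGroup (Fin 2) F) :
    (((D.e.symm (D.aut A) : D.L)) : X) = D.wb * ((D.e.symm A : D.L) : X) * D.wb⁻¹ := by
  haveI := D.normal
  simp [aut, MulAut.congr]

theorem aut_sq : D.aut * D.aut = 1 := by
  haveI := D.normal
  rw [aut, ← map_mul, ← map_mul, D.wb_facts.1, map_one, map_one]

theorem aut_fix_iff (A : Matrix.SpecialLinearGroup (Fin 2) F) :
    D.aut A = A ↔ Commute D.wb ((D.e.symm A : D.L) : X) := by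
  constructor
  · intro h
    have h1 := D.aut_apply A
    rw [h] at h1
    exact (mul_inv_eq_iff_eq_mul.1 h1.symm)
  · intro h
    apply D.e.symm.injective
    apply Subtype.ext
    rw [D.aut_apply, h.eq, mul_inv_cancel_right]

/-- No square root of `-1` in `L` is fixed. -/
theorem no_fixed_root {i : Matrix.SpecialLinearGroup (Fin 2) F} (hi : i.1 * i.1 = -1) : D.aut i ≠ i := by
  intro hfix
  obtain ⟨h1, h2, h3⟩ := D.wb_facts
  set a : X := ((D.e.symm i : D.L) : X) with ha
  have ha4 : orderOf a = 4 := by rw [ha, Subgroup.orderOf_coe, MulEquiv.orderOf_eq, D.isl i hi]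
  have hb : orderOf D.wb = 2 := orderOf_eq_prime (by rw [pow_two]; exact h1) h2
  have h := no_four_comm' D.T D.hT ha4 hb ((D.aut_fix_iff i).1 hfix).symm
  refine D.wb_not_mem ?_
  rw [h, ha]
  exact pow_mem (D.e.symm i : D.L).2 2

/-- A torus or unipotent element of `L` does not commute with the second involution. -/
theorem no_comm (hF : Fintype.card F = p) (hp : p ≠ 2) {m : ℕ} {σ : ℤ} (hσ : σ = 1 ∨ σ = -1)
    (hm : (m : ℤ) = p + σ) (hm4 : 4 ∣ m) {r : ℕ} (hr : r.Prime) (hr2 : r ≠ 2) (hrm : r ∣ m ∨ r = p) {y : X}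
    (hy : y ∈ D.L) (hyo : orderOf y = r) : ¬ Commute D.wb y := by
  intro hc
  set Y := D.e ⟨y, hy⟩ with hY
  have hYo : orderOf Y = r := by rw [hY, MulEquiv.orderOf_eq, Subgroup.orderOf_mk, hyo]
  have hfix : D.aut Y = Y := (D.aut_fix_iff Y).2 (by rw [hY, D.e.symm_apply_apply]; exact hc)
  rcases hrm with hrm | rfl
  · obtain ⟨i, hi, hfi⟩ := torus_fix hF hp hσ hm hm4 hr hr2 hrm hYo hfix
    exact D.no_fixed_root hi hfi
  · have h := unip_fix hF hp D.aut_sq hYo hfix
    refine D.no_fixed_root (i := Small.PSL2.wS) ?_ (by rw [h]; rfl)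
    ext i j; fin_cases i <;> fin_cases j <;> simp [Matrix.mul_apply, Fin.sum_univ_two]

theorem cyc_X : OddCyclic X := by
  intro r hr hr2 P
  haveI : Fact r.Prime := ⟨hr⟩
  obtain ⟨R⟩ : Nonempty (Sylow r (Subgroup.centralizer ({z} : Set G))) := inferInstance
  haveI : IsCyclic (R : Subgroup (Subgroup.centralizer ({z} : Set G))) := by
    haveI := D.cyc.pgroup hr2 (R.isPGroup'.map (Subgroup.centralizer ({z} : Set G)).subtype)
    exact isCyclic_of_surjective ((R : Subgroup (Subgroup.centralizer ({z} : Set G))).equivMapOfInjective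
      (Subgroup.centralizer ({z} : Set G)).subtype (Subgroup.subtype_injective _)).symm
      (MulEquiv.surjective _)
  haveI : IsCyclic (R.mapSurjective D.surj : Subgroup X) := by
    rw [Sylow.coe_mapSurjective]
    exact isCyclic_of_surjective (D.π.subgroupMap _) (MonoidHom.subgroupMap_surjective _ _)
  exact isCyclic_of_surjective (((R.mapSurjective D.surj).equiv P)) (MulEquiv.surjective _)

theorem card_C : Nat.card (Subgroup.centralizer ({z} : Set G)) = Nat.card X * Nat.card D.π.ker := by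
  rw [← Subgroup.card_mul_index D.π.ker, mul_comm, Subgroup.index_ker, D.π.range_eq_top.2 D.surj, Subgroup.card_top]

theorem card_L (hF : Fintype.card F = p) : Nat.card D.L = p * (p ^ 2 - 1) := by
  rw [Nat.card_congr D.e.toEquiv, Small.SL2C.card_SL2, hF]

theorem centralizer_le : Subgroup.centralizer ({z, w} : Set G) ≤ Subgroup.centralizer ({z} : Set G) :=
  Subgroup.centralizer_le (Set.singleton_subset_iff.2 (Set.mem_insert _ _))

/-- The parts at the primes of `p + σ` and at `p`. -/
theorem val_bound (hF : Fintype.card F = p) (hp : p ≠ 2) {m : ℕ} {σ : ℤ} (hσ : σ = 1 ∨ σ = -1)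
    (hm : (m : ℤ) = p + σ) (hm4 : 4 ∣ m) {r : ℕ} [Fact r.Prime] (hr2 : r ≠ 2) (hrm : r ∣ m ∨ r = p)
    (hrL : r ∣ p * (p ^ 2 - 1)) :
    padicValNat r (Nat.card (Subgroup.centralizer ({z, w} : Set G))) + padicValNat r (p * (p ^ 2 - 1)) ≤
      padicValNat r (Nat.card (Subgroup.centralizer ({z} : Set G))) := by
  classical
  have hr : r.Prime := Fact.out
  haveI := D.normal
  have hL0 : Nat.card D.L ≠ 0 := Nat.card_pos.ne'
  have hle : padicValNat r (p * (p ^ 2 - 1)) ≤ padicValNat r (Nat.card X) := by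
    rw [← D.card_L hF]
    exact (padicValNat_dvd_iff_le Nat.card_pos.ne').1 (pow_padicValNat_dvd.trans (Subgroup.card_subgroup_dvd_card _))
  obtain ⟨P⟩ : Nonempty (Sylow r (Subgroup.centralizer ({z, w} : Set G))) := inferInstance
  set P' := (P : Subgroup (Subgroup.centralizer ({z, w} : Set G))).map
    (Subgroup.inclusion D.centralizer_le) with hP'
  have hPp : IsPGroup r P' := P.isPGroup'.map _
  have hPker : P' ≤ D.π.ker := by
    by_contra hcon
    have hne : P'.map D.π ≠ ⊥ := fun h => hcon ((Subgroup.map_eq_bot_iff _).1 h)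
    obtain ⟨Q, hQ⟩ := (hPp.map D.π).exists_le_sylow
    haveI := D.cyc_X r hr hr2 Q
    haveI : Nontrivial (P'.map D.π) := (Subgroup.nontrivial_iff_ne_bot _).2 hne
    obtain ⟨k, hk⟩ := IsPGroup.iff_card.1 (hPp.map D.π)
    have hk0 : k ≠ 0 := fun e => by
      have h1 := Finite.one_lt_card (α := P'.map D.π)
      rw [hk, e, pow_zero] at h1
      exact lt_irrefl _ h1
    obtain ⟨y, hy⟩ := exists_prime_orderOf_dvd_card' (G := P'.map D.π) r (hk ▸ dvd_pow_self r hk0)
    obtain ⟨l, hl⟩ := exists_prime_orderOf_dvd_card' (G := D.L) r (by rw [D.card_L hF]; exact hrL)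
    obtain ⟨Q', hQ'⟩ := (IsPGroup.of_card (p := r) (n := 1) (G := Subgroup.zpowers (l : X))
      (by rw [Nat.card_zpowers, Subgroup.orderOf_coe, hl, pow_one])).exists_le_sylow
    obtain ⟨g, hg⟩ := MulAction.exists_smul_eq X Q' Q
    have hlQ : g * (l : X) * g⁻¹ ∈ (Q : Subgroup X) := by
      rw [← hg, Sylow.coe_subgroup_smul]
      exact ⟨_, hQ' (Subgroup.mem_zpowers _), rfl⟩
    have hyo : orderOf (y : X) = r := by rw [Subgroup.orderOf_coe, hy]
    have hlo : orderOf (g * (l : X) * g⁻¹) = r := by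
      rw [show g * (l : X) * g⁻¹ = MulAut.conj g (l : X) from rfl, MulEquiv.orderOf_eq, Subgroup.orderOf_coe, hl]
    have hyL : (y : X) ∈ D.L :=
      (Subgroup.zpowers_le.2 (D.normal.conj_mem _ l.2 g)) (mem_zpowers_of_cyclic hr hlQ (hQ y.2) hlo hyo)
    refine D.no_comm hF hp hσ hm hm4 hr hr2 hrm hyL hyo ?_
    obtain ⟨c, ⟨c', -, rfl⟩, hcy⟩ := y.2
    rw [← hcy, wb]
    refine Commute.map (Subtype.ext ?_) D.π
    exact Subgroup.mem_centralizer_iff.1 c'.2 w (Or.inr rfl)
  have h1 : padicValNat r (Nat.card (Subgroup.centralizer ({z, w} : Set G))) ≤ padicValNat r (Nat.card D.π.ker) := by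
    refine (padicValNat_dvd_iff_le Nat.card_pos.ne').1 ?_
    have h := Subgroup.card_dvd_of_le hPker
    rwa [hP', Subgroup.card_map_of_injective (Subgroup.inclusion_injective _), Sylow.card_eq_multiplicity,
      Nat.factorization_def _ hr] at h
  rw [D.card_C, padicValNat.mul Nat.card_pos.ne' Nat.card_pos.ne']
  omega

/-- The two-parts. -/
theorem val_two (hF : Fintype.card F = p) :
    padicValNat 2 (Nat.card G) = padicValNat 2 (Nat.card (Subgroup.centralizer ({z} : Set G))) ∧
      padicValNat 2 (Nat.card (Subgroup.centralizer ({z, w} : Set G))) ≤ 2 ∧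
      padicValNat 2 (p * (p ^ 2 - 1)) + 1 ≤ padicValNat 2 (Nat.card (Subgroup.centralizer ({z} : Set G))) := by
  classical
  haveI : Fact (Nat.Prime 2) := ⟨Nat.prime_two⟩
  haveI := D.normal
  refine ⟨le_antisymm ?_ ((padicValNat_dvd_iff_le Nat.card_pos.ne').1
    (pow_padicValNat_dvd.trans (Subgroup.card_subgroup_dvd_card _))), ?_, ?_⟩
  · refine (padicValNat_dvd_iff_le Nat.card_pos.ne').1 ?_
    have h := Subgroup.card_dvd_of_le D.hzS
    rwa [Sylow.card_eq_multiplicity, Nat.factorization_def _ Nat.prime_two] at h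
  · set C2 := Subgroup.centralizer ({z, w} : Set G)
    obtain ⟨P⟩ : Nonempty (Sylow 2 C2) := inferInstance
    have hzC : z ∈ C2 := Subgroup.mem_centralizer_iff.2 (by
      intro h hh
      rcases hh with rfl | rfl
      exacts [rfl, D.hcomm.symm])
    have hwC : w ∈ C2 := Subgroup.mem_centralizer_iff.2 (by
      intro h hh
      rcases hh with rfl | rfl
      exacts [D.hcomm, rfl])
    have hmem : ∀ v : C2, orderOf v = 2 → (∀ x : C2, Commute v x) → v ∈ (P : Subgroup C2) := by
      intro v hv hc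
      have h1 : IsPGroup 2 (Subgroup.zpowers v ⊔ (P : Subgroup C2) : Subgroup C2) :=
        IsPGroup.to_sup_of_normal_left' (IsPGroup.of_card (n := 1) (by rw [Nat.card_zpowers, hv]; rfl))
          P.isPGroup' (fun x _ => Subgroup.mem_normalizer_iff.2 fun y => by
            constructor
            · rintro ⟨k, rfl⟩
              exact ⟨k, by show v ^ k = x * v ^ k * x⁻¹; rw [← ((hc x).zpow_left k).eq, mul_inv_cancel_right]⟩
            · rintro ⟨k, hk⟩
              refine ⟨k, ?_⟩
              have hk' : v ^ k = x * y * x⁻¹ := hk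
              show v ^ k = y
              calc v ^ k = x⁻¹ * (v ^ k * x) := by rw [((hc x).zpow_left k).eq]; group
                _ = x⁻¹ * (x * y * x⁻¹ * x) := by rw [hk']
                _ = y := by group)
      exact (P.3 h1 le_sup_right) ▸ Subgroup.mem_sup_left (Subgroup.mem_zpowers v)
    have hzP := hmem ⟨z, hzC⟩ (by rw [Subgroup.orderOf_mk, D.pair.hz])
      fun x => Subtype.ext (Subgroup.mem_centralizer_iff.1 x.2 z (Or.inl rfl))
    have hwP := hmem ⟨w, hwC⟩ (by rw [Subgroup.orderOf_mk, D.pair.hu])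
      fun x => Subtype.ext (Subgroup.mem_centralizer_iff.1 x.2 w (Or.inr rfl))
    obtain ⟨g, hg⟩ := Char.OrderQW.exists_conj_into D.S (P.isPGroup'.map C2.subtype)
    obtain ⟨n, ⟨E⟩⟩ := Fusion.exists_qdData' D.hS
    -- one of the two involutions is noncentral
    obtain ⟨v, hvP, hvo, hvc, hvz⟩ : ∃ v : C2, ∃ hv : v ∈ (P : Subgroup C2), orderOf v = 2 ∧
        (∀ x : C2, Commute v x) ∧
        (⟨_, hg _ ⟨v, hv, rfl⟩⟩ : (D.S : Subgroup G)) ≠ E.z := by
      by_cases h : (⟨_, hg _ ⟨_, hzP, rfl⟩⟩ : (D.S : Subgroup G)) = E.z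
      · refine ⟨_, hwP, by rw [Subgroup.orderOf_mk, D.pair.hu],
          fun x => Subtype.ext (Subgroup.mem_centralizer_iff.1 x.2 w (Or.inr rfl)), fun h' => D.pair.hne ?_⟩
        exact (MulAut.conj g).injective (congrArg Subtype.val (h'.trans h.symm))
      · exact ⟨_, hzP, by rw [Subgroup.orderOf_mk, D.pair.hz],
          fun x => Subtype.ext (Subgroup.mem_centralizer_iff.1 x.2 z (Or.inl rfl)), h⟩
    set v' : (D.S : Subgroup G) := ⟨_, hg _ ⟨v, hvP, rfl⟩⟩ with hv'
    have hv'o : orderOf v' = 2 := by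
      rw [hv', Subgroup.orderOf_mk, show g * C2.subtype v * g⁻¹ = MulAut.conj g (v : G) from rfl,
        MulEquiv.orderOf_eq, Subgroup.orderOf_coe, hvo]
    obtain ⟨i, hi, hvi⟩ := (E.invol_cases hv'o).resolve_left hvz
    let f : ↥(P : Subgroup C2) → Subgroup.centralizer ({v'} : Set (D.S : Subgroup G)) := fun x =>
      ⟨⟨_, hg _ ⟨x, x.2, rfl⟩⟩, Subgroup.mem_centralizer_singleton_iff.2 (Subtype.ext (by
        show g * ((x : C2) : G) * g⁻¹ * (g * (v : G) * g⁻¹) = g * (v : G) * g⁻¹ * (g * ((x : C2) : G) * g⁻¹)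
        rw [conj_mul, conj_mul, ← Subgroup.coe_mul, ← Subgroup.coe_mul, (hvc x).eq]))⟩
    have hf : Function.Injective f := fun a b h => by
      have h1 := congrArg (fun x : Subgroup.centralizer ({v'} : Set (D.S : Subgroup G)) =>
        ((x : (D.S : Subgroup G)) : G)) h
      exact Subtype.ext (Subtype.ext ((MulAut.conj g).injective h1))
    have h4 := Nat.card_le_card_of_injective f hf
    rw [hvi, E.card_centralizer_refl, Sylow.card_eq_multiplicity, Nat.factorization_def _ Nat.prime_two,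
      show (4 : ℕ) = 2 ^ 2 by rfl] at h4
    exact (Nat.pow_le_pow_iff_right (by norm_num)).1 h4
  · rw [D.card_C, padicValNat.mul Nat.card_pos.ne' Nat.card_pos.ne', ← Subgroup.card_mul_index D.L,
      padicValNat.mul Nat.card_pos.ne' Subgroup.index_ne_zero_of_finite, D.card_L hF]
    have h2 : 2 ∣ D.L.index := by
      obtain ⟨h1, -, -⟩ := D.wb_facts
      have h3 : orderOf (QuotientGroup.mk' D.L D.wb) = 2 := orderOf_eq_prime (by rw [pow_two, ← map_mul, h1, map_one])
        fun h => D.wb_not_mem ((QuotientGroup.eq_one_iff _).1 h)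
      exact h3 ▸ orderOf_dvd_natCard _
    have := one_le_padicValNat_of_dvd (p := 2) Subgroup.index_ne_zero_of_finite h2
    omega

end Cfg

end Cfsg.Agent.Solv.AlmostCyclic
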