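import Mathlib
import Cfsg.Agent.Lib.Solv.AlmostCyclic.Config
import Cfsg.Agent.Lib.Fusion.Cores

/-!
# The configuration at `p = 5`

The odd kernel is trivial, so the group would have order `85680`, and Sylow counting at 7 and 17 refutes this.
-/

set_option autoImplicit false
set_option linter.style.haveILetI false
set_option linter.unusedSectionVars false

open Cfsg Cfsg.Agent Cfsg.Agent.Small.PSL2

namespace Cfsg.Agent.Solv.AlmostCyclic

universe u

theorem count_three : (Finset.univ.filter fun q : ZMod 5 × ZMod 5 =>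
    q.1 * q.1 - q.1 * q.2 + q.2 * q.2 = 1).card ≤ 6 := by decide

/-- A subgroup of prime power order is conjugate into a given Sylow subgroup. -/
theorem exists_conj {G : Type u} [Group G] [Finite G] {r : ℕ} [Fact r.Prime] (T : Sylow r G) {P : Subgroup G}
    (hP : IsPGroup r P) : ∃ g : G, ∀ x ∈ P, g * x * g⁻¹ ∈ (T : Subgroup G) := by
  obtain ⟨Q, hQ⟩ := hP.exists_le_sylow
  obtain ⟨g, hg⟩ := MulAction.exists_smul_eq G Q T
  refine ⟨g, fun x hx => ?_⟩
  rw [← hg, Sylow.coe_subgroup_smul]
  exact ⟨x, hQ hx, rfl⟩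

section SL2

variable {F : Type} [Field F] [Fintype F] [Fact (Nat.Prime 5)]

/-- An element of order three is centralised by at most six elements. -/
theorem card_comm_six (hF : Fintype.card F = 5) {Y : Matrix.SpecialLinearGroup (Fin 2) F} (hY : orderOf Y = 3) :
    Nat.card {A : Matrix.SpecialLinearGroup (Fin 2) F // A * Y = Y * A} ≤ 6 := by
  classical
  have hns := not_scalar (p := 5) hF (by norm_num) hY Nat.prime_three (by norm_num)
  set t := Y.1.trace with ht
  have hY3 : Y.1 * Y.1 * Y.1 = 1 := by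
    have h := congrArg Subtype.val (hY ▸ pow_orderOf_eq_one Y)
    rwa [Matrix.SpecialLinearGroup.coe_pow, pow_succ, pow_two, Matrix.SpecialLinearGroup.coe_one] at h
  have hlin : (t * t - 1) • Y.1 = (t + 1) • (1 : Matrix (Fin 2) (Fin 2) F) := by
    rw [cayley, ← ht, sub_mul, Matrix.smul_mul, cayley, ← ht, one_mul, smul_sub, smul_smul] at hY3
    linear_combination (norm := module) hY3
  have ht1 : t = -1 := by
    have h0 : t * t - 1 = 0 := by
      by_contra h
      exact hns ((t * t - 1)⁻¹ * (t + 1)) (((eq_inv_smul_iff₀ h).2 hlin).trans (smul_smul _ _ _))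
    rw [h0, zero_smul] at hlin
    have h1 := congrFun (congrFun hlin 0) 0
    simp at h1
    linear_combination -h1
  choose a b hab using fun A : {A : Matrix.SpecialLinearGroup (Fin 2) F // A * Y = Y * A} =>
    comm_eq (show A.1.1 * Y.1 = Y.1 * A.1.1 from congrArg Subtype.val A.2) hns
  have hdet : ∀ A, a A * a A - a A * b A + b A * b A = 1 := by
    intro A
    have h := A.1.2
    rw [hab A, Matrix.det_fin_two] at h
    have hd := Y.2
    rw [Matrix.det_fin_two] at hd
    rw [Matrix.trace_fin_two] at ht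
    simp at h
    linear_combination h - a A * a A * hd + a A * b A * ht - a A * b A * ht1
  let φ := (ZMod.ringEquivOfPrime F (Fact.out : Nat.Prime 5) hF).symm
  refine le_trans ?_ count_three
  rw [← Nat.card_eq_finsetCard]
  refine Nat.card_le_card_of_injective (fun A => ⟨(φ (a A), φ (b A)), by
    simp only [Finset.mem_filter, Finset.mem_univ, true_and]
    rw [← map_mul, ← map_mul, ← map_mul, ← map_sub, ← map_add, hdet, map_one]⟩) fun A B h => ?_
  simp only [Subtype.mk.injEq, Prod.mk.injEq, EmbeddingLike.apply_eq_iff_eq] at h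
  exact Subtype.ext (Subtype.ext (by rw [hab A, hab B, h.1, h.2]))

/-- The square of an automorphism is inner. -/
theorem sq_inner (hF : Fintype.card F = 5) (α : MulAut (Matrix.SpecialLinearGroup (Fin 2) F)) :
    ∃ A : Matrix.SpecialLinearGroup (Fin 2) F, ∀ B, α (α B) * A = A * B := by
  obtain ⟨g, hg⟩ := exists_matrix (p := 5) hF (by norm_num) α
  have hd : g.val.det ≠ 0 := ((Matrix.isUnit_iff_isUnit_det _).1 g.isUnit).ne_zero
  refine ⟨⟨g.val.det⁻¹ • (g.val * g.val), ?_⟩, fun B => Subtype.ext ?_⟩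
  · rw [Matrix.det_smul, Matrix.det_mul, Fintype.card_fin, pow_two, mul_mul_mul_comm, inv_mul_cancel₀ hd, one_mul]
  · show (α (α B)).1 * (g.val.det⁻¹ • (g.val * g.val)) = (g.val.det⁻¹ • (g.val * g.val)) * B.1
    rw [Matrix.mul_smul, Matrix.smul_mul, ← mul_assoc, hg, mul_assoc, hg, ← mul_assoc]

end SL2

variable {G : Type u} [Group G] [Finite G]

/-- Counting at a prime dividing the order once. -/
theorem sylow_once {r : ℕ} [Fact r.Prime] (h2 : ¬ r ^ 2 ∣ Nat.card G) {x : G} (hx : orderOf x = r) :
    ∃ n e m : ℕ, Nat.card (Subgroup.centralizer ({x} : Set G)) = r * m ∧ e ∣ r - 1 ∧ n % r = 1 ∧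
      n * e * m * r = Nat.card G := by
  classical
  have hr : r.Prime := Fact.out
  have hP : IsPGroup r (Subgroup.zpowers x) := IsPGroup.of_card (n := 1) (by rw [Nat.card_zpowers, hx, pow_one])
  obtain ⟨P, hxP⟩ := hP.exists_le_sylow
  obtain ⟨k, hk⟩ := IsPGroup.iff_card.1 P.isPGroup'
  have hPx : (P : Subgroup G) = Subgroup.zpowers x := by
    refine (Subgroup.eq_of_le_of_card_ge hxP ?_).symm
    rw [Nat.card_zpowers, hx, hk]
    rcases le_or_gt k 1 with h | h
    · exact (Nat.pow_le_pow_right hr.pos h).trans (pow_one r).le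
    · exact absurd ((pow_dvd_pow r h).trans (hk ▸ Subgroup.card_subgroup_dvd_card _)) h2
  set C := Subgroup.centralizer ({x} : Set G) with hC
  set N := Subgroup.normalizer ((P : Subgroup G) : Set G) with hN
  set φ := (P : Subgroup G).normalizerMonoidHom with hφ
  have hxC : Subgroup.zpowers x ≤ C := Subgroup.zpowers_le.2 (Subgroup.mem_centralizer_singleton_iff.2 rfl)
  have hker : φ.ker.map (Subgroup.normalizer ((P : Subgroup G) : Set G)).subtype = C := by
    rw [hφ, Subgroup.normalizerMonoidHom_ker, hPx, ← Subgroup.centralizer_closure, Subgroup.zpowers_eq_closure,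
      Subgroup.centralizer_closure, Subgroup.centralizer_closure, Subgroup.subgroupOf_map_subtype, ← hC, inf_eq_left]
    intro c hc
    have hcc := Subgroup.mem_centralizer_singleton_iff.1 hc
    have hfix : ∀ y ∈ Subgroup.zpowers x, c * y * c⁻¹ = y := by
      rintro _ ⟨i, rfl⟩
      show c * x ^ i * c⁻¹ = x ^ i
      rw [((show Commute c x from hcc).zpow_right i).eq, mul_inv_cancel_right]
    rw [← Subgroup.zpowers_eq_closure, Subgroup.mem_normalizer_iff]
    intro y
    refine ⟨fun hy => by rw [hfix y hy]; exact hy, fun hy => ?_⟩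
    have h1 := hfix _ hy
    rw [mul_left_inj, mul_right_inj] at h1
    rwa [h1] at hy
  obtain ⟨m, hm⟩ : r ∣ Nat.card C := hx ▸ Nat.card_zpowers x ▸ Subgroup.card_dvd_of_le hxC
  refine ⟨Nat.card (Sylow r G), φ.ker.index, m, hm, ?_, Eq.trans (card_sylow_modEq_one r G) (Nat.mod_eq_of_lt hr.one_lt), ?_⟩
  · haveI : IsCyclic (P : Subgroup G) := hPx ▸ (inferInstance : IsCyclic (Subgroup.zpowers x))
    rw [Subgroup.index_ker]
    refine (Subgroup.card_subgroup_dvd_card _).trans ?_
    rw [IsCyclic.card_mulAut, hPx, Nat.card_zpowers, hx, Nat.totient_prime hr]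
  · have h1 : Nat.card φ.ker = r * m := by
      rw [← hm, ← hker, Subgroup.card_map_of_injective (Subgroup.subtype_injective _)]
    have h3 := Subgroup.card_mul_index φ.ker
    rw [h1] at h3
    have h4 : Nat.card (Sylow r G) = N.index := Sylow.card_eq_index_normalizer P
    rw [h4, ← Subgroup.card_mul_index N]
    rw [show Nat.card N = r * m * φ.ker.index from h3.symm]
    ring

/-- Normal subgroups of one odd order and index twelve coincide if the Sylow 3-subgroups are cyclic. -/
theorem eq_of_index_twelve (h3 : ∀ P : Sylow 3 G, IsCyclic P) {A B : Subgroup G} [A.Normal] [B.Normal]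
    (hAB : Nat.card A = Nat.card B) (hodd : Odd (Nat.card A)) (hB : B.index = 12) : A = B := by
  classical
  haveI : Fact (Nat.Prime 3) := ⟨Nat.prime_three⟩
  have h12 : B.relIndex A ∣ 12 := hB ▸ Subgroup.relIndex_dvd_index_of_normal B A
  have hcard : Nat.card (B.subgroupOf A) * B.relIndex A = Nat.card A := Subgroup.card_mul_index (B.subgroupOf A)
  have hd3 : B.relIndex A ∣ 3 := by
    have hco : (B.relIndex A).Coprime 4 :=
      Nat.Coprime.pow_right 2 (Nat.coprime_two_right.2 (hodd.of_dvd_nat ⟨_, hcard.symm.trans (mul_comm _ _)⟩))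
    exact hco.dvd_of_dvd_mul_right (show B.relIndex A ∣ 3 * 4 from h12)
  rcases (Nat.dvd_prime Nat.prime_three).1 hd3 with h1 | h1
  · exact Subgroup.eq_of_le_of_card_ge (Subgroup.relIndex_eq_one.1 h1) hAB.ge
  exfalso
  obtain ⟨Q⟩ : Nonempty (Sylow 3 A) := inferInstance
  obtain ⟨Q'⟩ : Nonempty (Sylow 3 B) := inferInstance
  set QA := (Q : Subgroup A).map A.subtype with hQA
  set QB := (Q' : Subgroup B).map B.subtype with hQB
  obtain ⟨P, hP⟩ := (Q.isPGroup'.map A.subtype).exists_le_sylow
  obtain ⟨c, hc⟩ := exists_conj P (Q'.isPGroup'.map B.subtype)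
  haveI := h3 P
  have hQc : Nat.card QA = Nat.card (Fusion.cj QB c) := by
    rw [Fusion.card_cj, hQA, hQB, Subgroup.card_map_of_injective A.subtype_injective,
      Subgroup.card_map_of_injective B.subtype_injective, Sylow.card_eq_multiplicity, Sylow.card_eq_multiplicity, hAB]
  have hle : Fusion.cj QB c ≤ (P : Subgroup G) := by
    rintro _ ⟨x, hx, rfl⟩
    exact hc x hx
  have hsub : QA ≤ Fusion.cj QB c := by
    intro x hx
    letI := Fintype.ofFinite (P : Subgroup G)
    set k := Nat.card QA with hk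
    set Sset := Finset.univ.filter fun y : (P : Subgroup G) => (y : G) ∈ Fusion.cj QB c with hS
    have hScard : Sset.card = k := by
      rw [hQc, ← Nat.card_congr (Subgroup.subgroupOfEquivOfLe hle).toEquiv, Nat.card_eq_fintype_card]
      exact (Fintype.card_subtype _).symm
    have hsub : Sset ⊆ Finset.univ.filter fun y : (P : Subgroup G) => y ^ k = 1 := by
      intro y hy
      refine Finset.mem_filter.2 ⟨Finset.mem_univ _, Subtype.ext ?_⟩
      rw [Subgroup.coe_pow, hQc]
      exact congrArg Subtype.val (pow_card_eq_one' (x := (⟨_, (Finset.mem_filter.1 hy).2⟩ : Fusion.cj QB c)))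
    have heq := Finset.eq_of_subset_of_card_le hsub (by
      rw [hScard]; exact IsCyclic.card_pow_eq_one_le Nat.card_pos)
    have hxS : (⟨x, hP hx⟩ : (P : Subgroup G)) ∈ Sset := by
      rw [heq]
      refine Finset.mem_filter.2 ⟨Finset.mem_univ _, Subtype.ext ?_⟩
      rw [Subgroup.coe_pow]
      exact congrArg Subtype.val (pow_card_eq_one' (x := (⟨x, hx⟩ : QA)))
    exact (Finset.mem_filter.1 hxS).2
  have hQAB : (Q : Subgroup A) ≤ B.subgroupOf A := by
    intro q hq
    obtain ⟨x, hx, hxq⟩ := hsub ⟨q, hq, rfl⟩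
    obtain ⟨x', -, rfl⟩ := hx
    show (q : G) ∈ B
    rw [show (q : G) = c * (x' : G) * c⁻¹ from hxq.symm]
    exact Subgroup.Normal.conj_mem inferInstance _ x'.2 c
  exact Q.not_dvd_index ((dvd_of_eq h1.symm).trans (Subgroup.index_dvd_of_le hQAB))

/-- The centralizer of an element of prime order with cyclic Sylow subgroup has a normal complement to it. -/
theorem hnpc_centralizer {r : ℕ} [Fact r.Prime] (hr : r ≠ 2) (hcyc : ∀ P : Sylow r G, IsCyclic P) {y : G}
    (hy : orderOf y = r) : Cfsg.HasNormalPComplement r (Subgroup.centralizer ({y} : Set G)) := by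
  classical
  have hrp : r.Prime := Fact.out
  set K := Subgroup.centralizer ({y} : Set G) with hK
  obtain ⟨PK⟩ : Nonempty (Sylow r K) := inferInstance
  haveI : IsCyclic (PK : Subgroup K) := by
    obtain ⟨PG, hPG⟩ := (PK.isPGroup'.map K.subtype).exists_le_sylow
    haveI := hcyc PG
    exact isCyclic_of_injective ((Subgroup.inclusion hPG).comp
      ((PK : Subgroup K).equivMapOfInjective K.subtype K.subtype_injective).toMonoidHom)
      ((Subgroup.inclusion_injective hPG).comp (MulEquiv.injective _))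
  have hyK : y ∈ K := Subgroup.mem_centralizer_singleton_iff.2 rfl
  have hyP : (⟨y, hyK⟩ : K) ∈ (PK : Subgroup K) := by
    have hY : IsPGroup r (Subgroup.zpowers (⟨y, hyK⟩ : K)) :=
      IsPGroup.of_card (n := 1) (by rw [Nat.card_zpowers, Subgroup.orderOf_mk, hy, pow_one])
    obtain ⟨c, hc⟩ := exists_conj PK hY
    have h1 := hc _ (Subgroup.mem_zpowers _)
    rwa [show c * (⟨y, hyK⟩ : K) * c⁻¹ = ⟨y, hyK⟩ from Subtype.ext (by
      show (c : G) * y * (c : G)⁻¹ = y
      rw [Subgroup.mem_centralizer_singleton_iff.1 c.2, mul_inv_cancel_right])] at h1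
  refine Fusion.hnpc_of_normalizer_le_centralizer PK fun n hn => ?_
  let φ := (PK : Subgroup K).normalizerMonoidHom
  set α := φ ⟨n, hn⟩ with hα
  have hco : (orderOf α).Coprime r := by
    refine Nat.Coprime.coprime_dvd_left (?_ : orderOf α ∣ φ.ker.index) ?_
    · rw [Subgroup.index_ker]; exact Subgroup.orderOf_dvd_natCard _ ⟨_, rfl⟩
    · refine (hrp.coprime_iff_not_dvd.2 fun h => ?_).symm
      letI : CommGroup (PK : Subgroup K) := IsCyclic.commGroup
      have hle : (PK : Subgroup K).subgroupOf (Subgroup.normalizer ((PK : Subgroup K) : Set K)) ≤ φ.ker := by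
        rw [show φ.ker = _ from Subgroup.normalizerMonoidHom_ker _]
        intro x hx
        exact Subgroup.mem_centralizer_iff.2 fun a ha =>
          congrArg Subtype.val (mul_comm (⟨a, ha⟩ : (PK : Subgroup K)) ⟨_, hx⟩)
      exact PK.not_dvd_index (h.trans ((Subgroup.index_dvd_of_le hle).trans
        (Subgroup.relIndex_dvd_index_of_le Subgroup.le_normalizer)))
  have hfix : α = 1 := by
    refine Local.FS.aut_eq_one_of_fix_order_p (p := r) hr PK.isPGroup' α hco fun x hx => ?_
    rcases eq_or_ne x 1 with rfl | hx1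
    · exact map_one _
    obtain ⟨i, hi⟩ := mem_zpowers_of_cyclic hrp hyP x.2 (by rw [Subgroup.orderOf_mk, hy])
      (by rw [Subgroup.orderOf_coe]; exact orderOf_eq_prime hx hx1)
    apply Subtype.ext
    show n * (x : K) * n⁻¹ = (x : K)
    rw [← hi]
    show n * (⟨y, hyK⟩ : K) ^ i * n⁻¹ = (⟨y, hyK⟩ : K) ^ i
    rw [((show Commute n (⟨y, hyK⟩ : K) from
      Subtype.ext (Subgroup.mem_centralizer_singleton_iff.1 n.2)).zpow_right i).eq, mul_inv_cancel_right]
  refine Subgroup.mem_centralizer_iff.2 fun x hx => ?_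
  have h1 := congrArg (fun f : MulAut (PK : Subgroup K) => ((f ⟨x, hx⟩ : (PK : Subgroup K)) : K)) hfix
  have h2 : n * x * n⁻¹ = x := h1
  calc x * n = n * x * n⁻¹ * n := by rw [h2]
    _ = n * x := by group

end Cfsg.Agent.Solv.AlmostCyclic
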