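import Mathlib
import Cfsg.Agent.Lib.Solv.AlmostCyclic.Five

/-!
# The configuration at `p = 5`: indices and the shape of the quotient
-/

set_option autoImplicit false
set_option linter.style.haveILetI false
set_option linter.unusedSectionVars false

open Cfsg Cfsg.Agent Cfsg.Agent.Small.PSL2

namespace Cfsg.Agent.Solv.AlmostCyclic.Cfg

open Cfsg.Agent.Solv.AlmostCyclic

universe u

variable {G : Type u} [Group G] [Finite G] {z w : G} [Fact (Nat.Prime 5)] {F : Type} [Field F] [Fintype F]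
  {X : Type u} [Group X] [Finite X] (D : Cfg z w 5 F X) (hF : Fintype.card F = 5)
  (hfin : Nat.card G * Nat.card (Subgroup.centralizer ({z, w} : Set G)) ^ 2 * 400 =
    Nat.card (Subgroup.centralizer ({z} : Set G)) ^ 3 * 357)

include D hF hfin

theorem numbers : Nat.card G = 357 * Nat.card (Subgroup.centralizer ({z} : Set G)) ∧
    Nat.card (Subgroup.centralizer ({z} : Set G)) = 20 * Nat.card (Subgroup.centralizer ({z, w} : Set G)) := by
  classical
  haveI : Fact (Nat.Prime 2) := ⟨Nat.prime_two⟩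
  set C := Subgroup.centralizer ({z} : Set G) with hC
  set C2 := Subgroup.centralizer ({z, w} : Set G) with hC2
  obtain ⟨j, hj⟩ : Nat.card C2 ∣ Nat.card C := Subgroup.card_dvd_of_le D.centralizer_le
  have hn : Nat.card C * C.index = Nat.card G := Subgroup.card_mul_index C
  set n := C.index with hn'
  have hj0 : j ≠ 0 := fun h => Nat.card_pos.ne' (hj.trans (by rw [h, mul_zero]))
  have hn0 : n ≠ 0 := Subgroup.index_ne_zero_of_finite
  have hnodd : ¬ 2 ∣ n := fun h => D.S.not_dvd_index (h.trans (Subgroup.index_dvd_of_le D.hzS))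
  have key : n * 400 = 357 * j ^ 2 := by
    apply Nat.eq_of_mul_eq_mul_left (show 0 < Nat.card C * Nat.card C2 ^ 2 from
      Nat.mul_pos Nat.card_pos (pow_pos Nat.card_pos 2))
    calc Nat.card C * Nat.card C2 ^ 2 * (n * 400) = Nat.card C * n * Nat.card C2 ^ 2 * 400 := by ring
      _ = Nat.card C ^ 3 * 357 := by rw [hn]; exact hfin
      _ = Nat.card C * (Nat.card C2 * j) ^ 2 * 357 := by rw [← hj]; ring
      _ = _ := by ring
  obtain ⟨i, hi⟩ : 20 ∣ j := (Nat.pow_dvd_pow_iff two_ne_zero).1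
    ((show Nat.Coprime (20 ^ 2) 357 by norm_num).dvd_of_dvd_mul_left ⟨n, by rw [← key]; ring⟩)
  have hn2 : n = 357 * i ^ 2 :=
    Nat.eq_of_mul_eq_mul_right (show 0 < 400 by norm_num) (key.trans (by rw [hi]; ring))
  have hi1 : i = 1 := by
    by_contra hne
    obtain ⟨r, hr, hri⟩ := Nat.exists_prime_and_dvd hne
    haveI : Fact r.Prime := ⟨hr⟩
    have hrn : r ∣ n := hn2 ▸ dvd_mul_of_dvd_right (dvd_pow hri two_ne_zero) _
    have hr2 : r ≠ 2 := fun h => hnodd (h ▸ hrn)
    have hv : padicValNat r (Nat.card C2) < padicValNat r (Nat.card C) := by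
      rw [hj, padicValNat.mul Nat.card_pos.ne' hj0]
      have := one_le_padicValNat_of_dvd hj0 (hi ▸ dvd_mul_of_dvd_right hri 20)
      omega
    have h := val_eq D.pair D.cyc hr2 hv
    rw [← hC, ← hn, padicValNat.mul Nat.card_pos.ne' hn0] at h
    have := one_le_padicValNat_of_dvd hn0 hrn
    omega
  refine ⟨by rw [← hn, hn2, hi1]; ring, by rw [hj, hi, hi1]; ring⟩

theorem ker_commutes {c : Subgroup.centralizer ({z} : Set G)} (hc : Commute D.wb (D.π c)) :
    (c : G) * w = w * (c : G) := by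
  classical
  haveI := D.normal
  set C2' := (Subgroup.centralizer ({z, w} : Set G)).subgroupOf (Subgroup.centralizer ({z} : Set G)) with hC2
  have hidx : C2'.index = 20 := by
    apply Nat.eq_of_mul_eq_mul_left (show 0 < Nat.card C2' from Nat.card_pos)
    rw [Subgroup.card_mul_index, hC2, Nat.card_congr (Subgroup.subgroupOfEquivOfLe D.centralizer_le).toEquiv,
      (D.numbers hF hfin).2, mul_comm]
  have hMle : C2'.map D.π ≤ Subgroup.centralizer ({D.wb} : Set X) := by
    rintro _ ⟨d, hd, rfl⟩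
    rw [Subgroup.mem_centralizer_singleton_iff, wb, ← map_mul, ← map_mul]
    exact congrArg D.π (Subtype.ext (Subgroup.mem_centralizer_iff.1 hd w (Or.inr rfl)).symm)
  have hfix : Nat.card ((Subgroup.centralizer ({D.wb} : Set X)).subgroupOf D.L) ≤ 6 := by
    refine le_trans ?_ (card_fixed hF D.aut_sq fun i hi => D.no_fixed_root hi)
    refine Nat.card_le_card_of_injective (fun l => ⟨D.e l.1, (D.aut_fix_iff _).2 ?_⟩) fun a b h => ?_
    · rw [D.e.symm_apply_apply]
      exact (Subgroup.mem_centralizer_singleton_iff.1 l.2).symm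
    · exact Subtype.ext (D.e.injective (congrArg Subtype.val h))
  have h1 := Subgroup.card_mul_index ((Subgroup.centralizer ({D.wb} : Set X)).subgroupOf D.L)
  rw [D.card_L hF] at h1
  have h2 : (Subgroup.centralizer ({D.wb} : Set X)).relIndex D.L ≤ (Subgroup.centralizer ({D.wb} : Set X)).index := by
    rw [← Subgroup.relIndex_top_right]
    exact Subgroup.relIndex_le_of_le_right le_top (by
      rw [Subgroup.relIndex_top_right]; exact Subgroup.index_ne_zero_of_finite)
  have h20 : 20 ≤ (Subgroup.centralizer ({D.wb} : Set X)).index := by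
    refine le_trans ?_ h2
    show 20 ≤ ((Subgroup.centralizer ({D.wb} : Set X)).subgroupOf D.L).index
    by_contra hlt
    have := Nat.mul_le_mul hfix (Nat.le_of_lt_succ (show _ < 19 + 1 from not_le.1 hlt))
    rw [show 5 * (5 ^ 2 - 1) = 120 from rfl] at h1
    omega
  have h3 : (C2'.map D.π).index = (C2' ⊔ D.π.ker).index := by
    rw [Subgroup.index_map, D.π.range_eq_top.2 D.surj, Subgroup.index_top, mul_one]
  have h4 : (C2' ⊔ D.π.ker).index ∣ 20 := hidx ▸ Subgroup.index_dvd_of_le le_sup_left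
  have h5 : (Subgroup.centralizer ({D.wb} : Set X)).index ∣ (C2'.map D.π).index := Subgroup.index_dvd_of_le hMle
  have h6 := Nat.le_of_dvd (by norm_num) (h5.trans (h3 ▸ h4))
  have h7 := Nat.le_of_dvd (by norm_num) (h3 ▸ h4)
  have h8 := Nat.le_of_dvd (Nat.pos_of_ne_zero Subgroup.index_ne_zero_of_finite) h5
  have heq : C2' ⊔ D.π.ker = C2' :=
    (Subgroup.eq_of_le_of_card_ge le_sup_left (by
      refine le_of_eq (Nat.eq_of_mul_eq_mul_right (show 0 < C2'.index by omega) ?_)
      rw [Subgroup.card_mul_index, ← Subgroup.card_mul_index (C2' ⊔ D.π.ker)]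
      congr 1
      omega)).symm
  have hMeq : C2'.map D.π = Subgroup.centralizer ({D.wb} : Set X) :=
    Subgroup.eq_of_le_of_card_ge hMle (by
      refine le_of_eq (Nat.eq_of_mul_eq_mul_right (show 0 < (C2'.map D.π).index by omega) ?_)
      rw [Subgroup.card_mul_index, ← Subgroup.card_mul_index (Subgroup.centralizer ({D.wb} : Set X))]
      congr 1
      omega)
  have hmem : c ∈ C2' := by
    obtain ⟨d, hd, hdc⟩ : D.π c ∈ C2'.map D.π := hMeq ▸ Subgroup.mem_centralizer_singleton_iff.2 hc.symm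
    rw [← heq]
    have hk : d⁻¹ * c ∈ D.π.ker := by rw [MonoidHom.mem_ker, map_mul, map_inv, hdc, inv_mul_cancel]
    have := mul_mem (Subgroup.mem_sup_left (T := D.π.ker) hd) (Subgroup.mem_sup_right (S := C2') hk)
    rwa [mul_inv_cancel_left] at this
  exact (Subgroup.mem_centralizer_iff.1 hmem w (Or.inr rfl)).symm

theorem shape : (∀ x : X, x * x ∈ D.L) ∧ Nat.card X = 240 := by
  classical
  haveI : Fact (Nat.Prime 2) := ⟨Nat.prime_two⟩
  haveI := D.normal
  set K := Subgroup.centralizer (D.L : Set X) with hK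
  set a : X := ((D.e.symm wS : D.L) : X) with ha
  have hw : (wS : Matrix.SpecialLinearGroup (Fin 2) F).1 * wS.1 = -1 := by
    ext i j; fin_cases i <;> fin_cases j <;> simp [wS, Matrix.mul_apply, Fin.sum_univ_two]
  have haL : a ∈ D.L := (D.e.symm wS).2
  have ha4 : orderOf a = 4 := by rw [ha, Subgroup.orderOf_coe, MulEquiv.orderOf_eq, D.isl _ hw]
  have hzb : a ^ 2 = D.zb := by
    have h4 : a ^ 2 * a ^ 2 = 1 := by rw [← pow_add]; exact orderOf_dvd_iff_pow_eq_one.1 ha4.dvd
    refine (D.invol _ (pow_mem haL 2) h4).resolve_left fun h => ?_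
    have := Nat.le_of_dvd two_pos (ha4 ▸ orderOf_dvd_of_pow_eq_one h)
    omega
  have hinv : ∀ k ∈ K, k * k = 1 → k = 1 ∨ k = D.zb := by
    intro k hk h
    rcases eq_or_ne k 1 with h1 | h1
    · exact Or.inl h1
    exact Or.inr ((no_four_comm' D.T D.hT ha4 (orderOf_eq_prime (by rw [pow_two]; exact h) h1)
      (Subgroup.mem_centralizer_iff.1 hk a haL)).trans hzb)
  have hno4 : ∀ k ∈ K, orderOf k ≠ 4 := by
    intro k hk hk4
    have hk2 : k ^ 2 = D.zb := by
      refine (hinv _ (pow_mem hk 2) (by rw [← pow_add]; exact orderOf_dvd_iff_pow_eq_one.1 hk4.dvd)).resolve_left fun h => ?_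
      have := Nat.le_of_dvd two_pos (hk4 ▸ orderOf_dvd_of_pow_eq_one h)
      omega
    have hcm : Commute a k := Subgroup.mem_centralizer_iff.1 hk a haL
    have hzz : D.zb * D.zb = 1 := by rw [← hzb, ← pow_add]; exact orderOf_dvd_iff_pow_eq_one.1 ha4.dvd
    have h1 : k * a * (k * a) = 1 := by
      rw [mul_assoc, ← mul_assoc a k a, hcm.eq, mul_assoc k a a, ← mul_assoc, ← pow_two, ← pow_two, hk2, hzb, hzz]
    have hkL : k ∈ D.L := by
      have h2 : k * a ∈ D.L := by
        by_cases hne : k * a = 1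
        · rw [hne]; exact one_mem _
        · have h3 := no_four_comm' D.T D.hT ha4 (orderOf_eq_prime (by rw [pow_two]; exact h1) hne)
            ((Commute.refl a).mul_right hcm |> fun _ => hcm.mul_right (Commute.refl a))
          rw [h3]; exact pow_mem haL 2
      simpa using mul_mem h2 (inv_mem haL)
    set A := D.e ⟨k, hkL⟩ with hA
    have hAc : A ∈ Subgroup.center (Matrix.SpecialLinearGroup (Fin 2) F) := Subgroup.mem_center_iff.2 fun B => by
      apply D.e.symm.injective
      rw [map_mul, map_mul, hA, D.e.symm_apply_apply]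
      exact Subtype.ext (Subgroup.mem_centralizer_iff.1 hk _ (D.e.symm B).2)
    obtain ⟨c, hc, hcA⟩ := Matrix.SpecialLinearGroup.mem_center_iff.1 hAc
    have hA2 : A * A = 1 := by
      apply Subtype.ext
      rw [Matrix.SpecialLinearGroup.coe_mul, ← hcA, ← map_mul, ← pow_two]
      rw [Fintype.card_fin] at hc
      rw [hc, map_one, Matrix.SpecialLinearGroup.coe_one]
    have : orderOf k ∣ 2 := by
      rw [← Subgroup.orderOf_mk k hkL, ← MulEquiv.orderOf_eq D.e]
      exact orderOf_dvd_of_pow_eq_one (by rw [pow_two]; exact hA2)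
    rw [hk4] at this
    omega
  have hP : ∀ k ∈ K, (∃ t, orderOf k = 2 ^ t) → k = 1 ∨ k = D.zb := by
    rintro k hk ⟨t, ht⟩
    refine hinv k hk ?_
    rw [← pow_two, ← orderOf_dvd_iff_pow_eq_one, ht]
    rcases le_or_gt t 1 with h | h
    · exact (pow_dvd_pow 2 h).trans (pow_one 2).dvd
    · exfalso
      refine hno4 (k ^ 2 ^ (t - 2)) (pow_mem hk _) ?_
      rw [orderOf_pow, ht, Nat.gcd_eq_right (pow_dvd_pow 2 (by omega)), Nat.pow_div (by omega) two_pos,
        show t - (t - 2) = 2 by omega]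
      rfl
  have hzc : ∀ x : X, x * D.zb = D.zb * x := fun x => by
    obtain ⟨c, rfl⟩ := D.surj x
    rw [zb, ← map_mul, ← map_mul]
    exact congrArg D.π (Subtype.ext (Subgroup.mem_centralizer_singleton_iff.1 c.2))
  obtain ⟨PK⟩ : Nonempty (Sylow 2 K) := inferInstance
  have hPK : ∀ k : K, k ∈ (PK : Subgroup K) → (k : X) = 1 ∨ (k : X) = D.zb := fun k hk => by
    obtain ⟨t, ht⟩ := IsPGroup.iff_orderOf.1 PK.isPGroup' ⟨k, hk⟩
    rw [Subgroup.orderOf_mk, ← Subgroup.orderOf_coe] at ht
    exact hP _ k.2 ⟨t, ht⟩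
  have hnp : Cfsg.HasNormalPComplement 2 K := Fusion.hnpc_of_normalizer_le_centralizer PK fun n _ =>
    Subgroup.mem_centralizer_iff.2 fun k hk => Subtype.ext (by
      rcases hPK k hk with h | h
      · simp [h]
      · show (k : X) * (n : X) = (n : X) * (k : X)
        rw [h, hzc])
  haveI : (Cfsg.pResidual 2 K).Characteristic := Fusion.pResidual_characteristic
  haveI : ((Cfsg.pResidual 2 K).map K.subtype).Normal := ConjAct.normal_of_characteristic_of_normal
  have hW : (Cfsg.pResidual 2 K).map K.subtype = ⊥ := by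
    refine le_bot_iff.1 (D.core ▸ Fusion.le_pPrimeCore ?_)
    rw [Subgroup.card_map_of_injective K.subtype_injective]
    exact Fusion.hnpc_iff.1 hnp
  have hKp : IsPGroup 2 K := by
    rw [Subgroup.map_eq_bot_iff_of_injective _ K.subtype_injective] at hW
    have h := Fusion.isPGroup_quotient_pResidual (p := 2) (G := K)
    rw [IsPGroup] at h ⊢
    intro k
    obtain ⟨t, ht⟩ := h (QuotientGroup.mk k)
    refine ⟨t, ?_⟩
    rw [← QuotientGroup.mk_pow, QuotientGroup.eq_one_iff, hW, Subgroup.mem_bot] at ht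
    exact ht
  have hKL : K ≤ D.L := fun k hk => by
    obtain ⟨t, ht⟩ := IsPGroup.iff_orderOf.1 hKp ⟨k, hk⟩
    rw [Subgroup.orderOf_mk] at ht
    rcases hP k hk ⟨t, ht⟩ with h | h <;> rw [h]
    exacts [one_mem _, D.zL]
  have hsq : ∀ x : X, x * x ∈ D.L := by
    intro x
    obtain ⟨A, hA⟩ := sq_inner hF (MulAut.congr D.e (MulAut.conjNormal x))
    set l : X := ((D.e.symm A : D.L) : X) with hl
    have hk : l⁻¹ * (x * x) ∈ K := Subgroup.mem_centralizer_iff.2 fun y hy => by
      have h1 := congrArg (fun B => ((D.e.symm B : D.L) : X)) (hA (D.e ⟨y, hy⟩))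
      simp [MulAut.congr, ← hl] at h1
      calc y * (l⁻¹ * (x * x)) = l⁻¹ * (l * y) * l⁻¹ * (x * x) := by group
        _ = l⁻¹ * (x * (x * y * x⁻¹) * x⁻¹ * l) * l⁻¹ * (x * x) := by rw [h1]
        _ = l⁻¹ * (x * x) * y := by group
    have h3 := mul_mem (D.e.symm A).2 (hKL hk)
    rwa [← hl, mul_inv_cancel_left] at h3
  refine ⟨hsq, ?_⟩
  have h2 : IsPGroup 2 (X ⧸ D.L) := fun q => by
    induction q using QuotientGroup.induction_on with
    | H x => exact ⟨1, by rw [← QuotientGroup.mk_pow, QuotientGroup.eq_one_iff, pow_one, pow_two]; exact hsq x⟩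
  obtain ⟨t, ht⟩ := IsPGroup.iff_card.1 h2
  have hX : Nat.card X = 120 * 2 ^ t := by
    rw [Subgroup.card_eq_card_quotient_mul_card_subgroup D.L, ht, D.card_L hF]; ring
  obtain ⟨-, h2w, h2c⟩ := D.val_two hF
  have hv : padicValNat 2 (Nat.card (Subgroup.centralizer ({z} : Set G))) = 3 + t := by
    rw [D.card_C, padicValNat.mul Nat.card_pos.ne' Nat.card_pos.ne',
      padicValNat.eq_zero_of_not_dvd (Nat.two_dvd_ne_zero.2 (Nat.odd_iff.1 D.odd)), hX,
      show (120 : ℕ) * 2 ^ t = 2 ^ (3 + t) * 15 by ring, padicValNat.mul (by positivity) (by norm_num),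
      padicValNat.prime_pow, padicValNat.eq_zero_of_not_dvd (by norm_num : ¬ 2 ∣ 15)]
    omega
  rw [(D.numbers hF hfin).2, show (20 : ℕ) = 2 ^ 2 * 5 by norm_num,
    padicValNat.mul (by norm_num) Nat.card_pos.ne', padicValNat.mul (by norm_num) (by norm_num),
    padicValNat.prime_pow, padicValNat.eq_zero_of_not_dvd (by norm_num : ¬ 2 ∣ 5)] at hv
  have h120 : padicValNat 2 (5 * (5 ^ 2 - 1)) = 3 := by
    rw [show 5 * (5 ^ 2 - 1) = 2 ^ 3 * 15 by norm_num, padicValNat.mul (by norm_num) (by norm_num),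
      padicValNat.prime_pow, padicValNat.eq_zero_of_not_dvd (by norm_num : ¬ 2 ∣ 15)]
  rw [h120, (D.numbers hF hfin).2, show (20 : ℕ) = 2 ^ 2 * 5 by norm_num,
    padicValNat.mul (by norm_num) Nat.card_pos.ne', padicValNat.mul (by norm_num) (by norm_num),
    padicValNat.prime_pow, padicValNat.eq_zero_of_not_dvd (by norm_num : ¬ 2 ∣ 5)] at h2c
  obtain rfl : t = 1 := by omega
  rw [hX]; norm_num

end Cfsg.Agent.Solv.AlmostCyclic.Cfg
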