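import Mathlib
import Cfsg.Agent.Lib.Solv.AlmostCyclic.FiveShape

/-!
# The configuration at `p = 5`: the odd kernel is trivial
-/

set_option autoImplicit false
set_option linter.style.haveILetI false
set_option linter.unusedSectionVars false

open Cfsg Cfsg.Agent

namespace Cfsg.Agent.Solv.AlmostCyclic.Cfg

open Cfsg.Agent.Solv.AlmostCyclic

universe u

variable {G : Type u} [Group G] [Finite G] [IsSimpleGroup G] {z w : G} [Fact (Nat.Prime 5)] {F : Type} [Field F]
  [Fintype F] {X : Type u} [Group X] [Finite X] (D : Cfg z w 5 F X) (hF : Fintype.card F = 5)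
  (hfin : Nat.card G * Nat.card (Subgroup.centralizer ({z, w} : Set G)) ^ 2 * 400 =
    Nat.card (Subgroup.centralizer ({z} : Set G)) ^ 3 * 357)

include D hF hfin

theorem ker_eq_bot : D.π.ker = ⊥ := by
  classical
  haveI : Fact (Nat.Prime 2) := ⟨Nat.prime_two⟩
  haveI : Fact (Nat.Prime 3) := ⟨Nat.prime_three⟩
  obtain ⟨hG, hC20⟩ := D.numbers hF hfin
  obtain ⟨-, hX⟩ := D.shape hF hfin
  obtain ⟨g, hg⟩ := isConj_iff.1 (D.one w D.pair.hu)
  by_contra hne
  set O := D.π.ker.map (Subgroup.centralizer ({z} : Set G)).subtype with hO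
  have hOC : O ≤ Subgroup.centralizer ({z} : Set G) := Subgroup.map_subtype_le _
  have hOcard : Nat.card O = Nat.card D.π.ker := Subgroup.card_map_of_injective (Subgroup.subtype_injective _)
  have hOn : ∀ c : G, c * z = z * c → ∀ x ∈ O, c * x * c⁻¹ ∈ O := by
    rintro c hc _ ⟨x, hx, rfl⟩
    exact ⟨_, (inferInstance : D.π.ker.Normal).conj_mem x hx ⟨c, Subgroup.mem_centralizer_singleton_iff.2 hc⟩, rfl⟩
  have hOz : ∀ x ∈ O, x * z = z * x := fun x hx => Subgroup.mem_centralizer_singleton_iff.1 (hOC hx)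
  have hOw : ∀ x ∈ O, x * w = w * x := by
    rintro _ ⟨x, hx, rfl⟩
    exact D.ker_commutes hF hfin (by rw [D.π.mem_ker.1 hx]; exact Commute.one_right _)
  have hOv : ∀ v : G, orderOf v = 2 → z * v = v * z → v ≠ z → ∀ x ∈ O, x * v = v * x := by
    intro v hv hvz hvne x hx
    obtain ⟨c, hc, hcv⟩ := D.pair.hclass v hv hvz hvne
    have h := hOw _ (hOn c hc x hx)
    rw [← hcv, conj_mul, conj_mul] at h
    exact mul_left_cancel (mul_right_cancel h)
  set C2 := Subgroup.centralizer ({z, w} : Set G) with hC2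
  have hmem : ∀ {x : G}, x * z = z * x → x * w = w * x → x ∈ C2 := fun {x} h1 h2 => by
    refine Subgroup.mem_centralizer_iff.2 fun y hy => ?_
    rcases hy with h | h <;> rw [h]
    exacts [h1.symm, h2.symm]
  have hC2z : ∀ x ∈ C2, x * z = z * x := fun x hx => (Subgroup.mem_centralizer_iff.1 hx z (Or.inl rfl)).symm
  have hC2w : ∀ x ∈ C2, x * w = w * x := fun x hx => (Subgroup.mem_centralizer_iff.1 hx w (Or.inr rfl)).symm
  set O' := Fusion.cj O g with hO'
  have hgi : g⁻¹ * w * g = z := by rw [← hg]; group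
  have hO'2 : O' ≤ C2 := by
    rintro _ ⟨x, hx, rfl⟩
    show g * x * g⁻¹ ∈ C2
    refine hmem ?_ (by rw [← hg, conj_mul, conj_mul, hOz x hx])
    have h := hOv (g⁻¹ * z * g) ?_ ?_ ?_ x hx
    · have h' := congrArg (fun t => g * t * g⁻¹) h
      simp only [mul_assoc, mul_inv_cancel_left] at h' ⊢
      simpa [mul_assoc] using h'
    · rw [show g⁻¹ * z * g = MulAut.conj g⁻¹ z by rw [MulAut.conj_apply, inv_inv], MulEquiv.orderOf_eq, D.pair.hz]
    · have h1 := congrArg (fun t => g⁻¹ * t * g) D.hcomm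
      rw [show g⁻¹ * (z * w) * g = (g⁻¹ * z * g) * (g⁻¹ * w * g) by group,
        show g⁻¹ * (w * z) * g = (g⁻¹ * w * g) * (g⁻¹ * z * g) by group, hgi] at h1
      exact h1.symm
    · intro h
      exact D.pair.hne (by rw [← hg]; nth_rewrite 1 [← h]; group)
  have hO2 : O ≤ C2 := fun x hx => hmem (hOz x hx) (hOw x hx)
  haveI : (O.subgroupOf C2).Normal := ⟨fun x hx c => hOn c (hC2z _ c.2) _ hx⟩
  haveI : (O'.subgroupOf C2).Normal := ⟨fun x hx c => by
    obtain ⟨x', hx', hxx⟩ := hx
    refine ⟨(g⁻¹ * (c : G) * g) * x' * (g⁻¹ * (c : G) * g)⁻¹, hOn _ ?_ x' hx', ?_⟩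
    · rw [← hgi]
      have h1 := congrArg (fun t => g⁻¹ * t * g) (hC2w _ c.2)
      rw [show g⁻¹ * (c : G) * g * (g⁻¹ * w * g) = g⁻¹ * ((c : G) * w) * g by group, h1]
      group
    · show g * _ * g⁻¹ = (c : G) * (x : G) * (c : G)⁻¹
      have hx2 : g * x' * g⁻¹ = (x : G) := hxx
      rw [← hx2]; group⟩
  have hcO : Nat.card (O.subgroupOf C2) = Nat.card D.π.ker :=
    (Nat.card_congr (Subgroup.subgroupOfEquivOfLe hO2).toEquiv).trans hOcard
  have hcO' : Nat.card (O'.subgroupOf C2) = Nat.card D.π.ker :=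
    (Nat.card_congr (Subgroup.subgroupOfEquivOfLe hO'2).toEquiv).trans ((Fusion.card_cj O g).trans hOcard)
  have heq : O.subgroupOf C2 = O'.subgroupOf C2 := by
    refine eq_of_index_twelve (fun P => ?_) (hcO.trans hcO'.symm) (hcO.symm ▸ D.odd) ?_
    · haveI := D.cyc.pgroup (r := 3) (by norm_num) (P.isPGroup'.map C2.subtype)
      exact isCyclic_of_surjective ((P : Subgroup C2).equivMapOfInjective C2.subtype C2.subtype_injective).symm
        (MulEquiv.surjective _)
    · apply Nat.eq_of_mul_eq_mul_left (show 0 < Nat.card (O'.subgroupOf C2) from Nat.card_pos)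
      rw [Subgroup.card_mul_index, hcO']
      have h := D.card_C
      rw [hX, hC20] at h
      linarith
  have hOO : O' = O := by
    have h := congrArg (fun H => H.map C2.subtype) heq
    simp only [Subgroup.map_subgroupOf_eq_of_le hO2, Subgroup.map_subgroupOf_eq_of_le hO'2] at h
    exact h.symm
  set H := Subgroup.normalizer (O : Set G) with hH
  have hCH : Subgroup.centralizer ({z} : Set G) ≤ H := fun c hc => by
    have hc' := Subgroup.mem_centralizer_singleton_iff.1 hc
    refine Subgroup.mem_normalizer_iff.2 fun x => ⟨fun hx => hOn c hc' x hx, fun hx => ?_⟩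
    have h := hOn c⁻¹ ((show Commute c z from hc').inv_left.eq) _ hx
    rwa [show c⁻¹ * (c * x * c⁻¹) * c⁻¹⁻¹ = x by group] at h
  have hgH : g ∈ H := Subgroup.mem_normalizer_iff.2 fun x => by
    constructor
    · exact fun hx => hOO ▸ ⟨x, hx, rfl⟩
    · intro hx
      rw [← hOO] at hx
      obtain ⟨y, hy, hyx⟩ := hx
      exact (mul_left_cancel (mul_right_cancel (show g * y * g⁻¹ = g * x * g⁻¹ from hyx))) ▸ hy
  have hHT : H ≠ ⊤ := fun h => by
    haveI : O.Normal := Subgroup.normalizer_eq_top_iff.1 h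
    rcases (inferInstance : O.Normal).eq_bot_or_eq_top with h' | h'
    · exact hne ((Subgroup.map_eq_bot_iff_of_injective _ (Subgroup.subtype_injective _)).1 h')
    · rw [h', Subgroup.card_top] at hOcard
      have h2 : (2 : ℕ) ∣ Nat.card D.π.ker := hOcard ▸ (D.pair.hz ▸ orderOf_dvd_natCard z)
      exact Nat.not_even_iff_odd.2 D.odd (even_iff_two_dvd.2 h2)
  -- the class of `z` in `H`
  set h := (Subgroup.centralizer ({z} : Set G)).relIndex H with hh
  have hhi : h * H.index = 357 := by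
    rw [hh, Subgroup.relIndex_mul_index hCH]
    apply Nat.eq_of_mul_eq_mul_left (show 0 < Nat.card (Subgroup.centralizer ({z} : Set G)) from Nat.card_pos)
    rw [Subgroup.card_mul_index, hG, mul_comm]
  have hfac : Nat.card G ∣ (H.index).factorial := by
    have hk : H.normalCore = ⊥ := (Subgroup.normalCore_normal H).eq_bot_or_eq_top.resolve_right fun h' =>
      hHT (top_le_iff.1 (h' ▸ Subgroup.normalCore_le H))
    have hinj : Function.Injective (MulAction.toPermHom G (G ⧸ H)) := by
      rw [← MonoidHom.ker_eq_bot_iff, ← Subgroup.normalCore_eq_ker, hk]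
    have h1 := Subgroup.card_dvd_of_injective _ hinj
    rwa [Nat.card_perm] at h1
  have h17 : 17 ≤ H.index :=
    (Nat.Prime.dvd_factorial (by norm_num)).1 ((dvd_mul_of_dvd_left (by norm_num : 17 ∣ 357) _).trans (hG ▸ hfac))
  have hle21 : h ≤ 21 := by
    by_contra hlt
    have := Nat.mul_le_mul (show 22 ≤ h by omega) h17
    omega
  let cls : Set G := {v | ∃ a ∈ H, a * z * a⁻¹ = v}
  let f : H ⧸ (Subgroup.centralizer ({z} : Set G)).subgroupOf H → cls := Quotient.lift
    (fun a : H => (⟨(a : G) * z * (a : G)⁻¹, a, a.2, rfl⟩ : cls)) fun a b hab => by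
      have hm : (a⁻¹ * b : H) ∈ (Subgroup.centralizer ({z} : Set G)).subgroupOf H :=
        QuotientGroup.leftRel_apply.1 hab
      have hm' := Subgroup.mem_centralizer_singleton_iff.1 hm
      apply Subtype.ext
      show (a : G) * z * (a : G)⁻¹ = (b : G) * z * (b : G)⁻¹
      change (a : G)⁻¹ * (b : G) * z = z * ((a : G)⁻¹ * (b : G)) at hm'
      calc (a : G) * z * (a : G)⁻¹ = (a : G) * (z * ((a : G)⁻¹ * (b : G))) * (b : G)⁻¹ := by group
        _ = _ := by rw [← hm']; group
  have hfs : Function.Surjective f := by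
    rintro ⟨v, a, ha, rfl⟩
    exact ⟨QuotientGroup.mk ⟨a, ha⟩, rfl⟩
  have hcls : Nat.card cls ≤ 21 := (Nat.card_le_card_of_surjective f hfs).trans hle21
  -- the twenty conjugates of `w`
  let cw : Set G := {v | ∃ c : G, c * z = z * c ∧ c * w * c⁻¹ = v}
  let q : Subgroup.centralizer ({z} : Set G) ⧸ C2.subgroupOf (Subgroup.centralizer ({z} : Set G)) → cw :=
    Quotient.lift (fun a : Subgroup.centralizer ({z} : Set G) =>
      (⟨(a : G) * w * (a : G)⁻¹, a, Subgroup.mem_centralizer_singleton_iff.1 a.2, rfl⟩ : cw)) fun a b hab => by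
      have hm : a⁻¹ * b ∈ C2.subgroupOf (Subgroup.centralizer ({z} : Set G)) := QuotientGroup.leftRel_apply.1 hab
      have hm' : (a : G)⁻¹ * (b : G) * w = w * ((a : G)⁻¹ * (b : G)) := hC2w _ hm
      apply Subtype.ext
      show (a : G) * w * (a : G)⁻¹ = (b : G) * w * (b : G)⁻¹
      calc (a : G) * w * (a : G)⁻¹ = (a : G) * (w * ((a : G)⁻¹ * (b : G))) * (b : G)⁻¹ := by group
        _ = _ := by rw [← hm']; group
  have hqi : Function.Injective q := by
    intro x y
    induction x using QuotientGroup.induction_on with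
    | H a =>
      induction y using QuotientGroup.induction_on with
      | H b =>
        intro hab
        have hab' : (a : G) * w * (a : G)⁻¹ = (b : G) * w * (b : G)⁻¹ := congrArg Subtype.val hab
        refine QuotientGroup.eq.2 ?_
        show ((a : G)⁻¹ * (b : G)) ∈ C2
        refine hmem ?_ ?_
        · exact (Commute.mul_left (show Commute (a : G) z from
            Subgroup.mem_centralizer_singleton_iff.1 a.2).inv_left (Subgroup.mem_centralizer_singleton_iff.1 b.2)).eq
        · calc (a : G)⁻¹ * (b : G) * w = (a : G)⁻¹ * ((b : G) * w * (b : G)⁻¹) * (b : G) := by group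
            _ = w * ((a : G)⁻¹ * (b : G)) := by rw [← hab']; group
  have hq20 : 20 ≤ Nat.card cw := by
    refine le_trans (le_of_eq ?_) (Nat.card_le_card_of_injective q hqi)
    rw [← Subgroup.index_eq_card]
    apply Nat.eq_of_mul_eq_mul_left
      (show 0 < Nat.card (C2.subgroupOf (Subgroup.centralizer ({z} : Set G))) from Nat.card_pos)
    rw [Subgroup.card_mul_index, Nat.card_congr (Subgroup.subgroupOfEquivOfLe D.centralizer_le).toEquiv, hC20,
      mul_comm]
  have hzcls : z ∈ cls := ⟨1, one_mem _, by group⟩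
  have hcwcls : cw ⊆ cls := by
    rintro _ ⟨c, hc, rfl⟩
    exact ⟨c * g, mul_mem (hCH (Subgroup.mem_centralizer_singleton_iff.2 hc)) hgH, by rw [← hg]; group⟩
  have hzw : z ∉ cw := by
    rintro ⟨c, hc, hcw⟩
    refine D.pair.hne ?_
    calc w = c⁻¹ * (c * w * c⁻¹) * c := by group
      _ = c⁻¹ * (z * c) := by rw [hcw, mul_assoc]
      _ = z := by rw [← hc, inv_mul_cancel_left]
  have hEq : cls = insert z cw := by
    refine (Set.eq_of_subset_of_ncard_le (Set.insert_subset hzcls hcwcls) ?_ (Set.toFinite _)).symm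
    rw [Set.ncard_insert_of_notMem hzw (Set.toFinite _), ← Nat.card_coe_set_eq, ← Nat.card_coe_set_eq]
    omega
  have hcomm : ∀ v ∈ cls, v * z = z * v := by
    intro v hv
    rw [hEq] at hv
    rcases hv with rfl | ⟨c, hc, rfl⟩
    · rfl
    · have hcc : c * z * c⁻¹ = z := by rw [hc, mul_inv_cancel_right]
      conv_lhs => rw [← hcc]
      conv_rhs => rw [← hcc]
      rw [conj_mul, conj_mul, D.hcomm]
  have hpair : ∀ v ∈ cls, ∀ v' ∈ cls, v * v' = v' * v := by
    rintro _ ⟨a, ha, rfl⟩ _ ⟨b, hb, rfl⟩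
    have h1 := hcomm (b⁻¹ * a * z * (b⁻¹ * a)⁻¹) ⟨_, mul_mem (inv_mem hb) ha, rfl⟩
    have h2 := congrArg (fun t => b * t * b⁻¹) h1
    calc a * z * a⁻¹ * (b * z * b⁻¹) = b * (b⁻¹ * a * z * (b⁻¹ * a)⁻¹ * z) * b⁻¹ := by group
      _ = b * (z * (b⁻¹ * a * z * (b⁻¹ * a)⁻¹)) * b⁻¹ := h2
      _ = _ := by group
  set A := Subgroup.closure cls with hA
  letI : CommGroup A :=
    { (inferInstance : Group A) with
      mul_comm := (Subgroup.closureCommGroupOfComm (k := cls) hpair).mul_comm }
  have hA2 : ∀ x ∈ A, x * x = 1 := by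
    intro x hx
    induction hx using Subgroup.closure_induction with
    | mem v hv =>
      obtain ⟨a, -, rfl⟩ := hv
      rw [conj_mul, Fusion.invol_mul_self D.pair.hz]
      group
    | one => exact one_mul 1
    | mul a b ha hb iha ihb =>
      have hab : a * b = b * a := congrArg Subtype.val (mul_comm (⟨a, ha⟩ : A) ⟨b, hb⟩)
      calc a * b * (a * b) = a * (b * a) * b := by group
        _ = a * a * (b * b) := by rw [← hab]; group
        _ = 1 := by rw [iha, ihb, one_mul]
    | inv a _ iha => rw [← mul_inv_rev, iha, inv_one]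
  have hwcls : w ∈ cls := ⟨g, hgH, hg⟩
  have hAC2 : A ≤ C2 := (Subgroup.closure_le _).2 fun v hv => hmem (hcomm v hv) (hpair v hv w hwcls)
  have hAp : IsPGroup 2 A := fun x => ⟨1, Subtype.ext (by
    rw [Subgroup.coe_pow, pow_one, pow_two, Subgroup.coe_one]; exact hA2 _ x.2)⟩
  obtain ⟨k, hk⟩ := IsPGroup.iff_card.1 hAp
  have hk2 : k ≤ 2 := ((padicValNat_dvd_iff_le (p := 2) Nat.card_pos.ne').1
    (hk ▸ Subgroup.card_dvd_of_le hAC2)).trans (D.val_two hF).2.1
  have h21 : Nat.card cls ≤ Nat.card A :=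
    Nat.card_le_card_of_injective (fun v => (⟨v.1, Subgroup.subset_closure v.2⟩ : A)) fun a b hab =>
      Subtype.ext (congrArg (fun t : A => (t : G)) hab)
  have := Nat.pow_le_pow_right two_pos hk2
  rw [hEq, Nat.card_coe_set_eq, Set.ncard_insert_of_notMem hzw (Set.toFinite _), ← Nat.card_coe_set_eq, hk] at h21
  omega

end Cfsg.Agent.Solv.AlmostCyclic.Cfg
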