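import Mathlib
import Cfsg.Agent.Lib.Solv.AlmostCyclic.FiveKernel

/-!
# The configuration at `p = 5` is impossible
-/

set_option autoImplicit false
set_option linter.style.haveILetI false
set_option linter.unusedSectionVars false

open Cfsg Cfsg.Agent

namespace Cfsg.Agent.Solv.AlmostCyclic.Cfg

open Cfsg.Agent.Solv.AlmostCyclic

universe u

variable {G : Type u} [Group G] [Finite G] [IsSimpleGroup G] {z w : G} [Fact (Nat.Prime 5)] {F : Type} [Field F]
  [Fintype F] {X : Type u} [Group X] [Finite X] (D : Cfg z w 5 F X) (hF : Fintype.card F = 5)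
  (hfin : Nat.card G * Nat.card (Subgroup.centralizer ({z, w} : Set G)) ^ 2 * 400 =
    Nat.card (Subgroup.centralizer ({z} : Set G)) ^ 3 * 357)

include D hF hfin

theorem orders : Nat.card G = 85680 ∧ Nat.card (Subgroup.centralizer ({z} : Set G)) = 240 ∧
    Nat.card (Subgroup.centralizer ({z, w} : Set G)) = 12 := by
  obtain ⟨h1, h2⟩ := D.numbers hF hfin
  have h3 := D.card_C
  rw [D.ker_eq_bot hF hfin, Subgroup.card_bot, mul_one, (D.shape hF hfin).2] at h3
  exact ⟨by rw [h1, h3], h3, by omega⟩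

theorem upper_z {y : G} (hy : orderOf y = 3) (hyz : y * z = z * y) :
    Nat.card (Subgroup.centralizer ({z, y} : Set G)) ≤ 12 := by
  classical
  haveI := D.normal
  obtain ⟨hsq, hX⟩ := D.shape hF hfin
  have hinj : Function.Injective D.π := (MonoidHom.ker_eq_bot_iff D.π).1 (D.ker_eq_bot hF hfin)
  set Y : X := D.π ⟨y, Subgroup.mem_centralizer_singleton_iff.2 hyz⟩ with hY
  have hYo : orderOf Y = 3 := by rw [hY, orderOf_injective D.π hinj, Subgroup.orderOf_mk, hy]
  have hYL : Y ∈ D.L := by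
    have h : (Y * Y) * (Y * Y) = Y := by
      calc (Y * Y) * (Y * Y) = Y ^ 3 * Y := by simp only [pow_succ, pow_zero, one_mul, mul_assoc]
        _ = Y := by rw [orderOf_dvd_iff_pow_eq_one.1 hYo.dvd, one_mul]
    exact h ▸ mul_mem (hsq Y) (hsq Y)
  set H := Subgroup.centralizer ({Y} : Set X) with hH
  have hle : Subgroup.centralizer ({z, y} : Set G) ≤ Subgroup.centralizer ({z} : Set G) :=
    Subgroup.centralizer_le (Set.singleton_subset_iff.2 (Set.mem_insert _ _))
  have h1 : Nat.card (Subgroup.centralizer ({z, y} : Set G)) ≤ Nat.card H := by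
    refine Nat.card_le_card_of_injective (fun c => ⟨D.π ⟨c.1, hle c.2⟩, Subgroup.mem_centralizer_singleton_iff.2 ?_⟩)
      fun a b hab => ?_
    · rw [hY, ← map_mul, ← map_mul]
      exact congrArg D.π (Subtype.ext (Subgroup.mem_centralizer_iff.1 c.2 y (Or.inr rfl)).symm)
    · have he := hinj (congrArg Subtype.val hab)
      exact Subtype.ext (congrArg (fun t : Subgroup.centralizer ({z} : Set G) => (t : G)) he)
  have h2 : Nat.card (D.L.subgroupOf H) ≤ 6 := by
    refine le_trans ?_ (card_comm_six hF (Y := D.e ⟨Y, hYL⟩) (by rw [MulEquiv.orderOf_eq, Subgroup.orderOf_mk, hYo]))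
    refine Nat.card_le_card_of_injective (fun c => ⟨D.e ⟨(c.1 : X), c.2⟩, ?_⟩) fun a b hab => ?_
    · rw [← map_mul, ← map_mul]
      exact congrArg D.e (Subtype.ext (Subgroup.mem_centralizer_singleton_iff.1 c.1.2))
    · have he := D.e.injective (congrArg Subtype.val hab)
      exact Subtype.ext (Subtype.ext (congrArg (fun t : D.L => (t : X)) he))
  have hidx : D.L.index = 2 := by
    have h := Subgroup.card_mul_index D.L
    rw [D.card_L hF, hX] at h
    norm_num at h
    omega
  have h3 : (D.L.subgroupOf H).index ≤ 2 :=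
    Nat.le_of_dvd two_pos (hidx ▸ Subgroup.relIndex_dvd_index_of_normal D.L H)
  have h4 := Subgroup.card_mul_index (D.L.subgroupOf H)
  have := Nat.mul_le_mul h2 h3
  omega

theorem upper {v y : G} (hv : orderOf v = 2) (hy : orderOf y = 3) (hyv : y * v = v * y) :
    Nat.card (Subgroup.centralizer ({v, y} : Set G)) ≤ 12 := by
  obtain ⟨c, hc⟩ := isConj_iff.1 (D.one v hv)
  have hzv : c⁻¹ * v * c = z := by rw [← hc]; group
  have hcomm : c⁻¹ * y * c * z = z * (c⁻¹ * y * c) := by
    rw [← hzv]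
    calc c⁻¹ * y * c * (c⁻¹ * v * c) = c⁻¹ * (y * v) * c := by group
      _ = _ := by rw [hyv]; group
  refine le_trans ?_ (D.upper_z hF hfin (y := c⁻¹ * y * c)
    (by rw [show c⁻¹ * y * c = MulAut.conj c⁻¹ y by rw [MulAut.conj_apply, inv_inv], MulEquiv.orderOf_eq, hy]) hcomm)
  refine Nat.card_le_card_of_injective (fun a => ⟨c⁻¹ * a.1 * c, Subgroup.mem_centralizer_iff.2 ?_⟩) fun a b hab => ?_
  · intro t ht
    rcases ht with h | h <;> rw [h]
    · rw [← hzv]
      calc c⁻¹ * v * c * (c⁻¹ * a.1 * c) = c⁻¹ * (v * a.1) * c := by group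
        _ = _ := by rw [Subgroup.mem_centralizer_iff.1 a.2 v (Or.inl rfl)]; group
    · calc c⁻¹ * y * c * (c⁻¹ * a.1 * c) = c⁻¹ * (y * a.1) * c := by group
        _ = _ := by rw [Subgroup.mem_centralizer_iff.1 a.2 y (Or.inr rfl)]; group
  · exact Subtype.ext (mul_left_cancel (mul_right_cancel (congrArg Subtype.val hab)))

/-- An element of order three commutes with elements of order two and three only. -/
theorem three_centralizer : ∃ y : G, orderOf y = 3 ∧
    ∀ x : G, (orderOf x).Prime → orderOf x ≠ 2 → orderOf x ≠ 3 → x * y ≠ y * x := by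
  classical
  haveI : Fact (Nat.Prime 2) := ⟨Nat.prime_two⟩
  haveI : Fact (Nat.Prime 3) := ⟨Nat.prime_three⟩
  obtain ⟨hG, hC, h12⟩ := D.orders hF hfin
  set C2 := Subgroup.centralizer ({z, w} : Set G) with hC2
  obtain ⟨y0, hy0⟩ := exists_prime_orderOf_dvd_card' (G := C2) 3 (by rw [h12]; norm_num)
  set y : G := (y0 : G) with hy'
  have hy : orderOf y = 3 := by rw [hy', Subgroup.orderOf_coe, hy0]
  refine ⟨y, hy, fun x hxp hx2 hx3 hxy => ?_⟩
  have hyz : y * z = z * y := (Subgroup.mem_centralizer_iff.1 y0.2 z (Or.inl rfl)).symm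
  have hyw : y * w = w * y := (Subgroup.mem_centralizer_iff.1 y0.2 w (Or.inr rfl)).symm
  have hzw0 : orderOf (z * w) = 2 := by
    refine orderOf_eq_prime ?_ fun h => D.pair.hne ?_
    · rw [pow_two]
      calc z * w * (z * w) = z * (w * z) * w := by group
        _ = z * z * (w * w) := by rw [← D.hcomm]; group
        _ = 1 := by rw [Fusion.invol_mul_self D.pair.hz, Fusion.invol_mul_self D.pair.hu, one_mul]
    · rw [← mul_left_cancel_iff (a := z), h, Fusion.invol_mul_self D.pair.hz]
  -- the four-group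
  set V := Subgroup.zpowers z ⊔ Subgroup.zpowers w with hV
  have hVp : IsPGroup 2 V := by
    refine IsPGroup.to_sup_of_normal_left' (IsPGroup.of_card (n := 1) (by rw [Nat.card_zpowers, D.pair.hz]; rfl))
      (IsPGroup.of_card (n := 1) (by rw [Nat.card_zpowers, D.pair.hu]; rfl)) ?_
    rw [Subgroup.zpowers_le, Subgroup.mem_normalizer_iff]
    have hzw' : Commute w z := D.hcomm.symm
    intro t
    constructor
    · rintro ⟨k, rfl⟩
      exact ⟨k, by show z ^ k = w * z ^ k * w⁻¹; rw [(hzw'.zpow_right k).eq, mul_inv_cancel_right]⟩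
    · rintro ⟨k, hk⟩
      refine ⟨k, ?_⟩
      show z ^ k = t
      have hk' : z ^ k = w * t * w⁻¹ := hk
      calc z ^ k = w⁻¹ * (w * z ^ k) := by group
        _ = w⁻¹ * (z ^ k * w) := by rw [(hzw'.zpow_right k).eq]
        _ = w⁻¹ * (w * t * w⁻¹ * w) := by rw [hk']
        _ = t := by group
  have hzV : z ∈ V := Subgroup.mem_sup_left (Subgroup.mem_zpowers z)
  have hwV : w ∈ V := Subgroup.mem_sup_right (Subgroup.mem_zpowers w)
  have hV4 : 4 ∣ Nat.card V := by
    obtain ⟨k, hk⟩ := IsPGroup.iff_card.1 hVp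
    rcases le_or_gt 2 k with h | h
    · rw [hk]; exact pow_dvd_pow 2 h
    exfalso
    have h3 : ({1, z, w} : Finset G).card ≤ Nat.card V := by
      rw [← Nat.card_eq_finsetCard]
      refine Nat.card_le_card_of_injective (fun t => (⟨t.1, ?_⟩ : V))
        fun a b hab => Subtype.ext (congrArg (fun t : V => (t : G)) hab)
      have ht := t.2
      simp only [Finset.mem_insert, Finset.mem_singleton] at ht
      rcases ht with h' | h' | h' <;> rw [h']
      exacts [one_mem _, hzV, hwV]
    rw [Finset.card_insert_of_notMem, Finset.card_pair D.pair.hne.symm] at h3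
    · have := Nat.pow_le_pow_right two_pos (show k ≤ 1 by omega)
      omega
    · simp only [Finset.mem_insert, Finset.mem_singleton, not_or]
      constructor <;> intro e
      · have := D.pair.hz; rw [← e, orderOf_one] at this; omega
      · have := D.pair.hu; rw [← e, orderOf_one] at this; omega
  -- `y` is central in `C2`
  have hC2y : ∀ c ∈ C2, c * y = y * c := by
    set B := C2 ⊓ Subgroup.centralizer ({y} : Set G) with hB
    have hVB : V ≤ B := by
      have hzC : z ∈ C2 := Subgroup.mem_centralizer_iff.2 (by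
        intro t ht; rcases ht with h | h <;> rw [h]; exact D.hcomm.symm)
      have hwC : w ∈ C2 := Subgroup.mem_centralizer_iff.2 (by
        intro t ht; rcases ht with h | h <;> rw [h]; exact D.hcomm)
      refine sup_le (Subgroup.zpowers_le.2 ⟨hzC, ?_⟩) (Subgroup.zpowers_le.2 ⟨hwC, ?_⟩)
      · exact Subgroup.mem_centralizer_singleton_iff.2 hyz.symm
      · exact Subgroup.mem_centralizer_singleton_iff.2 hyw.symm
    have hyB : y ∈ B := ⟨y0.2, Subgroup.mem_centralizer_singleton_iff.2 rfl⟩
    have h1 : 12 ∣ Nat.card B := Nat.Coprime.mul_dvd_of_dvd_of_dvd (show Nat.Coprime 4 3 by norm_num)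
      (hV4.trans (Subgroup.card_dvd_of_le hVB)) (hy ▸ Nat.card_zpowers y ▸ Subgroup.card_dvd_of_le
        (Subgroup.zpowers_le.2 hyB))
    have h2 : B = C2 := Subgroup.eq_of_le_of_card_ge inf_le_left (h12 ▸ Nat.le_of_dvd Nat.card_pos h1)
    intro c hc
    rw [← h2] at hc
    exact Subgroup.mem_centralizer_singleton_iff.1 hc.2
  have hC2eq : ∀ v : G, (v = z ∨ v = w ∨ v = z * w) → ∀ c : G, c * v = v * c → c * y = y * c → c ∈ C2 := by
    intro v hv c hcv hcy
    have hvo : orderOf v = 2 := by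
      rcases hv with rfl | rfl | rfl
      exacts [D.pair.hz, D.pair.hu, hzw0]
    have hvC : ∀ c ∈ C2, c * v = v * c := by
      intro c hc
      have hcz : Commute c z := (Subgroup.mem_centralizer_iff.1 hc z (Or.inl rfl)).symm
      have hcw : Commute c w := (Subgroup.mem_centralizer_iff.1 hc w (Or.inr rfl)).symm
      rcases hv with rfl | rfl | rfl
      exacts [hcz.eq, hcw.eq, (hcz.mul_right hcw).eq]
    have hle : C2 ≤ Subgroup.centralizer ({v, y} : Set G) := fun c hc => Subgroup.mem_centralizer_iff.2 fun t ht => by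
      rcases ht with h | h <;> rw [h]
      exacts [(hvC c hc).symm, (hC2y c hc).symm]
    have heq : C2 = Subgroup.centralizer ({v, y} : Set G) := Subgroup.eq_of_le_of_card_ge hle
      (h12 ▸ D.upper hF hfin hvo hy ((hvC _ y0.2)))
    rw [heq]
    exact Subgroup.mem_centralizer_iff.2 fun t ht => by
      rcases ht with h | h <;> rw [h]
      exacts [hcv.symm, hcy.symm]
  -- the centralizer of `y`
  set K := Subgroup.centralizer ({y} : Set G) with hK
  have hnp3 : Cfsg.HasNormalPComplement 3 K :=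
    hnpc_centralizer (by norm_num) (fun P => D.cyc 3 Nat.prime_three (by norm_num) P) hy
  set W := Cfsg.pResidual 3 K with hW
  have hzK : z ∈ K := Subgroup.mem_centralizer_singleton_iff.2 hyz.symm
  have hwK : w ∈ K := Subgroup.mem_centralizer_singleton_iff.2 hyw.symm
  have hW3 : ∀ t : W, (orderOf t).Coprime 3 := fun t =>
    (Fusion.hnpc_iff.1 hnp3).coprime_dvd_left (orderOf_dvd_natCard t)
  have hmemW : ∀ t : K, (orderOf t).Coprime 3 → t ∈ W := fun t ht => (Fusion.hnpc_mem_iff hnp3).2 ht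
  set zW : W := ⟨⟨z, hzK⟩, hmemW _ (by rw [Subgroup.orderOf_mk, D.pair.hz]; norm_num)⟩ with hzW
  set wW : W := ⟨⟨w, hwK⟩, hmemW _ (by rw [Subgroup.orderOf_mk, D.pair.hu]; norm_num)⟩ with hwW
  -- `z` and `w` commute in `W` with two-elements only
  have hcen : ∀ v : W, ((v : K) : G) = z ∨ ((v : K) : G) = w ∨ ((v : K) : G) = z * w →
      ∀ t : W, t * v = v * t → ((t : K) : G) ∈ C2 ∧ orderOf t ∣ 4 := by
    intro v hv t ht
    have hmem : ((t : K) : G) ∈ C2 := hC2eq _ hv _ (congrArg (fun s : W => ((s : K) : G)) ht)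
      (Subgroup.mem_centralizer_singleton_iff.1 (t : K).2)
    refine ⟨hmem, (hW3 t).dvd_of_dvd_mul_right (show orderOf t ∣ 4 * 3 from ?_)⟩
    rw [← Subgroup.orderOf_coe, ← Subgroup.orderOf_coe, show (4 : ℕ) * 3 = Nat.card C2 by rw [h12]]
    exact Subgroup.orderOf_dvd_natCard _ hmem
  obtain ⟨T, hT⟩ : ∃ T : Sylow 2 W, zW ∈ (T : Subgroup W) ∧ wW ∈ (T : Subgroup W) := by
    have hle : V ≤ K := sup_le (Subgroup.zpowers_le.2 hzK) (Subgroup.zpowers_le.2 hwK)
    have h1 : IsPGroup 2 ((V.subgroupOf K).subgroupOf W) :=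
      (hVp.comap_of_injective K.subtype K.subtype_injective).comap_of_injective W.subtype W.subtype_injective
    obtain ⟨T, hT⟩ := h1.exists_le_sylow
    exact ⟨T, hT (show ((zW : K) : G) ∈ V from hzV), hT (show ((wW : K) : G) ∈ V from hwV)⟩
  -- `T` has order four
  have hT4 : Nat.card (T : Subgroup W) ∣ 4 := by
    haveI : Nontrivial (T : Subgroup W) := ⟨⟨⟨_, hT.1⟩, 1, fun h => by
      have h1 : z = 1 := congrArg (fun t : (T : Subgroup W) => (((t : W) : K) : G)) h
      have := D.pair.hz
      rw [h1, orderOf_one] at this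
      omega⟩⟩
    haveI := T.isPGroup'.center_nontrivial
    obtain ⟨k, hk⟩ := IsPGroup.iff_card.1 (T.isPGroup'.to_subgroup (Subgroup.center (T : Subgroup W)))
    have hk0 : k ≠ 0 := fun e => by
      have h1 := Finite.one_lt_card (α := Subgroup.center (T : Subgroup W))
      rw [hk, e, pow_zero] at h1
      exact lt_irrefl _ h1
    obtain ⟨u0, hu0⟩ := exists_prime_orderOf_dvd_card' (G := Subgroup.center (T : Subgroup W)) 2
      (hk ▸ dvd_pow_self 2 hk0)
    set u' : G := ((((u0 : (T : Subgroup W)) : W) : K) : G) with hu'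
    have huo : orderOf u' = 2 := by
      rw [hu', Subgroup.orderOf_coe, Subgroup.orderOf_coe, Subgroup.orderOf_coe, Subgroup.orderOf_coe, hu0]
    have huy : y * u' = u' * y := (Subgroup.mem_centralizer_singleton_iff.1 (((u0 : (T : Subgroup W)) : W) : K).2).symm
    have hle := Nat.card_le_card_of_injective (fun t : (T : Subgroup W) =>
      (⟨(((t : W) : K) : G), Subgroup.mem_centralizer_iff.2 fun a ha => by
        rcases ha with h | h <;> rw [h]
        · exact (congrArg (fun s : (T : Subgroup W) => (((s : W) : K) : G))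
            (Subgroup.mem_center_iff.1 u0.2 t)).symm
        · exact (Subgroup.mem_centralizer_singleton_iff.1 ((t : W) : K).2).symm⟩ :
        Subgroup.centralizer ({u', y} : Set G))) fun a b hab => Subtype.ext (Subtype.ext (Subtype.ext
          (congrArg (fun s : Subgroup.centralizer ({u', y} : Set G) => (s : G)) hab)))
    have h12' := hle.trans (D.upper hF hfin huo hy huy)
    obtain ⟨j, hj⟩ := IsPGroup.iff_card.1 T.isPGroup'
    rw [hj] at h12' ⊢
    have hj3 : j ≤ 3 := by
      by_contra hlt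
      have := Nat.pow_le_pow_right two_pos (show 4 ≤ j by omega)
      omega
    have hj2 : j ≠ 3 := by
      rintro rfl
      -- a group of order eight inside a group of order at most twelve containing an element of order three
      have hTle : ((T : Subgroup W).map W.subtype).map K.subtype ≤ Subgroup.centralizer ({u', y} : Set G) := by
        rintro _ ⟨_, ⟨t, ht, rfl⟩, rfl⟩
        refine Subgroup.mem_centralizer_iff.2 fun a ha => ?_
        rcases ha with h | h <;> rw [h]
        · exact (congrArg (fun s : (T : Subgroup W) => (((s : W) : K) : G))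
            (Subgroup.mem_center_iff.1 u0.2 ⟨t, ht⟩)).symm
        · exact (Subgroup.mem_centralizer_singleton_iff.1 (t : K).2).symm
      have h8 := Subgroup.card_dvd_of_le hTle
      rw [Subgroup.card_map_of_injective K.subtype_injective, Subgroup.card_map_of_injective W.subtype_injective,
        hj] at h8
      have h3 : 3 ∣ Nat.card (Subgroup.centralizer ({u', y} : Set G)) := by
        refine hy ▸ Subgroup.orderOf_dvd_natCard _ (Subgroup.mem_centralizer_iff.2 fun a ha => ?_)
        rcases ha with h | h <;> rw [h]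
        exact huy.symm
      have h24 := Nat.le_of_dvd Nat.card_pos
        ((show Nat.Coprime (2 ^ 3) 3 by norm_num).mul_dvd_of_dvd_of_dvd h8 h3)
      have := D.upper hF hfin huo hy huy
      omega
    exact pow_dvd_pow 2 (show j ≤ 2 by omega)
  -- Burnside
  have hnp2 : Cfsg.HasNormalPComplement 2 W := Fusion.hnpc_of_normalizer_le_centralizer T fun n hn => by
    let φ := (T : Subgroup W).normalizerMonoidHom
    set α := φ ⟨n, hn⟩ with hα
    have hTc : ∀ a ∈ (T : Subgroup W), ∀ b ∈ (T : Subgroup W), a * b = b * a := fun a ha b hb => by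
      obtain ⟨j, hj⟩ := IsPGroup.iff_card.1 T.isPGroup'
      have hj2 : j ≤ 2 := (Nat.pow_dvd_pow_iff_le_right (show 1 < 2 by norm_num)).1 (hj ▸ hT4)
      rcases (show j = 0 ∨ j = 1 ∨ j = 2 by omega) with rfl | rfl | rfl
      · haveI : Subsingleton (T : Subgroup W) := (Nat.card_eq_one_iff_unique.1 (by rw [hj, pow_zero])).1
        exact congrArg Subtype.val (Subsingleton.elim ((⟨a, ha⟩ : (T : Subgroup W)) * ⟨b, hb⟩) (⟨b, hb⟩ * ⟨a, ha⟩))
      · haveI : IsCyclic (T : Subgroup W) := isCyclic_of_prime_card (p := 2) (by rw [hj, pow_one])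
        letI : CommGroup (T : Subgroup W) := IsCyclic.commGroup
        exact congrArg Subtype.val (mul_comm (⟨a, ha⟩ : (T : Subgroup W)) ⟨b, hb⟩)
      · letI := IsPGroup.commGroupOfCardEqPrimeSq (p := 2) hj
        exact congrArg Subtype.val (mul_comm (⟨a, ha⟩ : (T : Subgroup W)) ⟨b, hb⟩)
    have hTker : (T : Subgroup W).subgroupOf (Subgroup.normalizer ((T : Subgroup W) : Set W)) ≤ φ.ker := by
      rw [show φ.ker = _ from Subgroup.normalizerMonoidHom_ker _]
      exact fun a ha => Subgroup.mem_centralizer_iff.2 fun b hb => hTc b hb _ ha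
    have hrange : orderOf α ∣ φ.ker.index := by
      rw [Subgroup.index_ker]; exact Subgroup.orderOf_dvd_natCard _ ⟨_, rfl⟩
    have hodd : (orderOf α).Coprime 2 := by
      refine Nat.Coprime.coprime_dvd_left hrange ((Nat.prime_two.coprime_iff_not_dvd.2 fun h => ?_).symm)
      exact T.not_dvd_index (h.trans ((Subgroup.index_dvd_of_le hTker).trans
        (Subgroup.relIndex_dvd_index_of_le Subgroup.le_normalizer)))
    have h3 : (orderOf α).Coprime 3 := (hW3 n).coprime_dvd_left
      ((orderOf_map_dvd φ ⟨n, hn⟩).trans (Subgroup.orderOf_mk n hn).dvd)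
    have h24 : orderOf α ∣ 24 := by
      have h1 : orderOf α ∣ Nat.card (Equiv.Perm (T : Subgroup W)) := by
        rw [← orderOf_injective (MulAut.toPerm (T : Subgroup W))
          (fun a b h => MulEquiv.ext fun t => congrFun (congrArg DFunLike.coe h) t) α]
        exact orderOf_dvd_natCard _
      rw [Nat.card_perm] at h1
      exact h1.trans (Nat.factorial_dvd_factorial (Nat.le_of_dvd (by norm_num) hT4))
    have hone : α = 1 := orderOf_eq_one_iff.1 (Nat.eq_one_of_dvd_coprimes
      (show Nat.Coprime (orderOf α) 24 by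
        rw [show (24 : ℕ) = 2 ^ 3 * 3 by norm_num]; exact (hodd.pow_right 3).mul_right h3) dvd_rfl h24)
    refine Subgroup.mem_centralizer_iff.2 fun t ht => ?_
    have h1 : n * t * n⁻¹ = t := congrArg (fun f : MulAut (T : Subgroup W) => ((f ⟨t, ht⟩ : (T : Subgroup W)) : W)) hone
    calc t * n = n * t * n⁻¹ * n := by rw [h1]
      _ = n * t := by group
  set W' := Cfsg.pResidual 2 W with hW'
  haveI : W'.Normal := inferInstance
  have hodd' : ∀ t ∈ W', ∀ v : W, ((v : K) : G) = z ∨ ((v : K) : G) = w ∨ ((v : K) : G) = z * w →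
      t * v = v * t → t = 1 := by
    intro t ht v hv htv
    refine orderOf_eq_one_iff.1 (Nat.eq_one_of_dvd_coprimes
      ((Fusion.hnpc_mem_iff hnp2).1 ht |>.pow_right 2) dvd_rfl ?_)
    exact (hcen v hv t htv).2
  have hinv : ∀ v : W, (((v : K) : G) = z ∨ ((v : K) : G) = w ∨ ((v : K) : G) = z * w) → v * v = 1 →
      ∀ t ∈ W', v * t * v⁻¹ = t⁻¹ := by
    intro v hv hvv t ht
    let φ : MulAut W' := MulAut.conjNormal v
    have hfpf : MonoidHom.FixedPointFree φ := fun a ha => Subtype.ext (by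
      refine hodd' _ a.2 v hv ?_
      have h1 : v * (a : W) * v⁻¹ = a := congrArg Subtype.val ha
      exact (mul_inv_eq_iff_eq_mul.1 h1).symm)
    have h2 : φ^[2] = _root_.id := by
      funext a
      apply Subtype.ext
      show v * (v * (a : W) * v⁻¹) * v⁻¹ = a
      calc v * (v * (a : W) * v⁻¹) * v⁻¹ = v * v * (a : W) * (v * v)⁻¹ := by group
        _ = a := by rw [hvv]; group
    exact congrArg Subtype.val (congrFun (hfpf.coe_eq_inv_of_sq_eq_one h2) ⟨t, ht⟩)
  have hzz : zW * zW = 1 := Subtype.ext (Subtype.ext (Fusion.invol_mul_self D.pair.hz))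
  have hww : wW * wW = 1 := Subtype.ext (Subtype.ext (Fusion.invol_mul_self D.pair.hu))
  have hW'bot : W' = ⊥ := by
    rw [Subgroup.eq_bot_iff_forall]
    intro t ht
    refine hodd' t ht (zW * wW) (Or.inr (Or.inr rfl)) ?_
    have h1 := hinv zW (Or.inl rfl) hzz
    have h2 := hinv wW (Or.inr (Or.inl rfl)) hww
    have h3 : zW * wW * t * (zW * wW)⁻¹ = t := by
      calc zW * wW * t * (zW * wW)⁻¹ = zW * (wW * t * wW⁻¹) * zW⁻¹ := by group
        _ = zW * t⁻¹ * zW⁻¹ := by rw [h2 t ht]
        _ = t⁻¹⁻¹ := h1 _ (inv_mem ht)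
        _ = t := inv_inv t
    exact (mul_inv_eq_iff_eq_mul.1 h3).symm
  -- the intruder
  have hxW : (⟨x, Subgroup.mem_centralizer_singleton_iff.2 hxy⟩ : K) ∈ W :=
    hmemW _ (by rw [Subgroup.orderOf_mk]; exact (Nat.coprime_primes hxp Nat.prime_three).2 hx3)
  have hxW' : (⟨_, hxW⟩ : W) ∈ W' := (Fusion.hnpc_mem_iff hnp2).2
    (by rw [Subgroup.orderOf_mk, Subgroup.orderOf_mk]; exact (Nat.coprime_primes hxp Nat.prime_two).2 hx2)
  rw [hW'bot, Subgroup.mem_bot] at hxW'
  have hx1 : x = 1 := congrArg (fun s : W => ((s : K) : G)) hxW'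
  rw [hx1, orderOf_one] at hxp
  exact Nat.not_prime_one hxp

theorem impossible : False := by
  classical
  haveI : Fact (Nat.Prime 3) := ⟨Nat.prime_three⟩
  haveI : Fact (Nat.Prime 7) := ⟨by norm_num⟩
  haveI : Fact (Nat.Prime 17) := ⟨by norm_num⟩
  obtain ⟨hG, hC, -⟩ := D.orders hF hfin
  obtain ⟨y, hy, hy3⟩ := D.three_centralizer hF hfin
  -- centralizers of elements of order 7 and 17
  have hfacts : ∀ q : ℕ, q.Prime → q ≠ 2 → q ≠ 3 → ¬ q ∣ 240 → ∀ x : G, orderOf x = q →
      ¬ 2 ∣ Nat.card (Subgroup.centralizer ({x} : Set G)) ∧ ¬ 3 ∣ Nat.card (Subgroup.centralizer ({x} : Set G)) := by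
    intro q hq h2 h3 h240 x hx
    refine ⟨fun h => ?_, fun h => ?_⟩
    · haveI : Fact (Nat.Prime 2) := ⟨Nat.prime_two⟩
      obtain ⟨v, hv⟩ := exists_prime_orderOf_dvd_card' (G := Subgroup.centralizer ({x} : Set G)) 2 h
      obtain ⟨c, hc⟩ := isConj_iff.1 (D.one (v : G) (by rw [Subgroup.orderOf_coe, hv]))
      refine h240 (hC ▸ ?_)
      have hxo : orderOf (MulAut.conj c⁻¹ x) = q := by rw [MulEquiv.orderOf_eq, hx]
      rw [← hxo]
      refine Subgroup.orderOf_dvd_natCard _ (Subgroup.mem_centralizer_singleton_iff.2 ?_)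
      have hxv := Subgroup.mem_centralizer_singleton_iff.1 v.2
      rw [MulAut.conj_apply, inv_inv, show z = c⁻¹ * (v : G) * c by rw [← hc]; group]
      calc c⁻¹ * x * c * (c⁻¹ * (v : G) * c) = c⁻¹ * (x * (v : G)) * c := by group
        _ = _ := by rw [← hxv]; group
    · obtain ⟨t, ht⟩ := exists_prime_orderOf_dvd_card' (G := Subgroup.centralizer ({x} : Set G)) 3 h
      have htx := Subgroup.mem_centralizer_singleton_iff.1 t.2
      have hto : orderOf (t : G) = 3 := by rw [Subgroup.orderOf_coe, ht]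
      obtain ⟨P, hP⟩ := (IsPGroup.of_card (p := 3) (n := 1) (G := Subgroup.zpowers y)
        (by rw [Nat.card_zpowers, hy, pow_one])).exists_le_sylow
      obtain ⟨c, hc⟩ := exists_conj P (IsPGroup.of_card (p := 3) (n := 1) (G := Subgroup.zpowers (t : G))
        (by rw [Nat.card_zpowers, hto, pow_one]))
      haveI := D.cyc 3 Nat.prime_three (by norm_num) P
      obtain ⟨i, hi⟩ := mem_zpowers_of_cyclic Nat.prime_three (hc _ (Subgroup.mem_zpowers _))
        (hP (Subgroup.mem_zpowers y))
        (by rw [show c * (t : G) * c⁻¹ = MulAut.conj c t from rfl, MulEquiv.orderOf_eq, hto]) hy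
      refine hy3 (c * x * c⁻¹) ?_ ?_ ?_ ?_
      iterate 3
        rw [show c * x * c⁻¹ = MulAut.conj c x from rfl, MulEquiv.orderOf_eq, hx]
        assumption
      rw [← hi]
      show c * x * c⁻¹ * (c * (t : G) * c⁻¹) ^ i = (c * (t : G) * c⁻¹) ^ i * (c * x * c⁻¹)
      exact ((show Commute (c * x * c⁻¹) (c * (t : G) * c⁻¹) by
        show _ = _; rw [conj_mul, conj_mul, htx]).zpow_right i).eq
  have h7 : ∀ x : G, orderOf x = 7 → Nat.card (Subgroup.centralizer ({x} : Set G)) = 119 := by
    intro x hx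
    obtain ⟨n, e, m, hm, he, hn, hnem⟩ := sylow_once (r := 7) (by rw [hG]; norm_num) hx
    obtain ⟨h2, h3⟩ := hfacts 7 (by norm_num) (by norm_num) (by norm_num) (by norm_num) x hx
    rw [hm] at h2 h3 ⊢
    rw [hG] at hnem
    have hm85 : m ∣ 85 := by
      refine Nat.Coprime.dvd_of_dvd_mul_left (k := m) (m := 144) ?_ ⟨n * e, ?_⟩
      · rw [show (144 : ℕ) = 2 ^ 4 * 3 ^ 2 by norm_num]
        exact ((Nat.prime_two.coprime_iff_not_dvd.2 fun h => h2 (dvd_mul_of_dvd_right h 7)).symm.pow_right 4).mul_right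
          ((Nat.prime_three.coprime_iff_not_dvd.2 fun h => h3 (dvd_mul_of_dvd_right h 7)).symm.pow_right 2)
      · have : n * e * m * 7 = 12240 * 7 := hnem
        have := Nat.eq_of_mul_eq_mul_right (show 0 < 7 by norm_num) this
        linarith
    have hm' := Nat.mem_divisors.2 ⟨hm85, (show (85 : ℕ) ≠ 0 by norm_num)⟩
    have he' := Nat.mem_divisors.2 ⟨(show e ∣ 6 from he), (show (6 : ℕ) ≠ 0 by norm_num)⟩
    rw [show Nat.divisors 85 = {1, 5, 17, 85} by decide] at hm'
    rw [show Nat.divisors 6 = {1, 2, 3, 6} by decide] at he'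
    simp only [Finset.mem_insert, Finset.mem_singleton] at hm' he'
    rcases hm' with rfl | rfl | rfl | rfl <;> rcases he' with rfl | rfl | rfl | rfl <;> omega
  have h17 : ∀ x : G, orderOf x = 17 →
      Nat.card (Subgroup.centralizer ({x} : Set G)) = 17 ∨ Nat.card (Subgroup.centralizer ({x} : Set G)) = 595 := by
    intro x hx
    obtain ⟨n, e, m, hm, he, hn, hnem⟩ := sylow_once (r := 17) (by rw [hG]; norm_num) hx
    obtain ⟨h2, h3⟩ := hfacts 17 (by norm_num) (by norm_num) (by norm_num) (by norm_num) x hx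
    rw [hm] at h2 h3 ⊢
    rw [hG] at hnem
    have hm35 : m ∣ 35 := by
      refine Nat.Coprime.dvd_of_dvd_mul_left (k := m) (m := 144) ?_ ⟨n * e, ?_⟩
      · rw [show (144 : ℕ) = 2 ^ 4 * 3 ^ 2 by norm_num]
        exact ((Nat.prime_two.coprime_iff_not_dvd.2 fun h => h2 (dvd_mul_of_dvd_right h 17)).symm.pow_right 4).mul_right
          ((Nat.prime_three.coprime_iff_not_dvd.2 fun h => h3 (dvd_mul_of_dvd_right h 17)).symm.pow_right 2)
      · have : n * e * m * 17 = 5040 * 17 := hnem
        have := Nat.eq_of_mul_eq_mul_right (show 0 < 17 by norm_num) this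
        linarith
    have hm' := Nat.mem_divisors.2 ⟨hm35, (show (35 : ℕ) ≠ 0 by norm_num)⟩
    have he' := Nat.mem_divisors.2 ⟨(show e ∣ 16 from he), (show (16 : ℕ) ≠ 0 by norm_num)⟩
    rw [show Nat.divisors 35 = {1, 5, 7, 35} by decide] at hm'
    rw [show Nat.divisors 16 = {1, 2, 4, 8, 16} by decide] at he'
    simp only [Finset.mem_insert, Finset.mem_singleton] at hm' he'
    rcases hm' with rfl | rfl | rfl | rfl <;> rcases he' with rfl | rfl | rfl | rfl | rfl <;> omega
  obtain ⟨x7, hx7⟩ := exists_prime_orderOf_dvd_card' (G := G) 7 (by rw [hG]; norm_num)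
  obtain ⟨x17, hx17⟩ := exists_prime_orderOf_dvd_card' (G := Subgroup.centralizer ({x7} : Set G)) 17
    (by rw [h7 x7 hx7]; norm_num)
  set q : G := (x17 : G) with hq'
  have hq : orderOf q = 17 := by rw [hq', Subgroup.orderOf_coe, hx17]
  have h7q : x7 ∈ Subgroup.centralizer ({q} : Set G) :=
    Subgroup.mem_centralizer_singleton_iff.2 (Subgroup.mem_centralizer_singleton_iff.1 x17.2).symm
  have hcard : Nat.card (Subgroup.centralizer ({q} : Set G)) = 595 := by
    rcases h17 q hq with h | h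
    · exfalso
      have := Subgroup.orderOf_dvd_natCard _ h7q
      rw [hx7, h] at this
      norm_num at this
    · exact h
  obtain ⟨x5, hx5⟩ := exists_prime_orderOf_dvd_card' (G := Subgroup.centralizer ({q} : Set G)) 5
    (by rw [hcard]; norm_num)
  obtain ⟨n, e, m, hm, he, hn, hnem⟩ := sylow_once (r := 5) (by rw [hcard]; norm_num) hx5
  rw [hcard] at hnem
  have he' := Nat.mem_divisors.2 ⟨(show e ∣ 4 from he), (show (4 : ℕ) ≠ 0 by norm_num)⟩
  have hn' := Nat.mem_divisors.2 ⟨(show n ∣ 119 from ⟨e * m, by linarith⟩), (show (119 : ℕ) ≠ 0 by norm_num)⟩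
  rw [show Nat.divisors 4 = {1, 2, 4} by decide] at he'
  rw [show Nat.divisors 119 = {1, 7, 17, 119} by decide] at hn'
  simp only [Finset.mem_insert, Finset.mem_singleton] at he' hn'
  have hm119 : m = 119 := by
    rcases hn' with rfl | rfl | rfl | rfl <;> rcases he' with rfl | rfl | rfl <;> omega
  have htop : Subgroup.centralizer ({x5} : Set (Subgroup.centralizer ({q} : Set G))) = ⊤ :=
    Subgroup.eq_top_of_card_eq _ (by rw [hm, hm119, hcard])
  have h75' : (⟨x7, h7q⟩ : Subgroup.centralizer ({q} : Set G)) * x5 = x5 * ⟨x7, h7q⟩ :=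
    Subgroup.mem_centralizer_singleton_iff.1 (by rw [htop]; exact Subgroup.mem_top _)
  have h75 : x7 * (x5 : G) = (x5 : G) * x7 :=
    congrArg (fun t : Subgroup.centralizer ({q} : Set G) => (t : G)) h75'
  have h5 := Subgroup.orderOf_dvd_natCard (Subgroup.centralizer ({x7} : Set G)) (x := (x5 : G))
    (Subgroup.mem_centralizer_singleton_iff.2 h75.symm)
  rw [h7 x7 hx7, Subgroup.orderOf_coe, hx5] at h5
  norm_num at h5

end Cfsg.Agent.Solv.AlmostCyclic.Cfg
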