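import Mathlib
import Cfsg.Agent.Lib.Solv.AlmostCyclic.Config
import Cfsg.Agent.Lib.Solv.AlmostCyclic.Arith
import Cfsg.Agent.Lib.Char.OrderQW.InputsData
import Cfsg.Agent.Lib.Char.OrderQW.Construct
import Cfsg.Agent.S1240

/-!
# A semidihedral Sylow 2-subgroup leaves one order, at `p = 5`
-/

set_option autoImplicit false
set_option linter.style.haveILetI false
set_option linter.unusedSectionVars false

open Cfsg Cfsg.Agent Cfsg.Agent.Small.PSL2

namespace Cfsg.Agent.Solv.AlmostCyclic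

universe u

theorem field_prime {F : Type} [Field F] [Fintype F] {X : Type u} [Group X] [Finite X] (hX : OddCyclic X)
    {L : Subgroup X} (e : L ≃* Matrix.SpecialLinearGroup (Fin 2) F) (ho : Odd (Fintype.card F)) :
    ∃ p : ℕ, p.Prime ∧ p ≠ 2 ∧ Fintype.card F = p := by
  haveI := ringChar.charP F
  obtain ⟨n, hp, hF⟩ := FiniteField.card F (ringChar F)
  haveI : Fact (ringChar F).Prime := ⟨hp⟩
  have hp2 : ringChar F ≠ 2 := fun h => by
    rw [hF, h, Nat.odd_pow_iff n.ne_zero] at ho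
    exact absurd ho (by decide)
  refine ⟨_, hp, hp2, ?_⟩
  let ι : Multiplicative F →* X := L.subtype.comp (e.symm.toMonoidHom.comp
    (MonoidHom.mk' (fun x : Multiplicative F => uS x.toAdd) fun a b => uS_add a.toAdd b.toAdd))
  have hι : Function.Injective ι := by
    intro a b h
    have h1 := e.symm.injective (L.subtype_injective h)
    have h2 := congrFun (congrFun (congrArg Subtype.val h1) 0) 1
    simpa using h2
  have hP : IsPGroup (ringChar F) ι.range := IsPGroup.of_card (n := n) (by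
    rw [← Nat.card_congr (MonoidHom.ofInjective hι).toEquiv, Nat.card_congr Multiplicative.toAdd,
      Nat.card_eq_fintype_card, hF])
  haveI := hX.pgroup hp2 hP
  haveI : IsCyclic (Multiplicative F) :=
    isCyclic_of_surjective (MonoidHom.ofInjective hι).symm (MulEquiv.surjective _)
  have h1 : Monoid.exponent (Multiplicative F) ∣ ringChar F := Monoid.exponent_dvd_of_forall_pow_eq_one fun x => by
    apply Multiplicative.toAdd.injective
    rw [toAdd_pow, nsmul_eq_mul, CharP.cast_eq_zero, zero_mul, toAdd_one]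
  rw [IsCyclic.exponent_eq_card, Nat.card_congr Multiplicative.toAdd, Nat.card_eq_fintype_card] at h1
  rcases (Nat.dvd_prime hp).1 h1 with h | h
  · exact absurd h Fintype.one_lt_card.ne'
  · exact h

theorem root_order {F : Type} [Field F] (h2 : (2 : F) ≠ 0) {A : Matrix.SpecialLinearGroup (Fin 2) F}
    (hA : A.1 * A.1 = -1) : orderOf A = 4 := by
  haveI : Fact (Nat.Prime 2) := ⟨Nat.prime_two⟩
  have hsq : (A ^ 2).1 = -1 := by rw [pow_two, Matrix.SpecialLinearGroup.coe_mul, hA]
  refine orderOf_eq_prime_pow (p := 2) (n := 1) (fun h => ?_) ?_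
  · rw [pow_one] at h
    rw [h, Matrix.SpecialLinearGroup.coe_one] at hsq
    have h1 := congrFun (congrFun hsq 0) 0
    simp at h1
    exact h2 (by linear_combination h1)
  · rw [show 2 ^ (1 + 1) = 2 * 2 by rfl, pow_mul]
    apply Subtype.ext
    rw [Matrix.SpecialLinearGroup.coe_pow, hsq, neg_one_sq, Matrix.SpecialLinearGroup.coe_one]

variable {G : Type u} [Group G] [Finite G] [IsSimpleGroup G]

/-- Only `p = 5` survives, with one possible index of the centralizer. -/
theorem exists_five (hna : ¬ IsMulCommutative G) (hcyc : OddCyclic G) (S : Sylow 2 G)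
    (hS : Cfsg.IsQuasiDihedral (S : Subgroup G)) :
    ∃ (z w : G) (F : Type) (_ : Field F) (_ : Fintype F) (X : Type u) (_ : Group X) (_ : Finite X)
      (_ : Cfg z w 5 F X), Fintype.card F = 5 ∧
        Nat.card G * Nat.card (Subgroup.centralizer ({z, w} : Set G)) ^ 2 * 400 =
          Nat.card (Subgroup.centralizer ({z} : Set G)) ^ 3 * 357 := by
  classical
  haveI : Fact (Nat.Prime 2) := ⟨Nat.prime_two⟩
  have hG := fun H => Fusion.no_index_two_of_simple hna H
  obtain ⟨n, ⟨E⟩⟩ := Fusion.exists_qdData' hS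
  set z : G := (E.z : G) with hz'
  have hz : orderOf z = 2 := by rw [hz', Subgroup.orderOf_coe, E.orderOf_z]
  have hzc : ∀ s ∈ (S : Subgroup G), s * z = z * s := fun s hs =>
    (congrArg Subtype.val (E.z_central ⟨s, hs⟩).eq).symm
  have hy2 : orderOf (E.x ^ (0 : ℤ) * E.y) = 2 := E.refl_orderOf_even Even.zero
  -- the four-group
  set U₀ := Subgroup.centralizer ({E.x ^ (0 : ℤ) * E.y} : Set (S : Subgroup G)) with hU₀
  have hU0 : IsKleinFour U₀ := Fusion.isKleinFour_of_card_sq (E.card_centralizer_refl 0) fun s => by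
    have hc := Subgroup.mem_centralizer_singleton_iff.1 s.2
    apply Subtype.ext
    show (s : (S : Subgroup G)) * s = 1
    rcases (E.commute_refl_iff 0 s).1 hc with h | h | h | h
    · rw [h, one_mul]
    · rw [h, E.z_mul_z]
    · rw [h]; exact Fusion.invol_mul_self hy2
    · rw [h]
      calc E.z * (E.x ^ (0 : ℤ) * E.y) * (E.z * (E.x ^ (0 : ℤ) * E.y))
          = E.z * ((E.x ^ (0 : ℤ) * E.y) * E.z) * (E.x ^ (0 : ℤ) * E.y) := by simp only [mul_assoc]
        _ = E.z * E.z * ((E.x ^ (0 : ℤ) * E.y) * (E.x ^ (0 : ℤ) * E.y)) := by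
            rw [← (E.z_central _).eq]; simp only [mul_assoc]
        _ = 1 := by rw [E.z_mul_z, Fusion.invol_mul_self hy2, one_mul]
  set U := U₀.map (S : Subgroup G).subtype with hU
  have hUk : IsKleinFour ↥U := by
    let eU := (U₀.equivMapOfInjective (S : Subgroup G).subtype (S : Subgroup G).subtype_injective)
    exact ⟨by rw [← Nat.card_congr eU.toEquiv, IsKleinFour.card_four],
      by rw [← Monoid.exponent_eq_of_mulEquiv eU, IsKleinFour.exponent_two]⟩
  have hUn : Cfsg.IsWreathed ↥(S : Subgroup G) → ∀ s ∈ (S : Subgroup G), ∀ t ∈ U, s * t * s⁻¹ ∈ U := by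
    intro hW
    exact absurd hW (not_wreathed E)
  set C := Subgroup.centralizer ({z} : Set G) with hC
  obtain ⟨hone, uu, huu, huz, hclass, -, -⟩ := Char.OrderQW.involution_facts hna S (Or.inl hS) z hz E.z.2 hzc U
    (Subgroup.map_subtype_le _) hUk hUn
  have hSC : (S : Subgroup G) ≤ C := fun s hs => Subgroup.mem_centralizer_singleton_iff.2 (hzc s hs)
  obtain ⟨F, iF, iFt, ho, ⟨e⟩⟩ := S1240.result S (Or.inl hS) hG
    (fun a b ha hb => (hone a ha).symm.trans (hone b hb)) z hz
  set O := Cfsg.oddCore ↥C with hO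
  haveI : (commutator (↥C ⧸ O)).Normal := inferInstance
  obtain ⟨T, eT, Z, heT, hT, hzeq, hZT, hZX, hzc₀⟩ :=
    Char.OrderQW.exists_sylow_image S (Or.inl hS) hG z hz E.z.2 hzc hSC
  have hf := Char.OrderQW.slFacts_of T hT Z hzeq hZT hZX (eT ⟨z, E.z.2⟩) hzc₀
    (by rw [MulEquiv.orderOf_eq, Subgroup.orderOf_mk, hz]) ho (commutator (↥C ⧸ O)) e
  have hTq : Cfsg.IsQuasiDihedral (T : Subgroup (↥C ⧸ O)) := by
    obtain ⟨D', -, -⟩ := S1213.qd_transport eT E
    exact ⟨n, D'.hn, D'.hcard, D'.x, D'.y, D'.ox, D'.oy, D'.rel⟩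
  have hzb : ((eT ⟨z, E.z.2⟩ : (T : Subgroup (↥C ⧸ O))) : ↥C ⧸ O) =
      QuotientGroup.mk' O ⟨z, Subgroup.mem_centralizer_singleton_iff.2 rfl⟩ := heT ⟨z, E.z.2⟩
  have hker : Odd (Nat.card (QuotientGroup.mk' O).ker) := by
    rw [QuotientGroup.ker_mk']
    exact Nat.coprime_two_right.1 (Fusion.card_pPrimeCore_coprime 2 _)
  have hXc : OddCyclic (↥C ⧸ O) := by
    intro r hr hr2 P
    haveI : Fact r.Prime := ⟨hr⟩
    obtain ⟨R⟩ : Nonempty (Sylow r C) := inferInstance
    haveI : IsCyclic (R : Subgroup C) := by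
      haveI := hcyc.pgroup hr2 (R.isPGroup'.map C.subtype)
      exact isCyclic_of_surjective ((R : Subgroup C).equivMapOfInjective C.subtype C.subtype_injective).symm
        (MulEquiv.surjective _)
    haveI : IsCyclic (R.mapSurjective (QuotientGroup.mk'_surjective O) : Subgroup (↥C ⧸ O)) := by
      rw [Sylow.coe_mapSurjective]
      exact isCyclic_of_surjective ((QuotientGroup.mk' O).subgroupMap _) (MonoidHom.subgroupMap_surjective _ _)
    exact isCyclic_of_surjective ((R.mapSurjective (QuotientGroup.mk'_surjective O)).equiv P) (MulEquiv.surjective _)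
  obtain ⟨p, hp, hp2, hF⟩ := field_prime hXc e ho
  haveI : Fact p.Prime := ⟨hp⟩
  have hw : orderOf (uu : G) = 2 := by rw [Subgroup.orderOf_coe, huu]
  have hcomm : z * (uu : G) = (uu : G) * z := (Subgroup.mem_centralizer_singleton_iff.1 uu.2).symm
  let D : Cfg z (uu : G) p F (↥C ⧸ O) :=
    { S := S
      hS := hS
      pair := ⟨hz, hw, huz, fun v hv hvz hne => by
        obtain ⟨c, hc⟩ := isConj_iff.1 ((hclass ⟨v, Subgroup.mem_centralizer_singleton_iff.2 hvz.symm⟩
          (by rw [Subgroup.orderOf_mk, hv]) hne).symm)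
        exact ⟨c, Subgroup.mem_centralizer_singleton_iff.1 c.2, congrArg Subtype.val hc⟩⟩
      hcomm := hcomm
      cyc := hcyc
      hzS := hSC
      π := QuotientGroup.mk' O
      surj := QuotientGroup.mk'_surjective O
      odd := hker
      T := T
      hT := hTq
      L := commutator (↥C ⧸ O)
      normal := inferInstance
      e := e
      invol := fun t ht h => hzb ▸ hf.invol_L t ht h
      zL := hzb ▸ hf.zb_L
      isl := fun A hA => root_order (two_ne hF hp2) hA
      one := hone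
      core := Fusion.pPrimeCore_quotient_eq_bot }
  -- the sign with `4 ∣ p + σ`
  obtain ⟨σ, m, hσ, hm, hm4⟩ : ∃ (σ : ℤ) (m : ℕ), (σ = 1 ∨ σ = -1) ∧ (m : ℤ) = p + σ ∧ 4 ∣ m := by
    have := hp.odd_of_ne_two hp2
    obtain ⟨k, hk⟩ := this
    rcases Nat.even_or_odd k with ⟨j, hj⟩ | ⟨j, hj⟩
    · exact ⟨-1, p - 1, Or.inr rfl, by omega, ⟨j, by omega⟩⟩
    · exact ⟨1, p + 1, Or.inl rfl, by omega, ⟨j + 1, by omega⟩⟩
  haveI := Fintype.ofFinite G
  haveI : Fintype (↥C ⧸ O) := Fintype.ofFinite _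
  obtain ⟨St, hq⟩ := Char.OrderQW.exists_setting hna S (Or.inl hS) z hz E.z.2 hzc U (Subgroup.map_subtype_le _) hUk
    hUn hp2 1 F (by rw [hF, pow_one]) ⟨_, inferInstance, ⟨e⟩⟩
  obtain ⟨a, h, a₀, h₀, Q, A, B, d⟩ := St.exists_inputs hna hq uu huu huz
  have hQ1 : Q ≠ 1 := by
    have h1 : (1 : ℤ) < (p : ℤ) ^ 1 := by rw [pow_one]; exact_mod_cast hp.one_lt
    rcases d.sign with h | h <;> omega
  have hord := Char.OrderQW.order_pairs hz hone uu huu huz hclass d.ma d.mh d.ma₀ d.mh₀ hQ1 d.a_one d.h_one d.a_z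
    d.h_z d.a₀_one d.h₀_one d.a₀_u d.h₀_u d.local_z d.theta_zero d.phi_supp d.theta_eq
  have hsign := d.sign
  rw [pow_one] at hsign
  have hp1 : 1 ≤ p ^ 2 := Nat.one_le_pow _ _ hp.pos
  have hmdvd : m ∣ p ^ 2 - 1 := by
    refine Int.natCast_dvd_natCast.1 ⟨(p : ℤ) - σ, ?_⟩
    rw [Nat.cast_sub hp1, hm]
    push_cast
    rcases hσ with rfl | rfl <;> ring
  have hm0 : m ≠ 0 := by have := hp.two_le; omega
  have hpp0 : p ^ 2 - 1 ≠ 0 := by
    have := Nat.pow_le_pow_left hp.two_le 2
    omega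
  obtain ⟨h2g, h2w, h2c⟩ := D.val_two hF
  have hC' : Nat.card C = Nat.card ↥(Subgroup.centralizer ({z} : Set G)) := rfl
  rw [← hC'] at h2g h2c
  have hPp : padicValNat p (Nat.card G) = padicValNat p (Nat.card C) ∧
      padicValNat p (Nat.card (Subgroup.centralizer ({z, (uu : G)} : Set G))) < padicValNat p (Nat.card C) := by
    have h1 := D.val_bound hF hp2 hσ hm hm4 hp2 (Or.inr rfl) (dvd_mul_right _ _)
    rw [← hC'] at h1
    have h2 := one_le_padicValNat_of_dvd (p := p) (mul_ne_zero hp.ne_zero hpp0) (dvd_mul_right p (p ^ 2 - 1))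
    exact ⟨val_eq D.pair hcyc hp2 (by rw [← hC']; omega), by omega⟩
  have hR : ∀ r : ℕ, r.Prime → r ∣ m → padicValNat r (Nat.card G) = padicValNat r (Nat.card C) ∧
      padicValNat r (Nat.card (Subgroup.centralizer ({z, (uu : G)} : Set G))) + padicValNat r m ≤
        padicValNat r (Nat.card C) := by
    intro r hr hrm
    haveI : Fact r.Prime := ⟨hr⟩
    have hm1 : 1 ≤ padicValNat r m := one_le_padicValNat_of_dvd hm0 hrm
    have hmul : padicValNat r (p * (p ^ 2 - 1)) = padicValNat r p + padicValNat r (p ^ 2 - 1) :=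
      padicValNat.mul hp.ne_zero hpp0
    rcases eq_or_ne r 2 with rfl | hr2
    · refine ⟨h2g, ?_⟩
      -- `p² - 1` is `m` times an even number
      have h4 : padicValNat 2 m + 1 ≤ padicValNat 2 (p ^ 2 - 1) := by
        refine (padicValNat_dvd_iff_le hpp0).1 ?_
        rw [pow_succ]
        obtain ⟨k, hk⟩ := hmdvd
        rw [hk]
        refine mul_dvd_mul pow_padicValNat_dvd ?_
        have hk' : ((p : ℤ) - σ) = k := by
          have h5 : ((p ^ 2 - 1 : ℕ) : ℤ) = (m : ℤ) * k := by exact_mod_cast hk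
          rw [Nat.cast_sub hp1] at h5
          push_cast at h5
          have hm' : (m : ℤ) ≠ 0 := by exact_mod_cast hm0
          apply mul_left_cancel₀ hm'
          rw [← h5, hm]
          rcases hσ with rfl | rfl <;> ring
        have hodd := hp.odd_of_ne_two hp2
        obtain ⟨j, hj⟩ := hodd
        omega
      omega
    · have h1 := D.val_bound hF hp2 hσ hm hm4 hr2 (Or.inl hrm)
        (dvd_mul_of_dvd_right (hrm.trans hmdvd) _)
      rw [← hC'] at h1
      have h3 : padicValNat r m ≤ padicValNat r (p ^ 2 - 1) :=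
        (padicValNat_dvd_iff_le hpp0).1 (pow_padicValNat_dvd.trans hmdvd)
      exact ⟨val_eq D.pair hcyc hr2 (by rw [← hC']; omega), by omega⟩
  obtain ⟨hp5, hfin⟩ := arith hp2 hσ hm hm4 hsign d.A_ne_zero d.A_ne_one d.second Nat.card_pos.ne' Nat.card_pos.ne'
    Nat.card_pos.ne' hord hPp hR
  subst hp5
  exact ⟨z, uu, F, iF, iFt, _, inferInstance, inferInstance, D, hF, hfin⟩
where
  not_wreathed {n : ℕ} {S : Type u} [Group S] [Finite S] (E : Fusion.QDData S n) : ¬ Cfsg.IsWreathed S := by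
    intro hW
    obtain ⟨k, ⟨W⟩⟩ := Fusion.exists_wrData' hW
    have hc : W.el 1 1 ∈ Subgroup.center S := Subgroup.mem_center_iff.2 fun s => by
      obtain ⟨i, j, rfl | rfl⟩ := W.exists_form s
      · rw [W.el_mul, W.el_mul, add_comm i, add_comm j]
      · rw [mul_assoc, W.t_mul_el, ← mul_assoc, ← mul_assoc, W.el_mul, W.el_mul, add_comm i, add_comm j]
    rw [E.center_eq] at hc
    have h1 : orderOf (W.el 1 1) ∣ 2 := E.orderOf_z ▸ (orderOf_dvd_of_mem_zpowers hc)
    have h2 : W.el 1 1 ^ (2 : ℤ) = 1 := by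
      rw [show (2 : ℤ) = ((2 : ℕ) : ℤ) from rfl, zpow_natCast]; exact orderOf_dvd_iff_pow_eq_one.1 h1
    rw [W.el_zpow, W.el_eq_one, one_mul, W.N_eq, W.h_eq] at h2
    have h3 : (1 : ℤ) ≤ 2 ^ (k - 2) := one_le_pow₀ (by norm_num)
    have := Int.le_of_dvd two_pos h2.1
    omega

end Cfsg.Agent.Solv.AlmostCyclic
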