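import Mathlib
import Cfsg.Agent.Lib.Solv.AlmostCyclic.Setup
import Cfsg.Agent.Lib.Solv.AlmostCyclic.FiveFinal

/-!
# No simple group has a semidihedral Sylow 2-subgroup and cyclic odd Sylow subgroups
-/

set_option autoImplicit false

open Cfsg Cfsg.Agent

namespace Cfsg.Agent.Solv.AlmostCyclic

universe u

theorem no_quasidihedral {G : Type u} [Group G] [Finite G] [IsSimpleGroup G] (hna : ¬ IsMulCommutative G)
    (hcyc : OddCyclic G) (S : Sylow 2 G) (hS : Cfsg.IsQuasiDihedral (S : Subgroup G)) : False := by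
  haveI : Fact (Nat.Prime 5) := ⟨Nat.prime_five⟩
  obtain ⟨z, w, F, _, _, X, _, _, D, hF, hfin⟩ := exists_five hna hcyc S hS
  exact D.impossible hF hfin

end Cfsg.Agent.Solv.AlmostCyclic
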