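import Mathlib
import Cfsg.Agent.Lib.Solv.AlmostCyclic.Kill
import Cfsg.Agent.Lib.Char.ZStar
import Cfsg.Agent.Lib.Classical.Dickson.Recognition
import Cfsg.Agent.Lib.Classical.Dickson.Tools
import Cfsg.Agent.Lib.GW.ProperStructure
import Cfsg.Agent.S0483
import Cfsg.Agent.S0646
import Cfsg.Agent.S3178
import Cfsg.Agent.S4418

/-!
# Simple groups with cyclic odd Sylow subgroups and a large cyclic 2-subgroup are `PSL₂(p)`
-/

set_option autoImplicit false
set_option linter.style.haveILetI false
set_option linter.unusedSectionVars false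

open Cfsg Cfsg.Agent Cfsg.Agent.Small.PSL2

namespace Cfsg.Agent.Solv.AlmostCyclic

universe u

/-- A 2-group with a cyclic subgroup of index at most two. -/
def CyclicTwo (G : Type u) [Group G] : Prop :=
  ∀ S : Sylow 2 G, ∃ C : Subgroup (S : Subgroup G), IsCyclic C ∧ C.index ∣ 2

variable {G : Type u} [Group G] [Finite G]

theorem solvable_of_cyclic (hcyc : OddCyclic G) (h : ∀ S : Sylow 2 G, IsCyclic S) : Group.IsSolvable G := by
  haveI : IsZGroup G := (isZGroup_iff G).2 fun r hr P => by
    rcases eq_or_ne r 2 with rfl | h2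
    · exact h P
    · exact hcyc r hr h2 P
  infer_instance

theorem seven_not : ¬ OddCyclic (alternatingGroup (Fin 7)) := by
  intro hcyc
  haveI : Fact (Nat.Prime 3) := ⟨Nat.prime_three⟩
  let a : alternatingGroup (Fin 7) := ⟨Equiv.swap 0 1 * Equiv.swap 1 2, Equiv.Perm.mem_alternatingGroup.2 (by decide)⟩
  let b : alternatingGroup (Fin 7) := ⟨Equiv.swap 3 4 * Equiv.swap 4 5, Equiv.Perm.mem_alternatingGroup.2 (by decide)⟩
  have ha : orderOf a = 3 := orderOf_eq_prime (by decide) (by decide)
  have hb : orderOf b = 3 := orderOf_eq_prime (by decide) (by decide)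
  have hab : Commute a b := show a * b = b * a by decide
  have hP : IsPGroup 3 (Subgroup.zpowers a ⊔ Subgroup.zpowers b : Subgroup (alternatingGroup (Fin 7))) := by
    refine IsPGroup.to_sup_of_normal_left' (IsPGroup.of_card (n := 1) (by rw [Nat.card_zpowers, ha]; rfl))
      (IsPGroup.of_card (n := 1) (by rw [Nat.card_zpowers, hb]; rfl)) ?_
    rw [Subgroup.zpowers_le, Subgroup.mem_normalizer_iff]
    intro t
    constructor
    · rintro ⟨k, rfl⟩
      exact ⟨k, by show a ^ k = b * a ^ k * b⁻¹; rw [(hab.symm.zpow_right k).eq, mul_inv_cancel_right]⟩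
    · rintro ⟨k, hk⟩
      refine ⟨k, ?_⟩
      show a ^ k = t
      have hk' : a ^ k = b * t * b⁻¹ := hk
      calc a ^ k = b⁻¹ * (b * a ^ k) := by group
        _ = b⁻¹ * (a ^ k * b) := by rw [(hab.symm.zpow_right k).eq]
        _ = b⁻¹ * (b * t * b⁻¹ * b) := by rw [hk']
        _ = t := by group
  haveI := hcyc.pgroup (by norm_num) hP
  have h := mem_zpowers_of_cyclic Nat.prime_three (Subgroup.mem_sup_left (Subgroup.mem_zpowers a))
    (Subgroup.mem_sup_right (Subgroup.mem_zpowers b)) ha hb
  rw [← mem_powers_iff_mem_zpowers] at h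
  obtain ⟨k, hk⟩ := h
  have hk' : a ^ k = b := hk
  have h3 : a ^ (k % 3) = b := by rw [← ha, pow_mod_orderOf, hk']
  have hlt : k % 3 < 3 := Nat.mod_lt _ (by norm_num)
  interval_cases k % 3 <;> revert h3 <;> decide

theorem OddCyclic.of_equiv {H : Type*} [Group H] [Finite H] (h : OddCyclic G) (e : G ≃* H) : OddCyclic H := by
  intro r hr h2 P
  haveI : Fact r.Prime := ⟨hr⟩
  haveI := h.pgroup h2 (P.isPGroup'.map e.symm.toMonoidHom)
  exact isCyclic_of_surjective ((P : Subgroup H).equivMapOfInjective e.symm.toMonoidHom e.symm.injective).symm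
    (MulEquiv.surjective _)

theorem field_prime_psl {F : Type} [Field F] [Fintype F] (h : OddCyclic (Matrix.ProjectiveSpecialLinearGroup (Fin 2) F))
    (ho : Odd (Fintype.card F)) : ∃ p : ℕ, p.Prime ∧ Fintype.card F = p := by
  haveI := ringChar.charP F
  haveI : Finite (Matrix.ProjectiveSpecialLinearGroup (Fin 2) F) :=
    Finite.of_surjective _ (pr_surjective (F := F))
  obtain ⟨n, hp, hF⟩ := FiniteField.card F (ringChar F)
  haveI : Fact (ringChar F).Prime := ⟨hp⟩
  have hp2 : ringChar F ≠ 2 := fun h => by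
    rw [hF, h, Nat.odd_pow_iff n.ne_zero] at ho
    exact absurd ho (by decide)
  refine ⟨_, hp, ?_⟩
  have hι : Function.Injective (uP (F := F)) := fun a b hab => Multiplicative.toAdd.injective (pr_uS_inj hab)
  have hP : IsPGroup (ringChar F) (uP (F := F)).range := IsPGroup.of_card (n := n) (by
    rw [← Nat.card_congr (MonoidHom.ofInjective hι).toEquiv, Nat.card_congr Multiplicative.toAdd,
      Nat.card_eq_fintype_card, hF])
  haveI := h.pgroup hp2 hP
  haveI : IsCyclic (Multiplicative F) :=
    isCyclic_of_surjective (MonoidHom.ofInjective hι).symm (MulEquiv.surjective _)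
  have h1 : Monoid.exponent (Multiplicative F) ∣ ringChar F := Monoid.exponent_dvd_of_forall_pow_eq_one fun x => by
    apply Multiplicative.toAdd.injective
    rw [toAdd_pow, nsmul_eq_mul, CharP.cast_eq_zero, zero_mul, toAdd_one]
  rw [IsCyclic.exponent_eq_card, Nat.card_congr Multiplicative.toAdd, Nat.card_eq_fintype_card] at h1
  rcases (Nat.dvd_prime hp).1 h1 with h | h
  · exact absurd h Fintype.one_lt_card.ne'
  · exact h

/-- An isolated involution is impossible in a simple group. -/
theorem not_unique_invol [IsSimpleGroup G] (hna : ¬ IsMulCommutative G) (S : Sylow 2 G) {t : G}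
    (htS : t ∈ (S : Subgroup G)) (ht : orderOf t = 2)
    (hun : ∀ s ∈ (S : Subgroup G), orderOf s = 2 → s = t) : False := by
  have hOI : Char.OddInvol t := Char.oddInvol_of_isolated_sylow ht htS fun g hg => hun _ hg
    (by rw [show g * t * g⁻¹ = MulAut.conj g t from rfl, MulEquiv.orderOf_eq, ht])
  have hO : oddCore G = ⊥ := (Subgroup.Normal.eq_bot_or_eq_top (inferInstance : (oddCore G).Normal)).resolve_right
    fun h => by
      have h1 : Odd (Nat.card G) := by rw [← Subgroup.card_top (G := G), ← h]; exact Char.card_oddCore_odd G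
      exact Nat.not_even_iff_odd.2 h1 (even_iff_two_dvd.2 (ht ▸ orderOf_dvd_natCard t))
  have hc : t ∈ Subgroup.center G := Subgroup.mem_center_iff.2 fun g => (Char.zStar_central hOI hO g).symm
  rcases (inferInstance : (Subgroup.center G).Normal).eq_bot_or_eq_top with h | h
  · rw [h, Subgroup.mem_bot] at hc
    rw [hc, orderOf_one] at ht
    omega
  · exact hna ⟨⟨fun a b => Subgroup.mem_center_iff.1 (h ▸ Subgroup.mem_top b) a⟩⟩

/-- The simple groups in question. -/
theorem simple_shape [IsSimpleGroup G] (hna : ¬ IsMulCommutative G) (hcyc : OddCyclic G) (h2 : CyclicTwo G) :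
    ∃ (p : ℕ) (_ : Fact p.Prime), 5 ≤ p ∧ Nonempty (G ≃* Matrix.ProjectiveSpecialLinearGroup (Fin 2) (ZMod p)) := by
  classical
  haveI : Fact (Nat.Prime 2) := ⟨Nat.prime_two⟩
  have hns : ¬ Group.IsSolvable G := fun h => hna ⟨⟨fun a b => IsSimpleGroup.comm_iff_isSolvable.mpr h a b⟩⟩
  obtain ⟨S⟩ : Nonempty (Sylow 2 G) := inferInstance
  have hScyc : ¬ IsCyclic (S : Subgroup G) := fun hc => hns (solvable_of_cyclic hcyc fun T => by
    haveI := hc
    exact isCyclic_of_surjective (S.equiv T) (MulEquiv.surjective _))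
  obtain ⟨C, hCc, hCi⟩ := h2 S
  have hCi2 : C.index = 2 := by
    rcases (Nat.dvd_prime Nat.prime_two).1 hCi with h | h
    · exfalso
      rw [Subgroup.index_eq_one] at h
      subst h
      haveI := hCc
      exact hScyc (isCyclic_of_surjective Subgroup.topEquiv (MulEquiv.surjective _))
    · exact h
  obtain ⟨n, hn⟩ := IsPGroup.iff_card.1 S.isPGroup'
  have hn2 : 2 ≤ n := by
    by_contra h
    refine hScyc ?_
    rcases (show n = 0 ∨ n = 1 by omega) with rfl | rfl
    · haveI : Subsingleton (S : Subgroup G) := (Nat.card_eq_one_iff_unique.1 (by rw [hn, pow_zero])).1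
      infer_instance
    · exact isCyclic_of_prime_card (p := 2) (by rw [hn, pow_one])
  have hCn : Nat.card C = 2 ^ (n - 1) := by
    have h := Subgroup.card_mul_index C
    rw [hCi2, hn, show 2 ^ n = 2 ^ (n - 1) * 2 by rw [← pow_succ]; congr 1; omega] at h
    exact Nat.eq_of_mul_eq_mul_right two_pos h
  haveI hCnorm : C.Normal := Subgroup.normal_of_index_eq_two hCi2
  have dihedral : ∀ m, 2 ≤ m → Nonempty ((S : Subgroup G) ≃* DihedralGroup m) →
      ∃ (p : ℕ) (_ : Fact p.Prime), 5 ≤ p ∧ Nonempty (G ≃* Matrix.ProjectiveSpecialLinearGroup (Fin 2) (ZMod p)) := by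
    intro m hm hD
    haveI : Group.IsPerfect G := ⟨simple_shape.simple_commutator hna⟩
    have hO : oddCore G = ⊥ := (Subgroup.Normal.eq_bot_or_eq_top (inferInstance : (oddCore G).Normal)).resolve_right
      fun h => by
        have h1 : Odd (Nat.card G) := by rw [← Subgroup.card_top (G := G), ← h]; exact Char.card_oddCore_odd G
        refine Nat.not_even_iff_odd.2 h1 (even_iff_two_dvd.2 ?_)
        exact (dvd_pow_self 2 (show n ≠ 0 by omega)).trans (hn ▸ Subgroup.card_subgroup_dvd_card _)
    let e₀ : G ⧸ oddCore G ≃* G := (QuotientGroup.quotientMulEquivOfEq hO).trans QuotientGroup.quotientBot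
    rcases S0483.result S m hm hD with ⟨F, iF, iFF, ho, h3, ⟨e⟩⟩ | ⟨⟨e⟩⟩
    · obtain ⟨p, hp, hF⟩ := field_prime_psl (hcyc.of_equiv (e₀.symm.trans e)) ho
      haveI : Fact p.Prime := ⟨hp⟩
      refine ⟨p, ⟨hp⟩, ?_, ⟨(e₀.symm.trans e).trans
        (Classical.Dickson.pslCongr (ZMod.ringEquivOfPrime F hp hF).symm)⟩⟩
      rw [hF] at ho h3
      obtain ⟨k, hk⟩ := ho
      omega
    · exact absurd (hcyc.of_equiv (e₀.symm.trans e)) seven_not
  by_cases hab : ∀ x y : (S : Subgroup G), x * y = y * x
  · -- a commutative Sylow subgroup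
    obtain ⟨x, hx⟩ : ∃ x : (S : Subgroup G), x ∉ C := by
      by_contra hcon
      simp only [not_exists, not_not] at hcon
      rw [(Subgroup.eq_top_iff' C).2 hcon, Subgroup.index_top] at hCi2
      omega
    obtain ⟨c, hc⟩ := hCc.exists_generator
    have hx2 : x * x ∈ C := by
      have h := Subgroup.mul_mem_iff_of_index_two hCi2 (a := x) (b := x)
      exact h.2 Iff.rfl
    obtain ⟨j, hj⟩ := hc ⟨x * x, hx2⟩
    have hj' : (c : (S : Subgroup G)) ^ j = x * x := congrArg Subtype.val hj
    have hco : orderOf (c : (S : Subgroup G)) = 2 ^ (n - 1) := by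
      rw [Subgroup.orderOf_coe, orderOf_eq_card_of_forall_mem_zpowers hc, hCn]
    obtain ⟨i, hi | hi⟩ := Int.even_or_odd' j
    · -- a complement of order two
      set b := x * ((c : (S : Subgroup G)) ^ i)⁻¹ with hb
      have hbC : b ∉ C := fun h => hx (by
        have := mul_mem h (zpow_mem c.2 i)
        rwa [hb, inv_mul_cancel_right] at this)
      have hbb : b * b = 1 := by
        rw [hb, mul_assoc, ← mul_assoc _ x, hab _ x, mul_assoc, ← mul_assoc x x, ← hj', hi, two_mul, zpow_add]
        group
      have hbo : orderOf b = 2 := orderOf_eq_prime (by rw [pow_two]; exact hbb)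
        fun h => hbC (by rw [h]; exact one_mem C)
      rcases (show n = 2 ∨ 3 ≤ n by omega) with rfl | hn3
      · refine dihedral 2 le_rfl ?_
        have h := Classical.Dickson.dihedral_of hCc hbC hbb (fun d hd => ?_) (by rw [hn, hCn]; norm_num)
        · rw [hCn] at h; exact h
        rw [hab b d, mul_inv_cancel_right, eq_inv_iff_mul_eq_one]
        have h2' : (⟨d, hd⟩ : C) ^ 2 = 1 := by
          have := pow_card_eq_one' (x := (⟨d, hd⟩ : C))
          rwa [hCn] at this
        rw [pow_two] at h2'
        exact congrArg Subtype.val h2'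
      · exfalso
        haveI : (Subgroup.zpowers b).Normal := ⟨fun w hw g => by rwa [hab g w, mul_inv_cancel_right]⟩
        have hQc : IsCyclic ((S : Subgroup G) ⧸ Subgroup.zpowers b) := by
          haveI := hCc
          refine isCyclic_of_surjective ((QuotientGroup.mk' (Subgroup.zpowers b)).comp C.subtype) fun q => ?_
          induction q using QuotientGroup.induction_on with
          | H s =>
            by_cases hs : s ∈ C
            · exact ⟨⟨s, hs⟩, rfl⟩
            · refine ⟨⟨s * b, (Subgroup.mul_mem_iff_of_index_two hCi2).2 (iff_of_false hs hbC)⟩, ?_⟩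
              show QuotientGroup.mk (s * b) = QuotientGroup.mk s
              rw [QuotientGroup.eq]
              refine ⟨-1, ?_⟩
              show b ^ (-1 : ℤ) = (s * b)⁻¹ * s
              group
        refine hns (S4418.result S (Subgroup.zpowers b) inferInstance hQc ?_)
        have h := Subgroup.card_eq_card_quotient_mul_card_subgroup (Subgroup.zpowers b)
        rw [hn, Nat.card_zpowers, hbo] at h
        have h8 := Nat.pow_le_pow_right two_pos hn3
        omega
    · -- the square generates, so the group would be cyclic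
      exfalso
      refine hScyc ⟨⟨x, fun s => ?_⟩⟩
      have hcx : (c : (S : Subgroup G)) ∈ Subgroup.zpowers x := by
        have hmem : (c : (S : Subgroup G)) ^ j ∈ Subgroup.zpowers x := by
          rw [hj']; exact mul_mem (Subgroup.mem_zpowers x) (Subgroup.mem_zpowers x)
        have hcop : IsCoprime j ((2 : ℤ) ^ (n - 1)) := by
          refine IsCoprime.pow_right ?_
          rw [hi]
          exact ⟨1, -i, by ring⟩
        obtain ⟨u, v, huv⟩ := hcop
        have : (c : (S : Subgroup G)) = ((c : (S : Subgroup G)) ^ j) ^ u := by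
          rw [← zpow_mul, show j * u = 1 + (2 : ℤ) ^ (n - 1) * (-v) by linarith, zpow_add, zpow_one, zpow_mul,
            show ((2 : ℤ) ^ (n - 1)) = ((2 ^ (n - 1) : ℕ) : ℤ) by push_cast; rfl, zpow_natCast, ← hco,
            pow_orderOf_eq_one, one_zpow, mul_one]
        rw [this]; exact zpow_mem hmem u
      have hCx : C ≤ Subgroup.zpowers x := fun d hd => by
        obtain ⟨k, hk⟩ := hc ⟨d, hd⟩
        have hk' : (c : (S : Subgroup G)) ^ k = d := congrArg Subtype.val hk
        rw [← hk']; exact zpow_mem hcx k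
      by_cases hs : s ∈ C
      · exact hCx hs
      · have h := hCx ((Subgroup.mul_mem_iff_of_index_two hCi2).2 (iff_of_false hs hx))
        have h1 := mul_mem h (inv_mem (Subgroup.mem_zpowers x))
        rwa [mul_inv_cancel_right] at h1
  · -- non-commutative
    simp only [not_forall] at hab
    have hn3 : 3 ≤ n := by
      by_contra h
      obtain rfl : n = 2 := by omega
      obtain ⟨x, y, hxy⟩ := hab
      letI := IsPGroup.commGroupOfCardEqPrimeSq (p := 2) hn
      exact hxy (mul_comm x y)
    obtain ⟨a, b, ha, hba, hrel⟩ := S0646.result n hn3 hn C hCc hCi2 hab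
    set A := Subgroup.zpowers a with hA
    have hAc : IsCyclic A := inferInstance
    have hAcard : Nat.card A = 2 ^ (n - 1) := by rw [hA, Nat.card_zpowers, ha]
    have hAi : A.index = 2 := by
      have h := Subgroup.card_mul_index A
      rw [hAcard, hn, show 2 ^ n = 2 ^ (n - 1) * 2 by rw [← pow_succ]; congr 1; omega] at h
      exact Nat.eq_of_mul_eq_mul_left (pow_pos two_pos _) h
    have hbo : b ^ 2 = 1 → orderOf b = 2 := fun h => orderOf_eq_prime h fun h1 => hba (by rw [h1]; exact one_mem _)
    rcases hrel with ⟨h1, h2r⟩ | ⟨h1, h2r⟩ | ⟨h4, h1, h2r⟩ | ⟨h4, h1, h2r⟩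
    · refine dihedral _ ?_ (Classical.Dickson.dihedral_of hAc hba (by rw [← pow_two, h1]) (fun d hd => ?_)
        (by rw [hn, hAcard, ← pow_succ']; congr 1; omega))
      · rw [hAcard]; exact (pow_one 2).symm.le.trans (Nat.pow_le_pow_right two_pos (by omega))
      · obtain ⟨k, rfl⟩ := hd
        show b * a ^ k * b⁻¹ = (a ^ k)⁻¹
        rw [← conj_zpow, h2r, inv_zpow]
    · exfalso
      have ht : orderOf ((a : G) ^ 2 ^ (n - 2)) = 2 := by
        rw [orderOf_pow, Subgroup.orderOf_coe, ha, Nat.gcd_eq_right (pow_dvd_pow 2 (by omega)),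
          Nat.pow_div (by omega) two_pos, show n - 1 - (n - 2) = 1 by omega, pow_one]
      refine not_unique_invol hna S (pow_mem a.2 _) ht fun s hs hso => ?_
      set s' : (S : Subgroup G) := ⟨s, hs⟩
      have hs'o : orderOf s' = 2 := by rw [Subgroup.orderOf_mk, hso]
      have hs2 : s' * s' = 1 := Fusion.invol_mul_self hs'o
      by_cases hsA : s' ∈ A
      · haveI := hAc
        have hat : orderOf (a ^ 2 ^ (n - 2)) = 2 := by
          rw [← Subgroup.orderOf_coe, Subgroup.coe_pow]; exact ht
        obtain ⟨k, hk⟩ := mem_zpowers_of_cyclic Nat.prime_two (pow_mem (Subgroup.mem_zpowers a) _) hsA hat hs'o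
        have hk' : (a ^ 2 ^ (n - 2)) ^ k = s' := hk
        clear hk
        rename' hk' => hk
        rcases Int.even_or_odd' k with ⟨l, rfl | rfl⟩
        · exfalso
          rw [show (a ^ 2 ^ (n - 2)) ^ (2 * l) = ((a ^ 2 ^ (n - 2)) ^ (2 : ℕ)) ^ l by
            rw [← zpow_natCast (a ^ 2 ^ (n - 2)) 2, ← zpow_mul]; rfl,
            orderOf_dvd_iff_pow_eq_one.1 hat.dvd, one_zpow] at hk
          rw [← hk, orderOf_one] at hs'o
          omega
        · rw [zpow_add, zpow_one, show (a ^ 2 ^ (n - 2)) ^ (2 * l) = ((a ^ 2 ^ (n - 2)) ^ (2 : ℕ)) ^ l by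
            rw [← zpow_natCast (a ^ 2 ^ (n - 2)) 2, ← zpow_mul]; rfl,
            orderOf_dvd_iff_pow_eq_one.1 hat.dvd, one_zpow, one_mul] at hk
          exact (congrArg Subtype.val hk).symm
      · exfalso
        obtain ⟨k, hk⟩ := (Subgroup.mul_mem_iff_of_index_two hAi).2 (iff_of_false hsA hba)
        have hk' : a ^ k = s' * b := hk
        have hs' : s' = a ^ k * b⁻¹ := by rw [hk', mul_inv_cancel_right]
        have hba' : b * a ^ k * b⁻¹ = (a ^ k)⁻¹ := by rw [← conj_zpow, h2r, inv_zpow]
        have hb2 : b * b = 1 := by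
          have h3 : b⁻¹ * a ^ k = (a ^ k)⁻¹ * b⁻¹ := by
            calc b⁻¹ * a ^ k = b⁻¹ * ((a ^ k)⁻¹)⁻¹ := by rw [inv_inv]
              _ = b⁻¹ * (b * a ^ k * b⁻¹)⁻¹ := by rw [hba']
              _ = _ := by group
          rw [hs'] at hs2
          have h4 : a ^ k * b⁻¹ * (a ^ k * b⁻¹) = b⁻¹ * b⁻¹ := by
            calc a ^ k * b⁻¹ * (a ^ k * b⁻¹) = a ^ k * (b⁻¹ * a ^ k) * b⁻¹ := by group
              _ = _ := by rw [h3]; group
          rw [h4, ← mul_inv_rev, inv_eq_one] at hs2
          exact hs2
        rw [pow_two, hb2] at h1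
        have hat : orderOf (a ^ 2 ^ (n - 2)) = 2 := by
          rw [← Subgroup.orderOf_coe, Subgroup.coe_pow]; exact ht
        rw [← h1, orderOf_one] at hat
        omega
    · exfalso
      obtain ⟨m, rfl⟩ : ∃ m, n = m + 1 := ⟨n - 1, by omega⟩
      have hnp := S3178.result S m (by omega) hn (a : G) (b : G) a.2 b.2 (by rw [Subgroup.orderOf_coe, ha]; simp)
        (by rw [Subgroup.orderOf_coe]; exact hbo h1) (by
          have h := congrArg Subtype.val h2r
          rw [Subgroup.coe_mul, Subgroup.coe_mul, Subgroup.coe_pow, InvMemClass.coe_inv] at h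
          rw [h, add_comm]
          rfl)
      obtain ⟨P, N, hN, hc⟩ := hnp
      rcases hN.eq_bot_or_eq_top with h | h
      · have hmul := hc.card_mul
        rw [h, Subgroup.card_bot, one_mul] at hmul
        have hp : IsPGroup 2 G := by
          obtain ⟨k, hk⟩ := IsPGroup.iff_card.1 P.isPGroup'
          exact IsPGroup.of_card (hmul ▸ hk)
        haveI := hp.isNilpotent
        exact hns inferInstance
      · have hmul := hc.card_mul
        rw [h, Subgroup.card_top] at hmul
        have hcard : Nat.card (P : Subgroup G) = 2 ^ (m + 1) := (Nat.card_congr (P.equiv S).toEquiv).trans hn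
        rw [hcard] at hmul
        have : 2 ≤ 2 ^ (m + 1) := (Nat.pow_le_pow_right two_pos (show 1 ≤ m + 1 by omega))
        nlinarith [Nat.card_pos (α := G)]
    · exfalso
      refine no_quasidihedral hna hcyc S ⟨n - 1, by omega, by rw [hn]; congr 1; omega, a, b, ha, hbo h1, ?_⟩
      rw [h2r, show n - 1 - 1 = n - 2 by omega]
where
  simple_commutator {X : Type u} [Group X] [IsSimpleGroup X] (hX : ¬ IsMulCommutative X) : commutator X = ⊤ :=
    (inferInstance : (commutator X).Normal).eq_bot_or_eq_top.resolve_left fun h => hX ⟨⟨fun a b => by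
      have := (commutator_eq_bot_iff_center_eq_top (G := X)).1 h
      exact Subgroup.mem_center_iff.1 (this ▸ Subgroup.mem_top b) a⟩⟩

end Cfsg.Agent.Solv.AlmostCyclic
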