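import Mathlib
import Cfsg.Agent.Lib.Solv.AlmostCyclic.Shapes
import Cfsg.Agent.Lib.Solv.Cores
import Cfsg.Agent.Lib.Solv.Subnormal
import Cfsg.Agent.S0219
import Cfsg.Agent.Lib.Small.SchurSLFinal
import Cfsg.Agent.S0810

/-!
# Perfect groups with cyclic odd Sylow subgroups and a large cyclic 2-subgroup
-/

set_option autoImplicit false
set_option linter.style.haveILetI false
set_option linter.unusedSectionVars false

open Cfsg Cfsg.Agent Cfsg.Agent.Small.PSL2
open scoped commutatorElement

namespace Cfsg.Agent.Solv.AlmostCyclic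

universe u

variable {G : Type u} [Group G] [Finite G]

theorem OddCyclic.subgroup (h : OddCyclic G) (H : Subgroup G) : OddCyclic H := by
  intro r hr h2 P
  haveI : Fact r.Prime := ⟨hr⟩
  haveI := h.pgroup h2 (P.isPGroup'.map H.subtype)
  exact isCyclic_of_surjective ((P : Subgroup H).equivMapOfInjective H.subtype H.subtype_injective).symm
    (MulEquiv.surjective _)

theorem OddCyclic.quotient (h : OddCyclic G) {H : Type*} [Group H] [Finite H] (f : G →* H)
    (hf : Function.Surjective f) : OddCyclic H := by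
  intro r hr h2 P
  haveI : Fact r.Prime := ⟨hr⟩
  obtain ⟨R⟩ : Nonempty (Sylow r G) := inferInstance
  haveI := h r hr h2 R
  haveI : IsCyclic (R.mapSurjective hf : Subgroup H) := by
    rw [Sylow.coe_mapSurjective]
    exact isCyclic_of_surjective (f.subgroupMap _) (MonoidHom.subgroupMap_surjective _ _)
  exact isCyclic_of_surjective ((R.mapSurjective hf).equiv P) (MulEquiv.surjective _)

/-- The large cyclic subgroup, read in `G`. -/
theorem CyclicTwo.exists_cyclic (h : CyclicTwo G) {Q : Subgroup G} (hQ : IsPGroup 2 Q) :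
    ∃ C : Subgroup Q, IsCyclic C ∧ C.index ∣ 2 := by
  haveI : Fact (Nat.Prime 2) := ⟨Nat.prime_two⟩
  obtain ⟨S, hS⟩ := hQ.exists_le_sylow
  obtain ⟨C, hC, hCi⟩ := h S
  haveI : C.Normal := by
    rcases (Nat.dvd_prime Nat.prime_two).1 hCi with h | h
    · rw [Subgroup.index_eq_one] at h; subst h; infer_instance
    · exact Subgroup.normal_of_index_eq_two h
  refine ⟨C.comap (Subgroup.inclusion hS), ?_, ?_⟩
  · haveI := hC
    exact isCyclic_of_injective (MonoidHom.subgroupComap (Subgroup.inclusion hS) C)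
      fun a b hab => Subtype.ext (Subgroup.inclusion_injective hS (congrArg Subtype.val hab))
  · rw [Subgroup.index_comap]
    exact (Subgroup.relIndex_dvd_index_of_normal C _).trans hCi

theorem CyclicTwo.subgroup (h : CyclicTwo G) (H : Subgroup G) : CyclicTwo H := by
  intro S
  haveI : Fact (Nat.Prime 2) := ⟨Nat.prime_two⟩
  obtain ⟨C, hC, hCi⟩ := h.exists_cyclic (S.isPGroup'.map H.subtype)
  let e := (S : Subgroup H).equivMapOfInjective H.subtype H.subtype_injective
  refine ⟨C.comap e.toMonoidHom, ?_, ?_⟩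
  · haveI := hC
    exact isCyclic_of_injective (MonoidHom.subgroupComap e.toMonoidHom C)
      fun a b hab => Subtype.ext (e.injective (congrArg Subtype.val hab))
  · rwa [Subgroup.index_comap_of_surjective C e.surjective]

theorem CyclicTwo.quotient (h : CyclicTwo G) {H : Type*} [Group H] [Finite H] (f : G →* H)
    (hf : Function.Surjective f) : CyclicTwo H := by
  intro P
  haveI : Fact (Nat.Prime 2) := ⟨Nat.prime_two⟩
  obtain ⟨S⟩ : Nonempty (Sylow 2 G) := inferInstance
  obtain ⟨C, hC, hCi⟩ := h S
  let g : (S : Subgroup G) →* (P : Subgroup H) :=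
    ((S.mapSurjective hf).equiv P).toMonoidHom.comp
      ((MulEquiv.subgroupCongr (S.coe_mapSurjective hf).symm).toMonoidHom.comp (f.subgroupMap (S : Subgroup G)))
  have hg : Function.Surjective g := by
    intro y
    obtain ⟨t, rfl⟩ := ((S.mapSurjective hf).equiv P).surjective y
    obtain ⟨u, rfl⟩ := (MulEquiv.subgroupCongr (S.coe_mapSurjective hf).symm).surjective t
    obtain ⟨v, rfl⟩ := MonoidHom.subgroupMap_surjective f (S : Subgroup G) u
    exact ⟨v, rfl⟩
  refine ⟨C.map g, ?_, (Subgroup.index_map_dvd C hg).trans hCi⟩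
  haveI := hC
  exact isCyclic_of_surjective (g.subgroupMap C) (MonoidHom.subgroupMap_surjective _ _)

/-- A central `p`-element of a perfect group with commutative Sylow subgroup is trivial. -/
theorem central_eq_one {K : Type u} [Group K] [Finite K] (hK : commutator K = ⊤) {r : ℕ} [Fact r.Prime]
    (P : Sylow r K) [IsMulCommutative (P : Subgroup K)] {z : K} (hz : z ∈ Subgroup.center K)
    (hzP : z ∈ (P : Subgroup K)) : z = 1 := by
  classical
  letI : CommGroup (P : Subgroup K) := { (inferInstance : Group (P : Subgroup K)) with mul_comm := mul_comm' }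
  have hcz := Subgroup.mem_center_iff.1 hz
  have key : ∀ (k : ℕ) (g₀ : K), g₀⁻¹ * z ^ k * g₀ ∈ (P : Subgroup K) → g₀⁻¹ * z ^ k * g₀ = z ^ k :=
    fun k g₀ _ => by
      rw [mul_assoc, ← ((show Commute g₀ z from hcz g₀).pow_right k).eq, inv_mul_cancel_left]
  set V : K →* (P : Subgroup K) := MonoidHom.transfer (MonoidHom.id _) with hV
  have h1 : V z = 1 := by
    have hle : commutator K ≤ V.ker := Abelianization.commutator_subset_ker V
    exact MonoidHom.mem_ker.1 (hle (hK ▸ Subgroup.mem_top z))
  rw [hV, MonoidHom.transfer_eq_pow (MonoidHom.id _) z key, MonoidHom.id_apply] at h1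
  have h2 : z ^ (P : Subgroup K).index = 1 := congrArg Subtype.val h1
  have h3 : orderOf z ∣ Nat.gcd (P : Subgroup K).index (Nat.card (P : Subgroup K)) :=
    Nat.dvd_gcd (orderOf_dvd_of_pow_eq_one h2) (Subgroup.orderOf_dvd_natCard _ hzP)
  obtain ⟨k, hk⟩ := IsPGroup.iff_card.1 P.isPGroup'
  rw [hk, (((Nat.Prime.coprime_iff_not_dvd Fact.out).2 P.not_dvd_index).symm.pow_right k).gcd_eq_one] at h3
  exact orderOf_eq_one_iff.1 (Nat.dvd_one.1 h3)

theorem card_psl_three {p : ℕ} [Fact p.Prime] (hp : 5 ≤ p) :
    3 ∣ Nat.card (Matrix.ProjectiveSpecialLinearGroup (Fin 2) (ZMod p)) ∧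
      2 ∣ Nat.card (Matrix.ProjectiveSpecialLinearGroup (Fin 2) (ZMod p)) := by
  have hp' : p.Prime := Fact.out
  have h := Classical.Dickson.card_psl (ZMod p)
  obtain ⟨j, hj⟩ := hp'.odd_of_ne_two (by omega)
  rw [ZMod.card, Nat.gcd_eq_left (show 2 ∣ p - 1 by omega)] at h
  have hsq : p ^ 2 - 1 = 4 * (j * (j + 1)) := by rw [hj]; apply Nat.sub_eq_of_eq_add; ring
  rw [hsq] at h
  obtain ⟨e, he⟩ : 2 ∣ j * (j + 1) := (Nat.even_mul_succ_self j).two_dvd
  refine ⟨(Nat.Coprime.dvd_of_dvd_mul_right (show Nat.Coprime 3 2 by norm_num)) (h ▸ ?_), ⟨p * (2 * e), ?_⟩⟩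
  · have h3 : p % 3 ≠ 0 := fun h0 => by
      rcases (Nat.prime_dvd_prime_iff_eq Nat.prime_three hp').1 (Nat.dvd_of_mod_eq_zero h0) with rfl
      omega
    have : (j * (j + 1)) % 3 = 0 := by
      have : j % 3 ≠ 1 := fun h1 => h3 (by omega)
      rcases (show j % 3 = 0 ∨ j % 3 = 2 by omega) with h1 | h1
      · simp [Nat.mul_mod, h1]
      · simp [Nat.mul_mod, Nat.add_mod, h1]
    exact dvd_mul_of_dvd_right (dvd_mul_of_dvd_right (Nat.dvd_of_mod_eq_zero this) 4) p
  · rw [he] at h
    linarith

theorem exists_perfect_sub (hns : ¬ Group.IsSolvable G) :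
    ∃ L : Subgroup G, L.Normal ∧ L ≠ ⊥ ∧ commutator L = ⊤ ∧ ∃ n, L = derivedSeries G n := by
  obtain ⟨n, hn⟩ : ∃ n, derivedSeries G (n + 1) = derivedSeries G n := by
    by_contra hcon
    simp only [not_exists] at hcon
    have hlt : ∀ n, Nat.card (derivedSeries G n) + n ≤ Nat.card G := by
      intro n
      induction n with
      | zero => simp [Subgroup.card_top]
      | succ n ih =>
        have hle : derivedSeries G (n + 1) ≤ derivedSeries G n := derivedSeries_antitone G (Nat.le_succ n)
        have h := Subgroup.card_le_of_le hle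
        have : Nat.card (derivedSeries G (n + 1)) ≠ Nat.card (derivedSeries G n) := fun e =>
          hcon n (Subgroup.eq_of_le_of_card_ge hle e.ge)
        omega
    have h0 := hlt (Nat.card G + 1)
    have := Nat.card_pos (α := derivedSeries G (Nat.card G + 1))
    omega
  refine ⟨derivedSeries G n, derivedSeries_normal G n, fun h => hns ((Group.isSolvable_def G).2 ⟨n, h⟩), ?_, n, rfl⟩
  apply Subgroup.map_injective (derivedSeries G n).subtype_injective
  rw [commutator_def, Subgroup.map_commutator, ← MonoidHom.range_eq_map, Subgroup.range_subtype]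
  exact (derivedSeries_succ G n).symm.trans hn

theorem exists_simple_quotient [Nontrivial G] :
    ∃ M : Subgroup G, ∃ _ : M.Normal, IsSimpleGroup (G ⧸ M) := by
  classical
  haveI := Fintype.ofFinite (Subgroup G)
  obtain ⟨M, hM, hmax⟩ := Finset.exists_max_image (Finset.univ.filter fun N : Subgroup G => N.Normal ∧ N ≠ ⊤)
    (fun N => Nat.card N) ⟨⊥, Finset.mem_filter.2 ⟨Finset.mem_univ _, inferInstance, bot_ne_top⟩⟩
  obtain ⟨-, hMn, hMt⟩ := Finset.mem_filter.1 hM
  refine ⟨M, hMn, ?_⟩
  haveI : Nontrivial (G ⧸ M) := QuotientGroup.nontrivial_iff.2 hMt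
  refine ⟨fun K hK => ?_⟩
  set N := K.comap (QuotientGroup.mk' M) with hN
  have hMN : M ≤ N := fun x hx => by
    show (x : G ⧸ M) ∈ K
    rw [(QuotientGroup.eq_one_iff x).2 hx]
    exact one_mem K
  by_cases hNt : N = ⊤
  · right
    rw [← Subgroup.map_comap_eq_self_of_surjective (QuotientGroup.mk'_surjective M) K, ← hN, hNt,
      Subgroup.map_top_of_surjective _ (QuotientGroup.mk'_surjective M)]
  · left
    have h := hmax N (Finset.mem_filter.2 ⟨Finset.mem_univ _, hK.comap _, hNt⟩)
    have hNM : N = M := (Subgroup.eq_of_le_of_card_ge hMN h).symm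
    rw [← Subgroup.map_comap_eq_self_of_surjective (QuotientGroup.mk'_surjective M) K, ← hN, hNM,
      QuotientGroup.map_mk'_self]

theorem nonsolvable_three (hcyc : OddCyclic G) (h2 : CyclicTwo G) (hns : ¬ Group.IsSolvable G) :
    3 ∣ Nat.card G := by
  obtain ⟨L, -, hL0, hL, -⟩ := exists_perfect_sub hns
  haveI : Nontrivial L := (Subgroup.nontrivial_iff_ne_bot L).2 hL0
  obtain ⟨M, hM, hs⟩ := exists_simple_quotient (G := L)
  have hna : ¬ IsMulCommutative (L ⧸ M) := fun h => by
    have hle : commutator L ≤ M := by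
      rw [commutator_def, Subgroup.commutator_le]
      intro a _ b _
      rw [← QuotientGroup.eq_one_iff, ← QuotientGroup.mk'_apply M, map_commutatorElement,
        commutatorElement_eq_one_iff_commute]
      exact h.is_comm.comm _ _
    rw [hL, top_le_iff] at hle
    obtain ⟨x, y, hxy⟩ := exists_pair_ne (L ⧸ M)
    haveI := QuotientGroup.subsingleton_iff.2 hle
    exact hxy (Subsingleton.elim _ _)
  obtain ⟨p, _, hp, ⟨e⟩⟩ := simple_shape hna ((hcyc.subgroup L).quotient _ (QuotientGroup.mk'_surjective M))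
    ((h2.subgroup L).quotient _ (QuotientGroup.mk'_surjective M))
  refine ((card_psl_three hp).1.trans (dvd_of_eq (Nat.card_congr e.toEquiv).symm)).trans
    ((Subgroup.card_quotient_dvd_card M).trans (Subgroup.card_subgroup_dvd_card L))

theorem IsCyclic.mulAut_comm {P : Type*} [Group P] [Finite P] [IsCyclic P] (a b : MulAut P) : a * b = b * a := by
  obtain ⟨g, hg⟩ := IsCyclic.exists_generator (α := P)
  obtain ⟨i, hi⟩ := hg (a g)
  obtain ⟨j, hj⟩ := hg (b g)
  have hi' : g ^ i = a g := hi
  have hj' : g ^ j = b g := hj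
  refine MulEquiv.ext fun x => ?_
  obtain ⟨k, rfl⟩ := hg x
  show a (b (g ^ k)) = b (a (g ^ k))
  simp only [map_zpow, ← hi', ← hj', ← zpow_mul]
  congr 1
  ring

/-- A cyclic normal subgroup of a perfect group is central. -/
theorem cyclic_central {K : Type u} [Group K] [Finite K] (hK : commutator K = ⊤) (P : Subgroup K) [P.Normal]
    [IsCyclic P] : P ≤ Subgroup.center K := by
  have hle : commutator K ≤ (MulAut.conjNormal : K →* MulAut P).ker := by
    rw [commutator_def, Subgroup.commutator_le]
    intro a _ b _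
    rw [MonoidHom.mem_ker, map_commutatorElement, commutatorElement_eq_one_iff_commute]
    exact IsCyclic.mulAut_comm _ _
  intro x hx
  refine Subgroup.mem_center_iff.2 fun g => ?_
  have h := congrArg Subtype.val (DFunLike.congr_fun (MonoidHom.mem_ker.1 (hle (hK ▸ Subgroup.mem_top g))) ⟨x, hx⟩)
  exact mul_inv_eq_iff_eq_mul.1 (show g * x * g⁻¹ = x from h)

/-- A perfect group is `PSL₂(p)` or `SL₂(p)`. -/
theorem perfect_shape [Nontrivial G] (hG : commutator G = ⊤) (hcyc : OddCyclic G) (h2 : CyclicTwo G) :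
    ∃ (p : ℕ) (_ : Fact p.Prime), 5 ≤ p ∧ ∃ f : Matrix.SpecialLinearGroup (Fin 2) (ZMod p) →* G,
      Function.Surjective f ∧ f.ker ≤ Subgroup.center _ := by
  classical
  haveI : Fact (Nat.Prime 2) := ⟨Nat.prime_two⟩
  haveI : Fact (Nat.Prime 3) := ⟨Nat.prime_three⟩
  obtain ⟨M, hMn, hs⟩ := exists_simple_quotient (G := G)
  set q := QuotientGroup.mk' M with hq
  have hqs : Function.Surjective q := QuotientGroup.mk'_surjective M
  have hQp : commutator (G ⧸ M) = ⊤ := by
    rw [commutator_def, ← Subgroup.map_top_of_surjective q hqs, ← Subgroup.map_commutator, ← commutator_def, hG]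
  have hna : ¬ IsMulCommutative (G ⧸ M) := fun h => by
    have : commutator (G ⧸ M) = ⊥ := by
      rw [commutator_def, Subgroup.commutator_eq_bot_iff_le_centralizer]
      exact fun a _ => Subgroup.mem_centralizer_iff.2 fun b _ => h.is_comm.comm b a
    exact bot_ne_top (this.symm.trans hQp)
  obtain ⟨p, _, hp, ⟨e⟩⟩ := simple_shape hna (hcyc.quotient q hqs) (h2.quotient q hqs)
  have h3q : 3 ∣ Nat.card (G ⧸ M) := (card_psl_three hp).1.trans (dvd_of_eq (Nat.card_congr e.toEquiv).symm)
  -- `M` is a soluble group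
  have hM3 : ¬ 3 ∣ Nat.card M := by
    intro h3
    obtain ⟨Q⟩ : Nonempty (Sylow 3 M) := inferInstance
    set R := (Q : Subgroup M).map M.subtype with hR
    set N := Subgroup.normalizer (R : Set G) with hN
    haveI : IsCyclic R := hcyc.pgroup (by norm_num) (Q.isPGroup'.map _)
    have hfr : N ⊔ M = ⊤ := Sylow.normalizer_sup_eq_top Q
    have hNq : N.map q = ⊤ := by
      have h := congrArg (Subgroup.map q) hfr
      rwa [Subgroup.map_sup, QuotientGroup.map_mk'_self, sup_bot_eq,
        Subgroup.map_top_of_surjective q hqs] at h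
    have hcent : ⁅N, N⁆ ≤ Subgroup.centralizer (R : Set G) := by
      rw [Subgroup.commutator_le]
      intro a ha b hb
      haveI : (R.subgroupOf N).Normal := Subgroup.normal_in_normalizer
      haveI : IsCyclic (R.subgroupOf N) :=
        isCyclic_of_surjective (Subgroup.subgroupOfEquivOfLe Subgroup.le_normalizer).symm (MulEquiv.surjective _)
      let φ : N →* MulAut (R.subgroupOf N) := MulAut.conjNormal
      have h : φ ⁅(⟨a, ha⟩ : N), (⟨b, hb⟩ : N)⁆ = 1 := by
        rw [map_commutatorElement, commutatorElement_eq_one_iff_commute]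
        exact IsCyclic.mulAut_comm _ _
      refine Subgroup.mem_centralizer_iff.2 fun x hx => ?_
      have h' := congrArg (fun t : R.subgroupOf N => ((t : N) : G))
        (DFunLike.congr_fun h ⟨⟨x, Subgroup.le_normalizer hx⟩, hx⟩)
      exact (mul_inv_eq_iff_eq_mul.1 (show ⁅a, b⁆ * x * ⁅a, b⁆⁻¹ = x from h')).symm
    set H : Subgroup G := ⁅N, N⁆ with hH
    have hHq : H.map q = ⊤ := by rw [hH, Subgroup.map_commutator, hNq, ← commutator_def, hQp]
    have hHns : ¬ Group.IsSolvable H := fun h => by
      haveI := h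
      haveI : Group.IsSolvable (G ⧸ M) := Group.isSolvable_of_surjective (f := q.comp H.subtype) fun y => by
        obtain ⟨x, hx, hxy⟩ := (hHq ▸ Subgroup.mem_top y : y ∈ H.map q)
        exact ⟨⟨x, hx⟩, hxy⟩
      exact hna ⟨⟨fun a b => IsSimpleGroup.comm_iff_isSolvable.mpr inferInstance a b⟩⟩
    obtain ⟨K, -, -, hK, n, rfl⟩ := exists_perfect_sub hHns
    have hKq : ∀ m, ((derivedSeries H m).map H.subtype).map q = ⊤ := by
      intro m
      induction m with
      | zero => rw [derivedSeries_zero, ← MonoidHom.range_eq_map, Subgroup.range_subtype, hHq]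
      | succ m ih => rw [derivedSeries_succ, Subgroup.map_commutator, Subgroup.map_commutator, ih, ← commutator_def, hQp]
    set K' := (derivedSeries H n).map H.subtype with hK'
    let eK := (derivedSeries H n).equivMapOfInjective H.subtype H.subtype_injective
    have hK'p : commutator K' = ⊤ := by
      rw [commutator_def, ← Subgroup.map_top_of_surjective eK.toMonoidHom eK.surjective, ← Subgroup.map_commutator,
        ← commutator_def, hK]
    have h3K : 3 ∣ Nat.card K' := by
      refine h3q.trans ?_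
      rw [← Subgroup.card_top (G := G ⧸ M), ← hKq n]
      exact Subgroup.card_map_dvd K' q
    obtain ⟨y, hy⟩ := exists_prime_orderOf_dvd_card' (G := K') 3 h3K
    obtain ⟨x, hx⟩ := exists_prime_orderOf_dvd_card' (G := R) 3 (by
      rw [hR, Subgroup.card_map_of_injective M.subtype_injective, Sylow.card_eq_multiplicity]
      exact dvd_pow_self 3 ((Nat.Prime.factorization_pos_of_dvd Nat.prime_three Nat.card_pos.ne' h3).ne'))
    have hyo : orderOf (y : G) = 3 := by rw [Subgroup.orderOf_coe, hy]
    have hxo : orderOf (x : G) = 3 := by rw [Subgroup.orderOf_coe, hx]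
    have hK'H : K' ≤ H := Subgroup.map_subtype_le _
    have hxK : ∀ k ∈ K', (x : G) * k = k * x := fun k hk => Subgroup.mem_centralizer_iff.1 (hcent (hK'H hk)) x x.2
    have hxy : Commute (x : G) y := hxK y y.2
    have hP : IsPGroup 3 (Subgroup.zpowers (x : G) ⊔ Subgroup.zpowers (y : G) : Subgroup G) := by
      refine IsPGroup.to_sup_of_normal_left' (IsPGroup.of_card (n := 1) (by rw [Nat.card_zpowers, hxo]; rfl))
        (IsPGroup.of_card (n := 1) (by rw [Nat.card_zpowers, hyo]; rfl)) ?_
      rw [Subgroup.zpowers_le, Subgroup.mem_normalizer_iff]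
      intro t
      constructor
      · rintro ⟨k, rfl⟩
        exact ⟨k, by
          show (x : G) ^ k = y * (x : G) ^ k * (y : G)⁻¹
          rw [(hxy.symm.zpow_right k).eq, mul_inv_cancel_right]⟩
      · rintro ⟨k, hk⟩
        refine ⟨k, ?_⟩
        show (x : G) ^ k = t
        have hk' : (x : G) ^ k = y * t * (y : G)⁻¹ := hk
        calc (x : G) ^ k = (y : G)⁻¹ * ((y : G) * (x : G) ^ k) := by group
          _ = (y : G)⁻¹ * ((x : G) ^ k * y) := by rw [(hxy.symm.zpow_right k).eq]
          _ = (y : G)⁻¹ * (y * t * (y : G)⁻¹ * y) := by rw [hk']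
          _ = t := by group
    haveI := hcyc.pgroup (by norm_num) hP
    have hxK' : (x : G) ∈ K' := (Subgroup.zpowers_le.2 y.2) (mem_zpowers_of_cyclic Nat.prime_three
      (Subgroup.mem_sup_right (Subgroup.mem_zpowers _)) (Subgroup.mem_sup_left (Subgroup.mem_zpowers _)) hyo hxo)
    obtain ⟨P, hP'⟩ := (IsPGroup.of_card (p := 3) (n := 1) (G := Subgroup.zpowers (⟨x, hxK'⟩ : K'))
      (by rw [Nat.card_zpowers, Subgroup.orderOf_mk, hxo]; rfl)).exists_le_sylow
    haveI : IsCyclic (P : Subgroup K') := hcyc.subgroup K' 3 Nat.prime_three (by norm_num) P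
    letI : CommGroup (P : Subgroup K') := IsCyclic.commGroup
    haveI : IsMulCommutative (P : Subgroup K') := ⟨⟨fun a b => mul_comm a b⟩⟩
    have h1 := central_eq_one hK'p P (z := ⟨x, hxK'⟩)
      (Subgroup.mem_center_iff.2 fun g => Subtype.ext (hxK g g.2).symm) (hP' (Subgroup.mem_zpowers _))
    have h1' : (x : G) = 1 := congrArg Subtype.val h1
    rw [h1', orderOf_one] at hxo
    omega
  have hMs : Group.IsSolvable M := by
    by_contra h
    exact hM3 (nonsolvable_three (hcyc.subgroup M) (h2.subgroup M) h)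
  -- a normal `r`-subgroup below `M` is central
  have hrc : ∀ r : ℕ, r.Prime → ∀ P : Subgroup G, P.Normal → P ≤ M → IsPGroup r P → P ≤ Subgroup.center G := by
    intro r hr P hPn hPM hP
    haveI : Fact r.Prime := ⟨hr⟩
    rcases eq_or_ne r 2 with rfl | hr2
    · obtain ⟨S, hS⟩ := hP.exists_le_sylow
      obtain ⟨C, hC, hCi⟩ := h2 S
      haveI := hC
      suffices hle : P.subgroupOf (S : Subgroup G) ≤ C by
        haveI : IsCyclic P := isCyclic_of_injective
          ((Subgroup.inclusion hle).comp (Subgroup.subgroupOfEquivOfLe hS).symm.toMonoidHom)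
          ((Subgroup.inclusion_injective hle).comp (MulEquiv.injective _))
        exact cyclic_central hG P
      by_contra hle
      have hCi2 : C.index = 2 := ((Nat.dvd_prime Nat.prime_two).1 hCi).resolve_left fun h => by
        rw [Subgroup.index_eq_one] at h
        exact hle (h ▸ le_top)
      obtain ⟨x, hxP, hxC⟩ := SetLike.not_le_iff_exists.1 hle
      -- the quotient would have a cyclic Sylow subgroup
      set T := S.mapSurjective hqs with hT
      haveI : IsCyclic (T : Subgroup (G ⧸ M)) := by
        refine isCyclic_of_surjective ((MulEquiv.subgroupCongr (S.coe_mapSurjective hqs).symm).toMonoidHom.comp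
          ((q.subgroupMap (S : Subgroup G)).comp C.subtype)) ?_
        intro t'
        obtain ⟨t, rfl⟩ := (MulEquiv.subgroupCongr (S.coe_mapSurjective hqs).symm).surjective t'
        obtain ⟨s, hs⟩ := MonoidHom.subgroupMap_surjective q (S : Subgroup G) t
        by_cases hsC : s ∈ C
        · exact ⟨⟨s, hsC⟩, congrArg (MulEquiv.subgroupCongr (S.coe_mapSurjective hqs).symm) hs⟩
        · refine ⟨⟨s * x, (Subgroup.mul_mem_iff_of_index_two hCi2).2 (iff_of_false hsC hxC)⟩, ?_⟩
          refine congrArg (MulEquiv.subgroupCongr (S.coe_mapSurjective hqs).symm) ?_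
          rw [← hs]
          apply Subtype.ext
          show q ((s : G) * (x : G)) = q (s : G)
          rw [map_mul, show q (x : G) = 1 from (QuotientGroup.eq_one_iff _).2 (hPM hxP), mul_one]
      obtain ⟨H, hH⟩ := S0219.result (G := G ⧸ M)
        (even_iff_two_dvd.2 ((card_psl_three hp).2.trans (dvd_of_eq (Nat.card_congr e.toEquiv).symm))) T inferInstance
      exact Fusion.no_index_two_of_simple hna H hH
    · haveI := hcyc.pgroup hr2 hP
      exact cyclic_central hG P
  -- `M` is central
  have hMc : M ≤ Subgroup.center G := by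
    haveI : (Cfsg.fittingSubgroup M).Characteristic := Solv.fitting_characteristic
    set Fm := Cfsg.fittingSubgroup M with hFm
    haveI hFn : (Fm.map M.subtype).Normal := ConjAct.normal_of_characteristic_of_normal
    haveI : Group.IsNilpotent Fm := Solv.fittingSubgroup_nilpotent
    haveI : Group.IsNilpotent (Fm.map M.subtype) :=
      Group.nilpotent_of_surjective (M.subtype.subgroupMap Fm) (MonoidHom.subgroupMap_surjective _ _)
    set Fg := Fm.map M.subtype with hFg
    have hFc : Fg ≤ Subgroup.center G := by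
      set Z := (Subgroup.center G).subgroupOf Fg with hZ
      have htop : Z = ⊤ := by
        refine Subgroup.index_eq_one.1 ?_
        by_contra hne
        obtain ⟨r, hr, hrd⟩ := Nat.exists_prime_and_dvd hne
        haveI : Fact r.Prime := ⟨hr⟩
        obtain ⟨P⟩ : Nonempty (Sylow r Fg) := inferInstance
        haveI : (P : Subgroup Fg).Normal :=
          P.normal_of_normalizerCondition Group.normalizerCondition_of_isNilpotent
        haveI := P.characteristic_of_normal inferInstance
        haveI : ((P : Subgroup Fg).map Fg.subtype).Normal := ConjAct.normal_of_characteristic_of_normal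
        have hPc := hrc r hr ((P : Subgroup Fg).map Fg.subtype) inferInstance
          ((Subgroup.map_subtype_le _).trans (Subgroup.map_subtype_le _)) (P.isPGroup'.map _)
        have hle : (P : Subgroup Fg) ≤ Z := fun x hx => hPc ⟨x, hx, rfl⟩
        exact P.not_dvd_index (hrd.trans (Subgroup.index_dvd_of_le hle))
      intro x hx
      have h : (⟨x, hx⟩ : Fg) ∈ Z := htop ▸ Subgroup.mem_top _
      exact h
    intro x hx
    have hmem : (⟨x, hx⟩ : M) ∈ Fm := Solv.centralizer_fitting_le hMs (Subgroup.mem_centralizer_iff.2 fun y hy =>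
      Subtype.ext (Subgroup.mem_center_iff.1 (hFc ⟨y, hy, rfl⟩) x).symm)
    exact hFc ⟨_, hmem, rfl⟩
  -- lift
  let π : G →* Matrix.ProjectiveSpecialLinearGroup (Fin 2) (ZMod p) := e.toMonoidHom.comp q
  have hπs : Function.Surjective π := e.surjective.comp hqs
  let Cn : Small.SchurLifts.Central G (Matrix.ProjectiveSpecialLinearGroup (Fin 2) (ZMod p)) :=
    ⟨π, hπs, fun x hx => hMc (by
      have h : q x = 1 := e.injective (by rw [map_one]; exact hx)
      exact (QuotientGroup.eq_one_iff x).1 h)⟩
  obtain ⟨θ, hθ⟩ := Small.SchurSLFinal.exists_hom (K := ZMod p) 2 (Or.inl ⟨rfl, by rw [ZMod.card]; omega, by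
    rw [ZMod.card]; rintro rfl; exact absurd (Fact.out : Nat.Prime 9) (by norm_num)⟩) Cn (pr (F := ZMod p))
  refine ⟨p, inferInstance, hp, θ, fun g => ?_, fun a ha => ?_⟩
  · have h := Small.SchurSLFinal.commutator_le_range Cn (pr (F := ZMod p)) pr_surjective θ hθ
    rw [hG] at h
    exact h (Subgroup.mem_top g)
  · have h := DFunLike.congr_fun hθ a
    rw [MonoidHom.comp_apply, MonoidHom.mem_ker.1 ha, map_one] at h
    exact (QuotientGroup.eq_one_iff a).1 h.symm

end Cfsg.Agent.Solv.AlmostCyclic
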