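import Mathlib
import Cfsg.Agent.Lib.Solv.AlmostCyclic.Perfect

/-!
# The centraliser of the perfect residual and the outer part
-/

set_option autoImplicit false
set_option linter.style.haveILetI false
set_option linter.unusedSectionVars false

open Cfsg Cfsg.Agent Cfsg.Agent.Small.PSL2
open scoped commutatorElement

namespace Cfsg.Agent.Solv.AlmostCyclic

universe u

variable {p : ℕ} [Fact p.Prime]

local notation "SL" => Matrix.SpecialLinearGroup (Fin 2) (ZMod p)

theorem sl_perfect (hp : 5 ≤ p) : commutator SL = ⊤ :=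
  (LocalEven.SubnBlock.sl2_quasisimple (F := ZMod p) (by rw [ZMod.card]; omega)).1

/-- An automorphism is inner or comes from a matrix of nonsquare determinant. -/
theorem aut_cases (hp : 5 ≤ p) {L : Type*} [Group L] (f : SL →* L) (hf : Function.Surjective f)
    (hker : f.ker ≤ Subgroup.center SL) (α : MulAut L) :
    (∃ l, ∀ y, α y = l * y * l⁻¹) ∨
      ∃ g : GL (Fin 2) (ZMod p), ¬ IsSquare g.val.det ∧ ∃ θ : MulAut SL, (∀ A, (θ A).1 * g.val = g.val * A.1) ∧
        ∀ A, f (θ A) = α (f A) := by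
  classical
  let Cn : Small.SchurLifts.Central SL L := ⟨f, hf, hker⟩
  obtain ⟨θ, hθ⟩ := Small.SchurSLFinal.exists_hom (K := ZMod p) 2 (Or.inl ⟨rfl, by rw [ZMod.card]; omega, by
    rw [ZMod.card]; rintro rfl; exact absurd (Fact.out : Nat.Prime 9) (by norm_num)⟩) Cn (α.toMonoidHom.comp f)
  have hθ' : ∀ A, f (θ A) = α (f A) := fun A => DFunLike.congr_fun hθ A
  have hsur : Function.Surjective θ := fun A => by
    have h := Small.SchurSLFinal.commutator_le_range Cn (α.toMonoidHom.comp f) (α.surjective.comp hf) θ hθ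
    rw [sl_perfect hp] at h
    exact h (Subgroup.mem_top A)
  let β : MulAut SL := MulEquiv.ofBijective θ ((Finite.surjective_iff_bijective).1 hsur)
  obtain ⟨g, hg⟩ := exists_matrix (p := p) (ZMod.card p) (by omega) β
  by_cases hd : IsSquare g.val.det
  · obtain ⟨d, hd⟩ := hd
    have hd0 : d ≠ 0 := fun h => by
      refine ((Matrix.isUnit_iff_isUnit_det _).1 g.isUnit).ne_zero ?_
      rw [hd, h, mul_zero]
    let A₀ : SL := ⟨d⁻¹ • g.val, by
      rw [Matrix.det_smul, Fintype.card_fin, hd]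
      field_simp⟩
    refine Or.inl ⟨f A₀, fun y => ?_⟩
    obtain ⟨A, rfl⟩ := hf y
    rw [← hθ', ← map_inv, ← map_mul, ← map_mul, eq_comm]
    refine congrArg f (mul_inv_eq_iff_eq_mul.2 (Subtype.ext ?_))
    show d⁻¹ • g.val * A.1 = (β A).1 * (d⁻¹ • g.val)
    rw [Matrix.smul_mul, Matrix.mul_smul, hg A]
  · exact Or.inr ⟨g, hd, β, hg, hθ'⟩

/-- The product of two outer automorphisms is inner. -/
theorem outer_mul (hp : 5 ≤ p) {L : Type*} [Group L] (f : SL →* L) (hf : Function.Surjective f)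
    (hker : f.ker ≤ Subgroup.center SL) {α β : MulAut L} (ha : ¬ ∃ l, ∀ y, α y = l * y * l⁻¹)
    (hb : ¬ ∃ l, ∀ y, β y = l * y * l⁻¹) : ∃ l, ∀ y, α (β y) = l * y * l⁻¹ := by
  obtain ⟨g, hg0, θ, hθ, hf1⟩ := (aut_cases hp f hf hker α).resolve_left ha
  obtain ⟨h, hh0, φ, hφ, hf2⟩ := (aut_cases hp f hf hker β).resolve_left hb
  obtain ⟨d, hd⟩ : IsSquare (g.val.det * h.val.det) := by
    have hne : ringChar (ZMod p) ≠ 2 := by rw [ZMod.ringChar_zmod_n]; omega
    have h1 := ((Matrix.isUnit_iff_isUnit_det _).1 g.isUnit).ne_zero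
    have h2 := ((Matrix.isUnit_iff_isUnit_det _).1 h.isUnit).ne_zero
    rw [FiniteField.isSquare_iff hne h1] at hg0
    rw [FiniteField.isSquare_iff hne h2] at hh0
    rw [FiniteField.isSquare_iff hne (mul_ne_zero h1 h2), mul_pow,
      (FiniteField.pow_dichotomy hne h1).resolve_left hg0, (FiniteField.pow_dichotomy hne h2).resolve_left hh0,
      neg_one_mul, neg_neg]
  have hd0 : d ≠ 0 := fun e => by
    rw [e, mul_zero, mul_eq_zero] at hd
    exact hd.elim ((Matrix.isUnit_iff_isUnit_det _).1 g.isUnit).ne_zero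
      ((Matrix.isUnit_iff_isUnit_det _).1 h.isUnit).ne_zero
  let A₀ : SL := ⟨d⁻¹ • (g.val * h.val), by
    rw [Matrix.det_smul, Matrix.det_mul, Fintype.card_fin, hd]
    field_simp⟩
  refine ⟨f A₀, fun y => ?_⟩
  obtain ⟨A, rfl⟩ := hf y
  rw [← hf2, ← hf1, ← map_inv, ← map_mul, ← map_mul, eq_comm]
  refine congrArg f (mul_inv_eq_iff_eq_mul.2 (Subtype.ext ?_))
  show d⁻¹ • (g.val * h.val) * A.1 = (θ (φ A)).1 * (d⁻¹ • (g.val * h.val))
  rw [Matrix.smul_mul, Matrix.mul_smul, ← mul_assoc, hθ, mul_assoc, mul_assoc, hφ]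

theorem center_cases {A : SL} (h : A ∈ Subgroup.center SL) : A = 1 ∨ A = -1 := by
  obtain ⟨r, hr, hA⟩ := Matrix.SpecialLinearGroup.mem_center_iff.1 h
  rw [Fintype.card_fin, sq_eq_one_iff] at hr
  rcases hr with rfl | rfl
  · refine Or.inl (Subtype.ext ?_)
    rw [← hA]; simp
  · refine Or.inr (Subtype.ext ?_)
    rw [← hA, Matrix.SpecialLinearGroup.coe_neg, Matrix.SpecialLinearGroup.coe_one]
    ext i j; fin_cases i <;> fin_cases j <;> simp

/-- A central image comes from the centre. -/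
theorem central_image (hp : 5 ≤ p) {L : Type*} [Group L] (f : SL →* L) (hker : f.ker ≤ Subgroup.center SL) {A : SL}
    (hA : ∀ B, Commute (f A) (f B)) : A ∈ Subgroup.center SL := by
  have hc : ∀ B, ⁅A, B⁆ ∈ Subgroup.center SL := fun B => hker (by
    rw [MonoidHom.mem_ker, map_commutatorElement, commutatorElement_eq_one_iff_commute]; exact hA B)
  let κ : SL →* Subgroup.center SL := MonoidHom.mk' (fun B => ⟨⁅A, B⁆, hc B⟩) fun B B' => Subtype.ext (by
    show ⁅A, B * B'⁆ = ⁅A, B⁆ * ⁅A, B'⁆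
    rw [commutatorElement_def, commutatorElement_def, commutatorElement_def]
    calc A * (B * B') * A⁻¹ * (B * B')⁻¹
        = A * B * A⁻¹ * ((A * B' * A⁻¹ * B'⁻¹) * B⁻¹) := by group
      _ = A * B * A⁻¹ * (B⁻¹ * (A * B' * A⁻¹ * B'⁻¹)) := by
          congr 1
          exact (Subgroup.mem_center_iff.1 (hc B') B⁻¹).symm
      _ = _ := by group)
  refine Subgroup.mem_center_iff.2 fun B => ?_
  have hle : commutator SL ≤ κ.ker := by
    rw [commutator_def, Subgroup.commutator_le]
    intro a _ b _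
    rw [MonoidHom.mem_ker, map_commutatorElement, commutatorElement_eq_one_iff_commute]
    exact Subtype.ext (Subgroup.mem_center_iff.1 (κ b).2 (κ a : SL))
  have h : (⁅A, B⁆ : SL) = 1 :=
    congrArg Subtype.val (MonoidHom.mem_ker.1 (hle ((sl_perfect hp).symm ▸ Subgroup.mem_top B)))
  exact (commutatorElement_eq_one_iff_commute.1 h).symm.eq

theorem sq_one_cases {A : Type*} [Group A] [Finite A] [IsCyclic A] {u v : A} (hu : u * u = 1) (hu1 : u ≠ 1)
    (hv : v * v = 1) : v = 1 ∨ v = u := by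
  classical
  haveI := Fintype.ofFinite A
  by_contra hcon
  push Not at hcon
  have h1 := IsCyclic.card_pow_eq_one_le (α := A) two_pos
  have h2 : ({1, u, v} : Finset A) ⊆ Finset.univ.filter fun a : A => a ^ 2 = 1 := by
    intro a ha
    simp only [Finset.mem_insert, Finset.mem_singleton] at ha
    rcases ha with rfl | rfl | rfl <;> simp [pow_two, hu, hv]
  have h3 := (Finset.card_le_card h2).trans h1
  rw [Finset.card_insert_of_notMem (by simp [Ne.symm hu1, Ne.symm hcon.1]),
    Finset.card_pair (Ne.symm hcon.2)] at h3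
  omega

variable {G : Type u} [Group G] [Finite G]

/-- The two-elements centralising the perfect residual lie in it. -/
theorem two_part (hp : 5 ≤ p) (h2 : CyclicTwo G) (L : Subgroup G) (f : SL →* L) (hf : Function.Surjective f)
    (hker : f.ker ≤ Subgroup.center SL) {t : G} (ht : t ∈ Subgroup.centralizer (L : Set G))
    (htwo : ∃ k, t ^ 2 ^ k = 1) : t ∈ L := by
  classical
  haveI : Fact (Nat.Prime 2) := ⟨Nat.prime_two⟩
  by_contra htL
  -- reduce to a square in `L`
  obtain ⟨k, hk⟩ := htwo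
  obtain ⟨j, hj, hj'⟩ : ∃ j, t ^ 2 ^ j ∉ L ∧ t ^ 2 ^ (j + 1) ∈ L := by
    by_contra hcon
    simp only [not_exists, not_and] at hcon
    have : ∀ i, t ^ 2 ^ i ∉ L := by
      intro i
      induction i with
      | zero => simpa using htL
      | succ i ih => exact hcon i ih
    exact this k (hk ▸ one_mem L)
  set s := t ^ 2 ^ j with hs
  have hsC : ∀ l ∈ L, Commute l s := fun l hl => Subgroup.mem_centralizer_iff.1 (pow_mem ht _) l hl
  -- two root elements
  obtain ⟨x, y, hxy⟩ := ZMod.sq_add_sq p (-1)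
  let B : SL := ⟨!![x, y; y, -x], by rw [Matrix.det_fin_two_of]; linear_combination -hxy⟩
  have hW : (wS : SL) * wS = -1 := by
    apply Subtype.ext
    ext i j; fin_cases i <;> fin_cases j <;> simp [Matrix.mul_apply, Fin.sum_univ_two]
  have hB : B * B = -1 := by
    apply Subtype.ext
    rw [Matrix.SpecialLinearGroup.coe_mul]
    ext i j
    fin_cases i <;> fin_cases j <;> simp [B, Matrix.mul_apply, Fin.sum_univ_two] <;>
      first | ring1 | linear_combination hxy
  have hWB : ((wS : SL) * B) * (wS * B) = -1 := by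
    apply Subtype.ext
    simp only [Matrix.SpecialLinearGroup.coe_mul]
    ext i j
    fin_cases i <;> fin_cases j <;> simp [B, Matrix.mul_apply, Fin.sum_univ_two] <;>
      first | ring1 | linear_combination hxy
  have hBW : B * wS * B⁻¹ = (wS : SL)⁻¹ := by
    rw [mul_inv_eq_iff_eq_mul, eq_inv_mul_iff_mul_eq]
    apply Subtype.ext
    simp only [Matrix.SpecialLinearGroup.coe_mul]
    ext i j
    fin_cases i <;> fin_cases j <;> simp [B, Matrix.mul_apply, Fin.sum_univ_two] <;> ring1
  have h21 : (2 : ZMod p) ≠ 0 := two_ne (ZMod.card p) (by omega)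
  have hnc : ∀ (A : SL), (A.1 0 1 ≠ 0 ∨ A.1 0 0 ≠ A.1 1 1) → ∀ c ∈ Subgroup.center SL, A ≠ c := by
    intro A hA c hc e
    rcases center_cases hc with rfl | rfl <;> subst e <;> simp at hA
  let a : G := (f wS : L)
  let b : G := (f B : L)
  let z : G := (f (-1) : L)
  have haL : a ∈ L := (f wS).2
  have hbL : b ∈ L := (f B).2
  have hzL : z ∈ L := (f (-1)).2
  have haa : a * a = z := by simp only [a, z, ← Subgroup.coe_mul, ← map_mul, hW]
  have hbb : b * b = z := by simp only [b, z, ← Subgroup.coe_mul, ← map_mul, hB]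
  have habab : a * b * (a * b) = z := by simp only [a, b, z, ← Subgroup.coe_mul, ← map_mul, hWB]
  have hzz : z * z = 1 := by
    simp only [z, ← Subgroup.coe_mul, ← map_mul]
    rw [show (-1 : SL) * -1 = 1 by simp, map_one, Subgroup.coe_one]
  have hzc : ∀ l ∈ L, Commute z l := fun l hl => by
    obtain ⟨A, hA⟩ := hf ⟨l, hl⟩
    have hA' : ((f A : L) : G) = l := congrArg Subtype.val hA
    rw [← hA']
    show z * ((f A : L) : G) = ((f A : L) : G) * z
    simp only [z, ← Subgroup.coe_mul, ← map_mul]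
    rw [show (-1 : SL) * A = A * -1 by simp]
  -- no two of `a`, `b`, `ab` differ by a central element
  have himg : ∀ A : SL, A ∉ Subgroup.center SL → ((f A : L) : G) ≠ 1 ∧ ((f A : L) : G) ≠ z := by
    intro A hA
    refine ⟨fun h => hA (hker (MonoidHom.mem_ker.2 (Subtype.ext h))), fun h => hA ?_⟩
    have h1 : A * (-1)⁻¹ ∈ f.ker := by
      rw [MonoidHom.mem_ker, map_mul, map_inv, Subtype.ext (h : ((f A : L) : G) = ((f (-1) : L) : G)), mul_inv_cancel]
    have h2 := mul_mem (hker h1) (show (-1 : SL) ∈ Subgroup.center SL from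
      Subgroup.mem_center_iff.2 fun B => by simp)
    rwa [inv_mul_cancel_right] at h2
  have hx0 : x ≠ 0 ∨ y ≠ 0 := by
    by_contra h
    push Not at h
    rw [h.1, h.2] at hxy
    simp at hxy
  have hna : (wS : SL) ∉ Subgroup.center SL := fun h => hnc _ (Or.inl (by simp)) _ h rfl
  have hnb : B ∉ Subgroup.center SL := fun h => hnc _ (by
    rcases hx0 with h0 | h0
    · refine Or.inr ?_
      simp [B]
      intro e
      exact h0 ((mul_eq_zero.1 (show (2 : ZMod p) * x = 0 by linear_combination e)).resolve_left h21)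
    · exact Or.inl (by simpa [B] using h0)) _ h rfl
  have hval : ((wS : SL) * B).1 = !![y, -x; -x, -y] := by
    rw [Matrix.SpecialLinearGroup.coe_mul]
    show (wS : SL).1 * !![x, y; y, -x] = _
    ext i j; fin_cases i <;> fin_cases j <;> simp [Matrix.mul_apply, Fin.sum_univ_two]
  have hnab : (wS : SL) * B ∉ Subgroup.center SL := fun h => hnc _ (by
    rcases hx0 with h0 | h0
    · exact Or.inl (by simpa [hval] using h0)
    · refine Or.inr ?_
      simp [hval]
      intro e
      exact h0 ((mul_eq_zero.1 (show (2 : ZMod p) * y = 0 by linear_combination e)).resolve_left h21)) _ h rfl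
  obtain ⟨ha1, haz⟩ := himg _ hna
  obtain ⟨hb1, hbz⟩ := himg _ hnb
  obtain ⟨hab1, habz⟩ : a * b ≠ 1 ∧ a * b ≠ z := by
    have h := himg _ hnab
    rwa [map_mul, Subgroup.coe_mul] at h
  -- a two-group containing everything
  set P := Subgroup.zpowers a ⊔ Subgroup.zpowers b ⊔ Subgroup.zpowers s with hP
  have haP : a ∈ P := Subgroup.mem_sup_left (Subgroup.mem_sup_left (Subgroup.mem_zpowers a))
  have hbP : b ∈ P := Subgroup.mem_sup_left (Subgroup.mem_sup_right (Subgroup.mem_zpowers b))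
  have hsP : s ∈ P := Subgroup.mem_sup_right (Subgroup.mem_zpowers s)
  have hcyc4 : ∀ g : G, g * g = z → IsPGroup 2 (Subgroup.zpowers g) := fun g hg => by
    intro u
    obtain ⟨i, hi⟩ := u.2
    refine ⟨2, Subtype.ext ?_⟩
    have hg4 : g ^ (4 : ℤ) = 1 := by
      rw [show (4 : ℤ) = ((4 : ℕ) : ℤ) from rfl, zpow_natCast, show (4 : ℕ) = 2 * 2 from rfl, pow_mul, pow_two g, hg,
        pow_two, hzz]
    have hi' : g ^ i = (u : G) := hi
    rw [Subgroup.coe_pow, ← hi', Subgroup.coe_one, show 2 ^ 2 = 4 from rfl, ← zpow_natCast (g ^ i) 4, ← zpow_mul,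
      mul_comm, zpow_mul, Nat.cast_ofNat, hg4, one_zpow]
  have hPp : IsPGroup 2 P := by
    have h1 : IsPGroup 2 (Subgroup.zpowers a ⊔ Subgroup.zpowers b : Subgroup G) := by
      refine IsPGroup.to_sup_of_normal_left' (hcyc4 a haa) (hcyc4 b hbb) ?_
      rw [Subgroup.zpowers_le]
      have hconj : b * a * b⁻¹ = a⁻¹ := by
        simp only [a, b, ← InvMemClass.coe_inv, ← Subgroup.coe_mul, ← map_inv, ← map_mul, hBW]
      rw [Subgroup.mem_normalizer_iff]
      intro u
      constructor
      · rintro ⟨i, rfl⟩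
        exact ⟨-i, by show a ^ (-i) = b * a ^ i * b⁻¹; rw [← conj_zpow, hconj, inv_zpow, zpow_neg]⟩
      · rintro ⟨i, hi⟩
        refine ⟨-i, ?_⟩
        have hi' : a ^ i = b * u * b⁻¹ := hi
        show a ^ (-i) = u
        have h : b⁻¹ * a * b = a⁻¹ := by
          calc b⁻¹ * a * b = b⁻¹ * (a⁻¹)⁻¹ * b := by rw [inv_inv]
            _ = b⁻¹ * (b * a * b⁻¹)⁻¹ * b := by rw [hconj]
            _ = a⁻¹ := by group
        calc a ^ (-i) = (a⁻¹) ^ i := by rw [inv_zpow, zpow_neg]
          _ = (b⁻¹ * a * b⁻¹⁻¹) ^ i := by rw [inv_inv, h]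
          _ = b⁻¹ * (a ^ i) * b := by rw [conj_zpow, inv_inv]
          _ = u := by rw [hi']; group
    refine IsPGroup.to_sup_of_normal_right' h1 ?_ ?_
    · intro u
      obtain ⟨i, hi⟩ := u.2
      refine ⟨k, Subtype.ext ?_⟩
      have hi' : s ^ i = (u : G) := hi
      have hs1 : s ^ (2 ^ k : ℕ) = 1 := by rw [hs, ← pow_mul, mul_comm, pow_mul, hk, one_pow]
      rw [Subgroup.coe_pow, ← hi', Subgroup.coe_one, ← zpow_natCast (s ^ i) (2 ^ k), ← zpow_mul, mul_comm, zpow_mul,
        zpow_natCast, hs1, one_zpow]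
    · have hnorm : ∀ l ∈ L, l ∈ Subgroup.normalizer ((Subgroup.zpowers s : Subgroup G) : Set G) := fun l hl => by
        rw [Subgroup.mem_normalizer_iff]
        intro u
        have hcu : ∀ i : ℤ, l * s ^ i * l⁻¹ = s ^ i := fun i => by
          rw [((hsC l hl).zpow_right i).eq, mul_inv_cancel_right]
        constructor
        · rintro ⟨i, rfl⟩
          exact ⟨i, (hcu i).symm⟩
        · rintro ⟨i, hi⟩
          refine ⟨i, ?_⟩
          exact mul_left_cancel (mul_right_cancel ((hcu i).trans hi))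
      exact sup_le (Subgroup.zpowers_le.2 (hnorm a haL)) (Subgroup.zpowers_le.2 (hnorm b hbL))
  obtain ⟨C, hC, hCi⟩ := h2.exists_cyclic hPp
  haveI := hC
  have hmul : ∀ u v : P, u ∉ C → v ∉ C → u * v ∈ C := fun u v hu hv => by
    rcases (Nat.dvd_prime Nat.prime_two).1 hCi with h | h
    · rw [Subgroup.index_eq_one] at h
      exact absurd (h ▸ Subgroup.mem_top u) hu
    · exact (Subgroup.mul_mem_iff_of_index_two h).2 (iff_of_false hu hv)
  have hsq : ∀ u : P, u * u ∈ C := fun u => by
    by_cases hu : u ∈ C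
    exacts [mul_mem hu hu, hmul u u hu hu]
  -- the involution of `C` lies in `L`
  have hinv : ∀ u v : P, u ∈ C → v ∈ C → u * u = 1 → u ≠ 1 → v * v = 1 → v = 1 ∨ v = u := by
    intro u v hu hv huu hu1 hvv
    rcases sq_one_cases (u := (⟨u, hu⟩ : C)) (v := ⟨v, hv⟩) (Subtype.ext huu) (fun h => hu1 (congrArg Subtype.val h))
      (Subtype.ext hvv) with h | h
    exacts [Or.inl (congrArg Subtype.val h), Or.inr (congrArg Subtype.val h)]
  have hsL : s * s ∈ L := by rw [hs, ← pow_add, ← two_mul, ← pow_succ']; exact hj'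
  obtain ⟨A, hA⟩ := hf ⟨s * s, hsL⟩
  have hA' : ((f A : L) : G) = s * s := congrArg Subtype.val hA
  have hsz : s * s = 1 ∨ s * s = z := by
    have hAc : A ∈ Subgroup.center SL := central_image hp f hker fun B' => Subtype.ext (by
      show ((f A : L) : G) * (f B' : L) = (f B' : L) * ((f A : L) : G)
      rw [hA']
      exact ((hsC _ (f B').2).mul_right (hsC _ (f B').2)).symm.eq)
    rcases center_cases hAc with h | h
    · left; rw [← hA', h, map_one]; rfl
    · right; rw [← hA', h]
  -- two of the three elements avoid `C`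
  suffices hmain : ∀ u v : G, u ∈ L → v ∈ L → u ∈ P → v ∈ P → u * u = z → v * v = z → u * v * (u * v) = z →
      u * v ≠ 1 → u ≠ v → (∀ hu hv, (⟨u, hu⟩ : P) ∉ C ∧ (⟨v, hv⟩ : P) ∉ C) → False by
    have hne_ab : a ≠ b := fun h => by rw [h, hbb] at habz; exact habz rfl
    by_cases hca : (⟨a, haP⟩ : P) ∈ C
    · by_cases hcb : (⟨b, hbP⟩ : P) ∈ C
      · -- all three in the cyclic group
        have hcab := mul_mem hca hcb
        have hcomm : a * b = b * a := by
          letI : CommGroup C := IsCyclic.commGroup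
          exact congrArg (fun u : C => ((u : P) : G)) (mul_comm (⟨_, hca⟩ : C) ⟨_, hcb⟩)
        have hz1 : z = 1 := by
          have h4 := habab
          rw [show a * b * (a * b) = a * (b * a) * b by group, ← hcomm,
            show a * (a * b) * b = (a * a) * (b * b) by group, haa, hbb, hzz] at h4
          exact h4.symm
        rcases hinv ⟨a, haP⟩ ⟨b, hbP⟩ hca hcb (Subtype.ext (haa.trans hz1))
          (fun h => ha1 (congrArg Subtype.val h)) (Subtype.ext (hbb.trans hz1)) with h | h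
        · exact hb1 (congrArg Subtype.val h)
        · exact hne_ab (congrArg Subtype.val h).symm
      · -- `b` and `ab`
        have hab' : (⟨a * b, mul_mem haP hbP⟩ : P) ∉ C := fun h => hcb (by
          rw [show (⟨b, hbP⟩ : P) = ⟨a, haP⟩⁻¹ * ⟨a * b, mul_mem haP hbP⟩ from
            Subtype.ext (inv_mul_cancel_left a b).symm]
          exact mul_mem (inv_mem hca) h)
        refine hmain (a * b) b (mul_mem haL hbL) hbL (mul_mem haP hbP) hbP habab hbb ?_ ?_ ?_ fun _ _ => ⟨hab', hcb⟩
        · rw [mul_assoc a b b, hbb]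
          calc a * z * (a * z) = a * (z * a) * z := by group
            _ = a * a * (z * z) := by rw [(hzc a haL).eq]; group
            _ = z := by rw [haa, hzz, mul_one]
        · intro h
          rw [mul_assoc, hbb] at h
          refine haz ?_
          calc a = a * (z * z) := by rw [hzz, mul_one]
            _ = a * z * z := by rw [mul_assoc]
            _ = z := by rw [h, one_mul]
        · intro h
          exact ha1 (mul_eq_right.1 h)
    · by_cases hcb : (⟨b, hbP⟩ : P) ∈ C
      · -- `a` and `ab`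
        have hab' : (⟨a * b, mul_mem haP hbP⟩ : P) ∉ C := fun h => hca (by
          rw [show (⟨a, haP⟩ : P) = ⟨a * b, mul_mem haP hbP⟩ * ⟨b, hbP⟩⁻¹ from
            Subtype.ext (mul_inv_cancel_right a b).symm]
          exact mul_mem h (inv_mem hcb))
        refine hmain a (a * b) haL (mul_mem haL hbL) haP (mul_mem haP hbP) haa habab ?_ ?_ ?_ fun _ _ => ⟨hca, hab'⟩
        · rw [← mul_assoc a a b, haa]
          calc z * b * (z * b) = z * (b * z) * b := by group
            _ = z * z * (b * b) := by rw [← (hzc b hbL).eq]; group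
            _ = z := by rw [hbb, hzz, one_mul]
        · intro h
          rw [← mul_assoc, haa] at h
          refine hbz ?_
          calc b = z * z * b := by rw [hzz, one_mul]
            _ = z := by rw [mul_assoc, h, mul_one]
        · intro h
          exact hb1 (left_eq_mul.1 h)
      · exact hmain a b haL hbL haP hbP haa hbb habab hab1 hne_ab fun _ _ => ⟨hca, hcb⟩
  intro u v huL hvL huP hvP huu hvv huv huv1 hne hout
  obtain ⟨hu, hv⟩ := hout huP hvP
  set U : P := ⟨u, huP⟩
  set V : P := ⟨v, hvP⟩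
  set σ' : P := ⟨s, hsP⟩ with hS
  have hUV : U * V ∈ C := hmul U V hu hv
  have hzP : z ∈ P := huu ▸ mul_mem huP huP
  set Z : P := ⟨z, hzP⟩ with hZ
  have hZC : Z ∈ C := by
    have h := hsq U
    rwa [show U * U = Z from Subtype.ext huu] at h
  -- the involution
  obtain ⟨ι, hιC, hιι, hι1, hιL⟩ : ∃ ι : P, ι ∈ C ∧ ι * ι = 1 ∧ ι ≠ 1 ∧ (ι : G) ∈ L := by
    by_cases hz1 : z = 1
    · exact ⟨U * V, hUV, Subtype.ext (huv.trans hz1), fun h => huv1 (congrArg Subtype.val h), mul_mem huL hvL⟩
    · exact ⟨Z, hZC, Subtype.ext hzz, fun h => hz1 (congrArg Subtype.val h), hzL⟩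
  have hin : ∀ w : P, w ∈ C → w * w = 1 → (w : G) ∈ L := fun w hw hww => by
    rcases hinv ι w hιC hw hιι hι1 hww with h | h <;> rw [h]
    exacts [one_mem L, hιL]
  have hC' : ∀ w₁ w₂ : P, w₁ ∈ C → w₂ ∈ C → w₁ * w₂ = w₂ * w₁ := fun w₁ w₂ h₁ h₂ => by
    letI : CommGroup C := IsCyclic.commGroup
    exact congrArg Subtype.val (mul_comm (⟨_, h₁⟩ : C) ⟨_, h₂⟩)
  have hsu : Commute u s := hsC u huL
  have hsv : Commute v s := hsC v hvL
  by_cases hst : σ' ∈ C
  · rcases hsz with h | h
    · exact hj (hin σ' hst (Subtype.ext h))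
    · have hw : σ'⁻¹ * (U * V) * (σ'⁻¹ * (U * V)) = 1 := Subtype.ext (by
        show s⁻¹ * (u * v) * (s⁻¹ * (u * v)) = 1
        calc s⁻¹ * (u * v) * (s⁻¹ * (u * v)) = s⁻¹ * ((u * v) * s⁻¹) * (u * v) := by group
          _ = (s * s)⁻¹ * ((u * v) * (u * v)) := by rw [((hsu.mul_left hsv).inv_right).eq]; group
          _ = 1 := by rw [h, huv, inv_mul_cancel])
      have h' := hin _ (mul_mem (inv_mem hst) hUV) hw
      refine hj ?_
      have h'' : s⁻¹ * (u * v) * (u * v)⁻¹ ∈ L := mul_mem h' (inv_mem (mul_mem huL hvL))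
      rw [mul_inv_cancel_right] at h''
      exact inv_mem_iff.1 h''
  · have hUS : U * σ' ∈ C := hmul U σ' hu hst
    have husq : u * s * (u * s) = z * (s * s) := by
      rw [hsu.mul_mul_mul_comm u s |> fun _ => (show u * s * (u * s) = u * u * (s * s) by
        calc u * s * (u * s) = u * (s * u) * s := by group
          _ = u * (u * s) * s := by rw [hsu.eq]
          _ = _ := by group), huu]
    have hfin : u * s * (u * s) = 1 → False := fun h => by
      have h' := hin _ hUS (Subtype.ext h)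
      refine hj ?_
      have h'' : u⁻¹ * (u * s) ∈ L := mul_mem (inv_mem huL) h'
      rwa [inv_mul_cancel_left] at h''
    by_cases hz1 : z = 1
    · refine hfin ?_
      rcases hsz with h | h <;> rw [husq, h, hz1, one_mul]
    rcases hsz with h | h
    · have hVS : V * σ' ∈ C := hmul V σ' hv hst
      have hw : (U * σ')⁻¹ * (V * σ') * ((U * σ')⁻¹ * (V * σ')) = 1 := by
        have e1 : (U * σ') * (U * σ') = Z := Subtype.ext (by show u * s * (u * s) = z; rw [husq, h, mul_one])
        have e2 : (V * σ') * (V * σ') = Z := Subtype.ext (by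
          show v * s * (v * s) = z
          calc v * s * (v * s) = v * (s * v) * s := by group
            _ = v * (v * s) * s := by rw [hsv.eq]
            _ = z := by rw [← mul_assoc v v s, hvv, mul_assoc, h, mul_one])
        have hcm := hC' _ _ (inv_mem hUS) hVS
        calc _ = (U * σ')⁻¹ * ((V * σ') * (U * σ')⁻¹) * (V * σ') := by group
          _ = (U * σ')⁻¹ * ((U * σ')⁻¹ * (V * σ')) * (V * σ') := by rw [hcm]
          _ = ((U * σ') * (U * σ'))⁻¹ * ((V * σ') * (V * σ')) := by group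
          _ = 1 := by rw [e1, e2, inv_mul_cancel]
      have hmem : (U * σ')⁻¹ * (V * σ') ∈ C := mul_mem (inv_mem hUS) hVS
      have hval : (((U * σ')⁻¹ * (V * σ') : P) : G) = u⁻¹ * v := by
        show (u * s)⁻¹ * (v * s) = u⁻¹ * v
        rw [hsu.eq, hsv.eq]; group
      rcases hinv Z _ hZC hmem (Subtype.ext hzz) (fun e => hz1 (congrArg Subtype.val e)) hw with e | e
      · have : u⁻¹ * v = 1 := hval ▸ congrArg Subtype.val e
        exact hne (inv_mul_eq_one.1 this)
      · have e' : u⁻¹ * v = z := hval ▸ congrArg Subtype.val e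
        -- then `uv = u u z = 1`
        refine huv1 ?_
        rw [show u * v = u * u * (u⁻¹ * v) by group, huu, e', hzz]
    · exact hfin (by rw [husq, h, hzz])

theorem structure_thm (hns : ¬ Group.IsSolvable G) (hcyc : OddCyclic G) (h2 : CyclicTwo G) :
    ∃ G₀ : Subgroup G, G₀.Normal ∧ G₀.index ∣ 2 ∧
      ∃ X L : Subgroup ↥G₀, X.Normal ∧ L.Normal ∧ X ⊓ L = ⊥ ∧ X ⊔ L = ⊤ ∧ (Nat.card X).Coprime (Nat.card L) ∧
        Odd (Nat.card X) ∧ (∃ (C : Subgroup ↥X) (_ : C.Normal), IsCyclic C ∧ IsCyclic (↥X ⧸ C)) ∧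
        ∃ (p : ℕ) (_ : Fact p.Prime), 5 ≤ p ∧
          (Nonempty (↥L ≃* Matrix.ProjectiveSpecialLinearGroup (Fin 2) (ZMod p)) ∨
           Nonempty (↥L ≃* Matrix.SpecialLinearGroup (Fin 2) (ZMod p))) := by
  classical
  haveI : Fact (Nat.Prime 2) := ⟨Nat.prime_two⟩
  obtain ⟨L, hLn, hL0, hLp, -⟩ := exists_perfect_sub hns
  haveI := hLn
  haveI : Nontrivial L := (Subgroup.nontrivial_iff_ne_bot L).2 hL0
  obtain ⟨p, _, hp, f, hf, hker⟩ := perfect_shape hLp (hcyc.subgroup L) (h2.subgroup L)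
  set C := Subgroup.centralizer (L : Set G) with hC
  haveI hCn : C.Normal := inferInstance
  -- the normal complement in `C`
  obtain ⟨T⟩ : Nonempty (Sylow 2 C) := inferInstance
  have htwo : ∀ c : C, (∃ k, c ^ 2 ^ k = 1) → (c : G) ∈ L := fun c ⟨k, hk⟩ =>
    two_part hp h2 L f hf hker c.2 ⟨k, congrArg Subtype.val hk⟩
  have hnp : Cfsg.HasNormalPComplement 2 C := Fusion.hnpc_of_normalizer_le_centralizer T fun n _ =>
    Subgroup.mem_centralizer_iff.2 fun t ht => Subtype.ext (by
      obtain ⟨k, hk⟩ := T.2 ⟨t, ht⟩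
      exact Subgroup.mem_centralizer_iff.1 n.2 _ (htwo t ⟨k, congrArg Subtype.val hk⟩))
  haveI : (Cfsg.pResidual 2 C).Characteristic := Fusion.pResidual_characteristic
  set X := (Cfsg.pResidual 2 C).map C.subtype with hX
  haveI hXn : X.Normal := ConjAct.normal_of_characteristic_of_normal
  have hXodd : Odd (Nat.card X) := by
    rw [hX, Subgroup.card_map_of_injective C.subtype_injective]
    exact Nat.coprime_two_right.1 (Fusion.hnpc_iff.1 hnp)
  have hXC : X ≤ C := Subgroup.map_subtype_le _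
  have hCle : C ≤ X ⊔ L := by
    intro c hc
    obtain ⟨k, hk⟩ := Fusion.isPGroup_quotient_pResidual (p := 2) (QuotientGroup.mk (⟨c, hc⟩ : C))
    rw [← QuotientGroup.mk_pow, QuotientGroup.eq_one_iff] at hk
    have h1 : c ^ 2 ^ k ∈ X := ⟨_, hk, rfl⟩
    obtain ⟨a, m, hm, hcm⟩ := Nat.exists_eq_two_pow_mul_odd (orderOf_pos c).ne'
    have h2' : c ^ m ∈ L := htwo ⟨c ^ m, pow_mem hc m⟩ ⟨a, Subtype.ext (by
      show (c ^ m) ^ 2 ^ a = 1
      rw [← pow_mul, mul_comm, ← hcm, pow_orderOf_eq_one])⟩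
    have hcop : Nat.gcd (2 ^ k) m = 1 := Nat.Coprime.pow_left k (Nat.coprime_two_left.2 hm)
    have hb := Nat.gcd_eq_gcd_ab (2 ^ k) m
    rw [hcop] at hb
    push_cast at hb
    have : c = (c ^ (2 ^ k : ℕ)) ^ (Nat.gcdA (2 ^ k) m) * (c ^ m) ^ (Nat.gcdB (2 ^ k) m) := by
      rw [← zpow_natCast c (2 ^ k), ← zpow_natCast c m, ← zpow_mul, ← zpow_mul, ← zpow_add]
      push_cast
      rw [← hb, zpow_one]
    rw [this]
    exact mul_mem (Subgroup.mem_sup_left (zpow_mem h1 _)) (Subgroup.mem_sup_right (zpow_mem h2' _))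
  set G₀ := X ⊔ L with hG₀
  haveI hG₀n : G₀.Normal := Subgroup.sup_normal X L
  -- inner action
  have hinner : ∀ x : G, (∃ l : L, ∀ y, MulAut.conjNormal x y = l * y * l⁻¹) → x ∈ G₀ := by
    rintro x ⟨l, hl⟩
    have hc : (l : G)⁻¹ * x ∈ C := Subgroup.mem_centralizer_iff.2 fun y hy => by
      have h : x * y * x⁻¹ = (l : G) * y * (l : G)⁻¹ := congrArg Subtype.val (hl ⟨y, hy⟩)
      calc y * ((l : G)⁻¹ * x) = (l : G)⁻¹ * ((l : G) * y * (l : G)⁻¹) * x := by group
        _ = (l : G)⁻¹ * (x * y * x⁻¹) * x := by rw [h]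
        _ = (l : G)⁻¹ * x * y := by group
    have := mul_mem (Subgroup.mem_sup_right (S := X) l.2) (hCle hc)
    rwa [mul_inv_cancel_left] at this
  have hidx : G₀.index ∣ 2 := by
    by_cases htop : G₀ = ⊤
    · rw [htop, Subgroup.index_top]; exact one_dvd _
    obtain ⟨a, ha⟩ : ∃ a, a ∉ G₀ := by
      by_contra h
      simp only [not_exists, not_not] at h
      exact htop ((Subgroup.eq_top_iff' _).2 h)
    refine dvd_of_eq (Subgroup.index_eq_two_iff.2 ⟨a, fun b => ?_⟩)
    by_cases hb : b ∈ G₀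
    · exact Or.inr ⟨hb, fun h => ha ((G₀.mul_mem_cancel_left hb).1 h)⟩
    · refine Or.inl ⟨hinner _ ?_, hb⟩
      obtain ⟨l, hl⟩ := outer_mul hp f hf hker (fun h => hb (hinner b h)) (fun h => ha (hinner a h))
      exact ⟨l, fun y => by rw [map_mul, MulAut.mul_apply]; exact hl y⟩
  refine ⟨G₀, hG₀n, hidx, X.subgroupOf G₀, L.subgroupOf G₀, inferInstance, inferInstance, ?_, ?_, ?_, ?_, ?_, ?_⟩
  all_goals
    have hXc : Nat.card (X.subgroupOf G₀) = Nat.card X :=
      Nat.card_congr (Subgroup.subgroupOfEquivOfLe le_sup_left).toEquiv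
    have hLc : Nat.card (L.subgroupOf G₀) = Nat.card L :=
      Nat.card_congr (Subgroup.subgroupOfEquivOfLe le_sup_right).toEquiv
    have hXL : X ⊓ L = ⊥ := by
      rw [Subgroup.eq_bot_iff_forall]
      rintro u ⟨hux, hul⟩
      obtain ⟨A, hA⟩ := hf ⟨u, hul⟩
      have hc : A ∈ Subgroup.center _ := central_image hp f hker fun B => Subtype.ext (by
        show ((f A : L) : G) * (f B : L) = (f B : L) * ((f A : L) : G)
        rw [show ((f A : L) : G) = u from congrArg Subtype.val hA]
        exact (Subgroup.mem_centralizer_iff.1 (hXC hux) _ (f B).2).symm)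
      have h2u : u * u = 1 := by
        have hA2 : A * A = 1 := by
          rcases center_cases hc with h | h <;> rw [h] <;> simp
        have := congrArg (fun B => ((f B : L) : G)) hA2
        simp only [map_mul, map_one, Subgroup.coe_mul, Subgroup.coe_one] at this
        rwa [show ((f A : L) : G) = u from congrArg Subtype.val hA] at this
      have hd : orderOf u ∣ Nat.gcd 2 (Nat.card X) :=
        Nat.dvd_gcd (orderOf_dvd_of_pow_eq_one (by rw [pow_two]; exact h2u)) (Subgroup.orderOf_dvd_natCard _ hux)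
      rw [(Nat.coprime_two_left.2 hXodd).gcd_eq_one] at hd
      exact orderOf_eq_one_iff.1 (Nat.dvd_one.1 hd)
  · rw [Subgroup.eq_bot_iff_forall]
    rintro u ⟨hux, hul⟩
    have h : (u : G) ∈ X ⊓ L := ⟨hux, hul⟩
    rw [hXL, Subgroup.mem_bot] at h
    exact Subtype.ext h
  · rw [← Subgroup.subgroupOf_sup le_sup_left le_sup_right, Subgroup.subgroupOf_self]
  · rw [hXc, hLc]
    refine Nat.coprime_of_dvd fun r hr hrX hrL => ?_
    haveI : Fact r.Prime := ⟨hr⟩
    obtain ⟨x, hx⟩ := exists_prime_orderOf_dvd_card' (G := X) r hrX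
    obtain ⟨l, hl⟩ := exists_prime_orderOf_dvd_card' (G := L) r hrL
    have hr2 : r ≠ 2 := by
      rintro rfl
      exact Nat.not_even_iff_odd.2 hXodd (even_iff_two_dvd.2 hrX)
    have hxo : orderOf (x : G) = r := by rw [Subgroup.orderOf_coe, hx]
    have hlo : orderOf (l : G) = r := by rw [Subgroup.orderOf_coe, hl]
    have hxl : Commute (l : G) (x : G) := Subgroup.mem_centralizer_iff.1 (hXC x.2) l l.2
    have hP : IsPGroup r (Subgroup.zpowers (l : G) ⊔ Subgroup.zpowers (x : G) : Subgroup G) := by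
      refine IsPGroup.to_sup_of_normal_left' (IsPGroup.of_card (n := 1) (by rw [Nat.card_zpowers, hlo, pow_one]))
        (IsPGroup.of_card (n := 1) (by rw [Nat.card_zpowers, hxo, pow_one])) ?_
      rw [Subgroup.zpowers_le, Subgroup.mem_normalizer_iff]
      intro t
      constructor
      · rintro ⟨k, rfl⟩
        exact ⟨k, by
          show (l : G) ^ k = x * (l : G) ^ k * (x : G)⁻¹
          rw [(hxl.symm.zpow_right k).eq, mul_inv_cancel_right]⟩
      · rintro ⟨k, hk⟩
        refine ⟨k, ?_⟩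
        show (l : G) ^ k = t
        have hk' : (l : G) ^ k = x * t * (x : G)⁻¹ := hk
        calc (l : G) ^ k = (x : G)⁻¹ * ((x : G) * (l : G) ^ k) := by group
          _ = (x : G)⁻¹ * ((l : G) ^ k * x) := by rw [(hxl.symm.zpow_right k).eq]
          _ = (x : G)⁻¹ * (x * t * (x : G)⁻¹ * x) := by rw [hk']
          _ = t := by group
    haveI := hcyc.pgroup hr2 hP
    have h : (x : G) ∈ X ⊓ L := ⟨x.2, (Subgroup.zpowers_le.2 l.2) (mem_zpowers_of_cyclic hr
      (Subgroup.mem_sup_left (Subgroup.mem_zpowers _)) (Subgroup.mem_sup_right (Subgroup.mem_zpowers _)) hlo hxo)⟩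
    rw [hXL, Subgroup.mem_bot] at h
    rw [h, orderOf_one] at hxo
    exact hr.one_lt.ne hxo
  · rw [hXc]; exact hXodd
  · haveI : IsZGroup (X.subgroupOf G₀) := (isZGroup_iff _).2 fun r hr P => by
      haveI : Fact r.Prime := ⟨hr⟩
      rcases eq_or_ne r 2 with rfl | hr2
      · have hco : ¬ 2 ∣ Nat.card (X.subgroupOf G₀) := fun h => by
          rw [hXc] at h
          exact Nat.not_even_iff_odd.2 hXodd (even_iff_two_dvd.2 h)
        obtain ⟨k, hk⟩ := IsPGroup.iff_card.1 P.isPGroup'
        rcases Nat.eq_zero_or_pos k with rfl | hk0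
        · haveI : Subsingleton (P : Subgroup (X.subgroupOf G₀)) :=
            (Nat.card_eq_one_iff_unique.1 (by rw [hk, pow_zero])).1
          infer_instance
        · exact absurd ((dvd_pow_self 2 hk0.ne').trans (hk ▸ Subgroup.card_subgroup_dvd_card _)) hco
      · exact (hcyc.subgroup G₀).subgroup (X.subgroupOf G₀) r hr hr2 P
    exact ⟨commutator _, inferInstance, IsZGroup.isCyclic_commutator _, IsZGroup.isCyclic_abelianization⟩
  · refine ⟨p, inferInstance, hp, ?_⟩
    let eL : (L.subgroupOf G₀) ≃* L := Subgroup.subgroupOfEquivOfLe le_sup_right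
    by_cases hinj : f.ker = ⊥
    · exact Or.inr ⟨eL.trans (MulEquiv.ofBijective f ⟨(MonoidHom.ker_eq_bot_iff f).1 hinj, hf⟩).symm⟩
    · refine Or.inl ⟨eL.trans ((QuotientGroup.quotientKerEquivOfSurjective f hf).symm.trans
        (QuotientGroup.quotientMulEquivOfEq (le_antisymm hker fun A hA => ?_)))⟩
      obtain ⟨B, hB, hB1⟩ := (Subgroup.bot_or_exists_ne_one f.ker).resolve_left hinj
      rcases center_cases hA with rfl | rfl
      · exact one_mem _
      · rcases center_cases (hker hB) with h | h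
        · exact absurd h hB1
        · exact h ▸ hB

end Cfsg.Agent.Solv.AlmostCyclic
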